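import Groth.Statements.S3701
import Groth.Agent.Pi1A.SteinCover
import Groth.Agent.S0388
import Groth.Agent.S0981
import Groth.Agent.S1327
import Groth.Agent.S0114
import Groth.Agent.S1128

set_option autoImplicit false
universe u
open Pi1

namespace Groth.Agent.S3701

open AlgebraicGeometry CategoryTheory CategoryTheory.Limits in
/-- Let f : X -> S be proper, flat and of finite presentation with geometrically reduced fibres. Then in
the Stein factorization X -> S' -> S, where S' is the normalization of S in X, the morphism S' -> S
is finite etale. -/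
theorem result {X S : Scheme.{u}} (f : X ⟶ S) [IsProper f] [Flat f]
    [LocallyOfFinitePresentation f]
    (hred : ∀ (Ω : Type u) [Field Ω] [IsAlgClosed Ω] (σ : Spec (CommRingCat.of Ω) ⟶ S), IsReduced (pullback f σ)) :
    IsFinite f.fromNormalization ∧ Etale f.fromNormalization := by
  have hgr : GeometricallyReduced f :=
    Groth.Agent.Pi1A.SteinCover.geometricallyReduced_of_isAlgClosed f fun Ω _ _ s => hred Ω s
  have h := Groth.Agent.Pi1A.SteinEtale.main
    (fun f _ => Groth.Agent.S0388.result f)
    (fun f s hs _ _ _ _ y hy => Groth.Agent.S1327.result f s hs y hy)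
    (fun f _ _ _ h V => Groth.Agent.S0981.result f h V)
    (fun f q _ _ _ _ => Groth.Agent.S0114.result f q)
    (fun f g _ _ _ => Groth.Agent.S1128.result f g) f
  exact ⟨h.1, h.2.1⟩

end Groth.Agent.S3701
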