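-- Solution of statement S4211 (row 4210).
import Groth.Statements.S4211
import Mathlib.CategoryTheory.Sites.CoverPreserving

set_option autoImplicit false
universe u
open An

namespace Groth.Agent.S4211

open CategoryTheory TopologicalSpace Topology Opposite

variable {T : Type u} [TopologicalSpace T]

theorem mem_inf {A : Cl T} {U V : Opens T} (f : A ⟶ (opensToCl T).obj U)
    (g : A ⟶ (opensToCl T).obj V) (a : A.E) : A.p a ∈ U ⊓ V := by
  have h1 : (f.toFun a).1 = A.p a := f.over a
  have h2 : (g.toFun a).1 = A.p a := g.over a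
  refine ⟨?_, ?_⟩
  · rw [← h1]; exact (f.toFun a).2
  · rw [← h2]; exact (g.toFun a).2

/-- Factor a pair of morphisms from an object of the classical site to two opens through the
intersection of the two opens. -/
def liftInf {A : Cl T} {U V : Opens T} (f : A ⟶ (opensToCl T).obj U) (g : A ⟶ (opensToCl T).obj V) :
    A ⟶ (opensToCl T).obj (U ⊓ V) :=
  ⟨fun a => ⟨A.p a, mem_inf f g a⟩, Continuous.subtype_mk A.lh.continuous _, fun _ => rfl⟩

theorem liftInf_fst {A : Cl T} {U V : Opens T} (f : A ⟶ (opensToCl T).obj U)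
    (g : A ⟶ (opensToCl T).obj V) :
    liftInf f g ≫ (opensToCl T).map (homOfLE inf_le_left) = f := by
  apply Cl.hom_ext
  funext a
  apply Subtype.ext
  exact (f.over a).symm

theorem liftInf_snd {A : Cl T} {U V : Opens T} (f : A ⟶ (opensToCl T).obj U)
    (g : A ⟶ (opensToCl T).obj V) :
    liftInf f g ≫ (opensToCl T).map (homOfLE inf_le_right) = g := by
  apply Cl.hom_ext
  funext a
  apply Subtype.ext
  exact (g.over a).symm

theorem compatiblePreserving : CompatiblePreserving (Cl.topology T) (opensToCl T) where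
  compatible ℱ Z R x hx Y₁ Y₂ X f₁ f₂ g₁ g₂ hg₁ hg₂ _ := by
    have h := hx (homOfLE (inf_le_left : Y₁ ⊓ Y₂ ≤ Y₁)) (homOfLE (inf_le_right : Y₁ ⊓ Y₂ ≤ Y₂))
      hg₁ hg₂ (Subsingleton.elim _ _)
    have h' := congrArg (ℱ.obj.map (liftInf f₁ f₂).op) h
    have e₁ : ℱ.obj.map (liftInf f₁ f₂).op (((opensToCl T).op ⋙ ℱ.obj).map
        (homOfLE (inf_le_left : Y₁ ⊓ Y₂ ≤ Y₁)).op (x g₁ hg₁)) = ℱ.obj.map f₁.op (x g₁ hg₁) := by
      rw [← congrArg (fun k => ℱ.obj.map k.op (x g₁ hg₁)) (liftInf_fst f₁ f₂)]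
      simp
    have e₂ : ℱ.obj.map (liftInf f₁ f₂).op (((opensToCl T).op ⋙ ℱ.obj).map
        (homOfLE (inf_le_right : Y₁ ⊓ Y₂ ≤ Y₂)).op (x g₂ hg₂)) = ℱ.obj.map f₂.op (x g₂ hg₂) := by
      rw [← congrArg (fun k => ℱ.obj.map k.op (x g₂ hg₂)) (liftInf_snd f₁ f₂)]
      simp
    rw [e₁, e₂] at h'
    exact h'

theorem isOpenEmbedding_map {U V : Opens T} (f : U ⟶ V) :
    IsOpenEmbedding ((opensToCl T).map f).toFun :=
  IsOpenEmbedding.of_comp _ V.2.isOpenEmbedding_subtypeVal U.2.isOpenEmbedding_subtypeVal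

theorem coverPreserving :
    CoverPreserving (Opens.grothendieckTopology T) (Cl.topology T) (opensToCl T) where
  cover_preserve {U S} hS := by
    rintro ⟨a, ha⟩
    obtain ⟨V, f, hf, haV⟩ := hS a ha
    exact ⟨(opensToCl T).obj V, (opensToCl T).map f,
      Sieve.image_mem_functorPushforward _ _ hf, isOpenEmbedding_map f, ⟨a, haV⟩, rfl⟩

/-- For a topological space T, the inclusion of the opens of T into the site of local homeomorphisms
over T is continuous. This is the hypothesis An.OpCont carried by statements that restrict classical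
sheaves to opens. -/
theorem result (T : Type u) [TopologicalSpace T] :
    An.OpCont T :=
  Functor.isContinuous_of_coverPreserving compatiblePreserving coverPreserving

end Groth.Agent.S4211
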