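-- Solution of statement S4212 (row 4211).
import Groth.Statements.S4212
import Groth.Agent.S4211
import Mathlib.CategoryTheory.Sites.DenseSubsite.SheafEquiv

set_option autoImplicit false
universe u
open An

namespace Groth.Agent.S4212

open CategoryTheory TopologicalSpace Topology Opposite

variable {T : Type u} [TopologicalSpace T]

instance full : (opensToCl T).Full where
  map_surjective {U V} f := by
    have hUV : U ≤ V := by
      intro x hx
      have h := f.over ⟨x, hx⟩
      change (f.toFun ⟨x, hx⟩).1 = x at h
      rw [← h]
      exact (f.toFun ⟨x, hx⟩).2
    refine ⟨homOfLE hUV, ?_⟩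
    apply Cl.hom_ext
    funext a
    apply Subtype.ext
    exact (f.over a).symm

instance faithful : (opensToCl T).Faithful where
  map_injective _ := Subsingleton.elim _ _

theorem isCoverDense : (opensToCl T).IsCoverDense (Cl.topology T) where
  is_cover A := by
    intro a
    obtain ⟨e, ha, he⟩ := A.lh a
    have hmem : ∀ u : e.target, e.symm u.1 ∈ e.source := fun u => e.map_target u.2
    let U : Opens T := ⟨e.target, e.open_target⟩
    have hcont : Continuous (fun u : e.target => e.symm u.1) :=
      (e.continuousOn_symm.domRestrict : _)
    let g : (opensToCl T).obj U ⟶ A :=
      ⟨fun u => e.symm u.1, hcont, fun u => by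
        rw [he]
        exact e.right_inv u.2⟩
    refine ⟨(opensToCl T).obj U, g, Presieve.in_coverByImage _ g, ?_, ?_⟩
    · have h : IsOpenEmbedding (A.p ∘ g.toFun) := by
        have : A.p ∘ g.toFun = (Subtype.val : U → T) := by
          funext u
          exact g.over u
        rw [this]
        exact U.2.isOpenEmbedding_subtypeVal
      refine IsOpenEmbedding.of_continuous_injective_isOpenMap g.continuous ?_ ?_
      · intro x y hxy
        apply h.injective
        simp only [Function.comp_apply, hxy]
      · -- open map since `e.symm` is an open partial homeomorphism
        intro s hs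
        have h1 : g.toFun '' s = e.symm '' (Subtype.val '' s) := by
          rw [Set.image_image]
          rfl
        rw [h1]
        have h2 : IsOpen (Subtype.val '' s : Set T) := U.2.isOpenMap_subtype_val s hs
        apply e.symm.isOpen_image_of_subset_source h2
        rintro _ ⟨u, _, rfl⟩
        exact u.2
    · refine ⟨⟨e a, e.map_source ha⟩, ?_⟩
      exact e.left_inv ha

theorem functorPushforward_mem_iff {U : Opens T} {S : Sieve U} :
    S.functorPushforward (opensToCl T) ∈ Cl.topology T _ ↔
      S ∈ Opens.grothendieckTopology T U := by
  constructor
  · intro h x hx
    obtain ⟨B, g, ⟨V, i, k, hi, hk⟩, hg, b, hb⟩ := h ⟨x, hx⟩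
    refine ⟨V, i, hi, ?_⟩
    have h1 : (k.toFun b).1 = x := by
      have h2 : g.toFun b = ((opensToCl T).map i).toFun (k.toFun b) := by
        rw [hk]
        rfl
      rw [hb] at h2
      exact (congrArg Subtype.val h2).symm
    rw [← h1]
    exact (k.toFun b).2
  · intro h
    exact S4211.coverPreserving.cover_preserve h

instance isDenseSubsite :
    (opensToCl T).IsDenseSubsite (Opens.grothendieckTopology T) (Cl.topology T) where
  isCoverDense' := isCoverDense
  isLocallyFull' := inferInstance
  isLocallyFaithful' := inferInstance
  functorPushforward_mem_iff := functorPushforward_mem_iff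

/-- For a topological space T, the topos of the site of local homeomorphisms over T is equivalent to
that of T: restriction of abelian sheaves along the inclusion of the opens of T is an equivalence of
categories. -/
theorem result (T : Type u) [TopologicalSpace T] [An.OpCont T] :
    (An.resOpens T).IsEquivalence := by
  infer_instance

end Groth.Agent.S4212
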