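import Groth.Statements.S3504
import Groth.Agent.S3123
import Groth.Agent.EtpbcA.StrataGlob
import Groth.Agent.EtpbcA.KilledBy
import Groth.Agent.Etrest.FLCLocal

set_option autoImplicit false
universe u
open CategoryTheory CategoryTheory.Limits AlgebraicGeometry Opposite
open EtCd

namespace Groth.Agent.S3504

/-- Let k be a field of characteristic zero, X and S schemes locally of finite type over k, f : X → S a
k-morphism of finite type, and F a constructible torsion abelian sheaf on the small etale site of X.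
Then R^q f_* F is constructible for every q. -/
theorem result (k : Type u) [Field k] [CharZero k] {X S : Scheme.{u}}
    (aX : X ⟶ Spec (CommRingCat.of k)) (aS : S ⟶ Spec (CommRingCat.of k)) [LocallyOfFiniteType aX]
    [LocallyOfFiniteType aS] (f : X ⟶ S) (w : f ≫ aS = aX) [LocallyOfFiniteType f] [QuasiCompact f]
    (F : EtCoh.Ab X) (hF : EtPBC.IsConstructible F) (hFt : EtCoh.IsTorsion F) (q : ℕ) :
    EtPBC.IsConstructible ((EtCoh.Rpush f q).obj F) := by
  refine EtpbcA.StrataGlob.isConstructible_of_open_cover _ (ι := S.affineOpens) (fun U => U.1)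
    (iSup_affineOpens_eq_top S) ?_
  rintro ⟨U, hU⟩
  obtain ⟨e⟩ := Etrest.FLCLocal.pull_Rpush_iso U.ι f (f ⁻¹ᵁ U).ι (f ∣_ U)
    (isPullback_morphismRestrict f U).flip F q
  refine EtpbcA.StrataGlob.isConstructible_of_iso e.symm ?_
  have hUc : CompactSpace U := isCompact_iff_compactSpace.1 hU.isCompact
  have hVc : CompactSpace (f ⁻¹ᵁ U) := QuasiCompact.compactSpace_of_compactSpace (f ∣_ U)
  have hLN : IsLocallyNoetherian X := LocallyOfFiniteType.isLocallyNoetherian aX
  have hLV : IsLocallyNoetherian (f ⁻¹ᵁ U : Scheme.{u}) := inferInstance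
  have hF' := EtpbcA.StrataGlob.isConstructible_pull_openImmersion (f ⁻¹ᵁ U).ι F hF
  obtain ⟨n, hn, hk⟩ := EtpbcA.KilledBy.exists_killedBy_of_isConstructible hF'
  have hnu : IsUnit (n : Γ(Spec (CommRingCat.of k), ⊤)) := by
    have h1 : IsUnit (n : k) := isUnit_iff_ne_zero.2 (by exact_mod_cast hn.ne')
    have h2 := h1.map (Scheme.ΓSpecIso (CommRingCat.of k)).inv.hom
    rwa [map_natCast] at h2
  have w' : (f ∣_ U) ≫ U.ι ≫ aS = (f ⁻¹ᵁ U).ι ≫ aX := by
    rw [← w, morphismRestrict_ι_assoc]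
  have : QuasiCompact (U.ι ≫ aS) := inferInstance
  have : QuasiCompact ((f ⁻¹ᵁ U).ι ≫ aX) := inferInstance
  obtain ⟨W, hW, h1, -⟩ := Groth.Agent.S3123.result n hnu ((f ⁻¹ᵁ U).ι ≫ aX) (U.ι ≫ aS) (f ∣_ U) w' _
    hF' hk
  have hWt : W = ⊤ := by
    obtain ⟨x, hx⟩ := hW.nonempty
    ext y
    have : y = x := Subsingleton.elim (α := PrimeSpectrum k) _ _
    rw [this]
    exact ⟨fun _ => trivial, fun _ => hx⟩
  subst hWt
  refine EtpbcA.StrataGlob.isConstructible_of_open_cover _ (ι := Unit) (fun _ => (U.ι ≫ aS) ⁻¹ᵁ ⊤) ?_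
    (fun _ => h1 q)
  simp

end Groth.Agent.S3504
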