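import Groth.Statements.S4227
import Groth.Agent.An.H899.Assemble
import Groth.Agent.Dix.ProjProper

set_option autoImplicit false
open CategoryTheory AlgebraicGeometry Topology TopologicalSpace
open An

namespace Groth.Agent.S4227

/-- If f : X → S is an elementary fibration of schemes locally of finite type over ℂ with S smooth over
ℂ, then X(ℂ) → S(ℂ) is a locally trivial fibration: every point s of S(ℂ) has an open neighbourhood
U over which X(ℂ) is homeomorphic, compatibly with the projection, to U × (fibre over s). -/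
theorem result (X S : Scheme.{0}) [X.Over An.SC] [S.Over An.SC]
    [LocallyOfFiniteType (X ↘ An.SC)] [LocallyOfFiniteType (S ↘ An.SC)] [Smooth (S ↘ An.SC)] (f : X ⟶ S) [f.IsOver An.SC]
    (hf : An.IsElementaryFibration f) (s : An.Pts S) :
    ∃ (U : Set (An.Pts S)) (_ : IsOpen U) (_ : s ∈ U)
      (e : ↥(An.Pts.map f ⁻¹' U) ≃ₜ ↥U × ↥(An.Pts.map f ⁻¹' {s})),
      ∀ z : ↥(An.Pts.map f ⁻¹' U), ((e z).1 : An.Pts S) = An.Pts.map f z := by
  obtain ⟨Xb, Y, j, fb, i, hjf, hj, hi, hrange, -, hsm, ⟨n, c, hc, hcb⟩, hgeo, hfin, het, -⟩ := hf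
  let _ : Xb.Over An.SC := ⟨fb ≫ S ↘ An.SC⟩
  let _ : Y.Over An.SC := ⟨(i ≫ fb) ≫ S ↘ An.SC⟩
  have hfbO : fb.IsOver An.SC := ⟨rfl⟩
  have hiO : i.IsOver An.SC := ⟨(Category.assoc _ _ _).symm⟩
  have hjO : j.IsOver An.SC := ⟨by
    change j ≫ fb ≫ S ↘ An.SC = X ↘ An.SC
    rw [← Category.assoc, hjf, comp_over f]⟩
  have hprop : IsProper fb := by
    have h1 : IsProper (CohB1.ProjSpaceOver.toBase n S) := Groth.Agent.Dix.ProjProper.isProper_toBase n S
    rw [← hcb]
    infer_instance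
  obtain ⟨hirr, hdim⟩ := hgeo ℂ s.1
  obtain ⟨U, hU, hsU, h, h1, h2, -⟩ :=
    Groth.Agent.An.H899.Assemble.exists_trivialization_pts fb s hirr hdim i
  have hmap : ∀ x : An.Pts X, An.Pts.map f x = An.Pts.map fb (An.Pts.map j x) := fun x => by
    apply Subtype.ext
    change x.1 ≫ f = (x.1 ≫ j) ≫ fb
    rw [Category.assoc, hjf]
  have hjr : ∀ z : An.Pts Xb, z ∈ Set.range (An.Pts.map j) ↔ z ∉ Set.range (An.Pts.map i) := fun z => by
    rw [Groth.Agent.An.H871.Imm.range_map_of_isOpenImmersion,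
      Groth.Agent.An.H871.Imm.range_map_of_isClosedImmersion]
    have h3 : Set.range j = (Set.range i)ᶜ := hrange
    rw [Set.mem_preimage, h3]
    rfl
  have hje : IsEmbedding (An.Pts.map j) := (Groth.Agent.An.H871.Imm.isOpenEmbedding_map j).isEmbedding
  let α : ↥(An.Pts.map f ⁻¹' U) → ↥(An.Pts.map fb ⁻¹' U) := fun x =>
    ⟨An.Pts.map j x, by rw [Set.mem_preimage, ← hmap]; exact x.2⟩
  let β₂ : ↥(An.Pts.map f ⁻¹' {s}) → ↥(An.Pts.map fb ⁻¹' {s}) := fun x =>
    ⟨An.Pts.map j x, by rw [Set.mem_preimage, ← hmap]; exact x.2⟩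
  have hα : IsEmbedding α := by
    have h4 : Continuous α := ((An.Pts.continuous_map j).comp continuous_subtype_val).subtype_mk _
    exact IsEmbedding.of_comp h4 continuous_subtype_val (hje.comp IsEmbedding.subtypeVal)
  have hβ₂ : IsEmbedding β₂ := by
    have h4 : Continuous β₂ := ((An.Pts.continuous_map j).comp continuous_subtype_val).subtype_mk _
    exact IsEmbedding.of_comp h4 continuous_subtype_val (hje.comp IsEmbedding.subtypeVal)
  have hαr : ∀ p : ↥(An.Pts.map fb ⁻¹' U), p ∈ Set.range α ↔ (p : An.Pts Xb) ∉ Set.range (An.Pts.map i) := by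
    intro p
    rw [← hjr]
    constructor
    · rintro ⟨x, rfl⟩
      exact ⟨x, rfl⟩
    · rintro ⟨x, hx⟩
      exact ⟨⟨x, by rw [Set.mem_preimage, hmap, hx]; exact p.2⟩, Subtype.ext hx⟩
  have hβr : ∀ p : ↥(An.Pts.map fb ⁻¹' {s}), p ∈ Set.range β₂ ↔ (p : An.Pts Xb) ∉ Set.range (An.Pts.map i) := by
    intro p
    rw [← hjr]
    constructor
    · rintro ⟨x, rfl⟩
      exact ⟨x, rfl⟩
    · rintro ⟨x, hx⟩
      exact ⟨⟨x, by rw [Set.mem_preimage, hmap, hx]; exact p.2⟩, Subtype.ext hx⟩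
  obtain ⟨e, he⟩ := Groth.Agent.An.H899.LocTrivSep.exists_homeomorph_of_isEmbedding hα
    (IsEmbedding.id.prodMap hβ₂ : IsEmbedding (Prod.map (id : ↥U → ↥U) β₂)) h (fun p => by
      rw [hαr, h2, ← hβr]
      constructor
      · rintro ⟨x, hx⟩
        exact ⟨((h p).1, x), Prod.ext rfl hx⟩
      · rintro ⟨⟨u, x⟩, hx⟩
        exact ⟨x, congrArg Prod.snd hx⟩)
  refine ⟨U, hU, hsU, e, fun z => ?_⟩
  have h5 : (e z).1 = (h (α z)).1 := congrArg Prod.fst (he z)
  rw [h5, h1, hmap]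

end Groth.Agent.S4227
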