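-- Solution of statement S4204 (row 4203): An.t2Space_pts_iff_isSeparated.
import Groth.Statements.S4204
import Groth.Agent.An.H877.Sep

set_option autoImplicit false
open CategoryTheory AlgebraicGeometry Topology TopologicalSpace
open An

namespace Groth.Agent.S4204

/-- Let X be a scheme locally of finite type over ℂ. Then X is separated over ℂ if and only if X(ℂ) with
the complex topology is Hausdorff. -/
theorem result (X : Scheme.{0}) [X.Over An.SC] [LocallyOfFiniteType (X ↘ An.SC)] :
    IsSeparated (X ↘ An.SC) ↔ T2Space (An.Pts X) := by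
  have : LocallyOfFiniteType (An.SC ↘ An.SC) := by
    change LocallyOfFiniteType (𝟙 An.SC)
    infer_instance
  rw [Groth.Agent.An.H877.Sep.isSeparated_iff_isSeparatedMap (X ↘ An.SC)]
  have hs : Subsingleton (An.Pts An.SC) := by
    refine ⟨fun a b => Subtype.ext ?_⟩
    have ha := a.2
    have hb := b.2
    change a.1 ≫ 𝟙 _ = 𝟙 _ at ha
    change b.1 ≫ 𝟙 _ = 𝟙 _ at hb
    rw [Category.comp_id] at ha hb
    rw [ha, hb]
  have hc : An.Pts.map (X ↘ An.SC) = fun _ => ⟨𝟙 _, Category.id_comp _⟩ := by
    funext x
    exact Subsingleton.elim _ _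
  rw [hc, ← t2space_iff_isSeparatedMap]

end Groth.Agent.S4204
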