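import Groth.Statements.S4205
import Groth.Agent.An.H878.Point
import Groth.Agent.An.H878.UnivClosed
import Groth.Agent.An.H875.ProperMap
import Groth.Agent.S4204

set_option autoImplicit false
open CategoryTheory AlgebraicGeometry Topology TopologicalSpace
open An

namespace Groth.Agent.S4205

/-- Let X be a scheme of finite type over ℂ (locally of finite type and quasi-compact over ℂ, carried as
two instance hypotheses). Then X is proper over ℂ if and only if X(ℂ) with the complex topology is
compact and Hausdorff. -/
theorem result (X : Scheme.{0}) [X.Over An.SC] [LocallyOfFiniteType (X ↘ An.SC)] [QuasiCompact (X ↘ An.SC)] :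
    IsProper (X ↘ An.SC) ↔ CompactSpace (An.Pts X) ∧ T2Space (An.Pts X) := by
  have e : (An.SC ↘ An.SC) = 𝟙 An.SC := rfl
  have h1 : LocallyOfFiniteType (An.SC ↘ An.SC) := by rw [e]; infer_instance
  have h2 : (X ↘ An.SC).IsOver An.SC := ⟨by rw [e, Category.comp_id]⟩
  have h3 : IsProperMap (An.Pts.map (X ↘ An.SC)) ↔ CompactSpace (An.Pts X) :=
    An.H878.Point.isProperMap_iff_of_subsingleton _ ⟨An.H878.Point.point⟩
  constructor
  · intro h
    refine ⟨h3.1 (Groth.Agent.An.H875.ProperMap.isProperMap_map (X ↘ An.SC)), ?_⟩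
    exact (Groth.Agent.S4204.result X).1 inferInstance
  · rintro ⟨hc, ht⟩
    have h4 : IsSeparated (X ↘ An.SC) := (Groth.Agent.S4204.result X).2 ht
    have h5 : UniversallyClosed (X ↘ An.SC) :=
      Groth.Agent.An.H878.UnivClosed.universallyClosed_of_isProperMap _ (h3.2 hc)
    exact {}

end Groth.Agent.S4205
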