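import Groth.Statements.S4187
import Groth.Agent.An.H864.Discrete

set_option autoImplicit false
open CategoryTheory AlgebraicGeometry Topology TopologicalSpace
open An

namespace Groth.Agent.S4187

/-- For X locally of finite type over ℂ, the underlying space of X is discrete if and only if the space
X(ℂ) (complex topology) is discrete. -/
theorem result (X : Scheme.{0}) [X.Over An.SC] [LocallyOfFiniteType (X ↘ An.SC)] :
    DiscreteTopology ↥X ↔ DiscreteTopology (An.Pts X) := by
  constructor
  · intro _
    exact DiscreteTopology.of_continuous_injective (An.Pts.continuous_pt (X := X))
      Groth.Agent.An.H863.PtsBasic.pt_injective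
  · intro _
    have : IsLocallyArtinian X := ⟨fun U => by
      have := Groth.Agent.An.H864.Discrete.countable_of_discreteTopology U.2
      exact Groth.Agent.An.H864.Discrete.isArtinianRing_of_countable U.2⟩
    infer_instance

end Groth.Agent.S4187
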