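import Groth.Statements.S4224
import Groth.Agent.An.H877.Asm4224
import Groth.Agent.An.H896.CovVanCl
-- import your own Groth.Agent.* helpers here

set_option autoImplicit false
open CategoryTheory AlgebraicGeometry Topology TopologicalSpace
open An

namespace Groth.Agent.S4224

/-- The vanishing input of `Asm4224`. -/
theorem van2 (T : Type) [TopologicalSpace T] : Groth.Agent.An.H877.Asm4224.Van2 T := by
  intro A S p h M _ _ q hq
  exact subsingleton_of_forall_eq 0 fun x =>
    Groth.Agent.An.H896.CovVanCl.HA_const_eq_zero_of_finCov A S.finite_toSet h M q hq x

/-- The base case of the comparison of etale and classical cohomology for proper morphisms: let X be a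
complete regular curve over ℂ, i.e. proper and smooth over ℂ with underlying space of dimension one,
and M a finite abelian group. Then for every q the canonical map H^q(X_et, M) → H^q(X(ℂ)_cl, M) is
bijective (the auxiliary facts used to define the comparison map are carried as instance
hypotheses). -/
theorem result (X : Scheme.{0}) [X.Over An.SC]
    [IsProper (X ↘ An.SC)] [Smooth (X ↘ An.SC)]
    (hdim : topologicalKrullDim ↥X = 1) [Fact An.EtaleLH] [An.EpsCont X]
    [Limits.PreservesFiniteLimits (An.epsPull X)] (M : Type) [AddCommGroup M] [Finite M] (q : ℕ) :
    Function.Bijective (An.HcmpConst X M q) := by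
  exact Groth.Agent.An.H877.Asm4224.hcmpConst_bijective X hdim.le (van2 (An.Pts X)) M q

end Groth.Agent.S4224
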