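import Groth.Statements.S4313
import Groth.Agent.S4314
import Groth.Agent.Gaga.H145.Noeth
import Groth.Agent.Gaga.H445.Core

set_option autoImplicit false
open CategoryTheory AlgebraicGeometry Topology TopologicalSpace
open An

namespace Groth.Agent.S4313

/-- The flatness assertion: for X reduced and locally of finite type over ℂ (the associated analytic
space being X(ℂ) with the sheaf of holomorphic functions): for every ℂ-point x, the induced map on
stalks O_{X, x} → O_{X^an, x} (germs of regular functions to germs of holomorphic functions) is
flat. The published statement is the stronger one that it induces an isomorphism on completions. -/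
theorem result (X : Scheme.{0}) [X.Over An.SC] [LocallyOfFiniteType (X ↘ An.SC)]
    [IsReduced X] (x : An.Pts X) :
    (PresheafedSpace.Hom.stalkMap (An.anToScheme X) x).hom.Flat := by
  have hN : IsNoetherianRing ((An.anSpace X).presheaf.stalk x) :=
    Groth.Agent.Gaga.H145.Noeth.isNoetherianRing_stalk x
  have hX : IsLocallyNoetherian X := LocallyOfFiniteType.isLocallyNoetherian (X ↘ An.SC)
  have hA : IsNoetherianRing (X.presheaf.stalk x.pt) := inferInstance
  have h := Groth.Agent.S4314.result X x
  have hL : IsLocalRing ((An.anSpace X).presheaf.stalk x) :=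
    IsLocalRing.of_unique_max_ideal ⟨_, h.1.1, fun I hI => h.1.2 I hI⟩
  have hm := (h.1.2 (IsLocalRing.maximalIdeal ((An.anSpace X).presheaf.stalk x))
    inferInstance).symm
  let _ : Algebra (X.presheaf.stalk x.pt) ((An.anSpace X).presheaf.stalk x) :=
    (PresheafedSpace.Hom.stalkMap (An.anToScheme X) x).hom.toAlgebra
  have hS : Groth.Agent.Gaga.H445.Core.SameCpl (X.presheaf.stalk x.pt)
      ((An.anSpace X).presheaf.stalk x) := by
    refine ⟨hm, fun n b => ?_, fun n a ha => ?_⟩
    · obtain ⟨a, ha⟩ := (h.2 n).1 b
      refine ⟨a, ?_⟩
      have h1 := neg_mem ha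
      rw [neg_sub, hm] at h1
      exact h1
    · rw [← hm] at ha
      exact (h.2 n).2 a ha
  exact hS.flat

end Groth.Agent.S4313
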