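import Groth.Statements.S4091
import Groth.Agent.S0113
import Groth.Agent.S0114
import Groth.Agent.Etbase.FppfSource
import Groth.Agent.Sga3.H771.QcDesc

set_option autoImplicit false
universe u
open CategoryTheory MonoidalCategory CartesianMonoidalCategory MonObj GrpObj AlgebraicGeometry CategoryTheory.Limits
open GrpQ

namespace Groth.Agent.S4091

/-- Local finite type descends along an fppf cover of the source. -/
theorem locallyOfFiniteType_of_fppf_comp {X Y S : Scheme.{u}} (f : X ⟶ Y) (q : Y ⟶ S) [Surjective f] [Flat f]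
    [LocallyOfFinitePresentation f] [LocallyOfFiniteType (f ≫ q)] :
    LocallyOfFiniteType q := by
  refine Groth.Agent.Etbase.FppfSource.of_fppf_comp_of_ringHom @LocallyOfFiniteType
    RingHom.FiniteType ?_ f q inferInstance
  intro R A B _ _ _ φ ψ hff hfp h
  algebraize [φ, ψ, ψ.comp φ]
  exact Groth.Agent.S0113.result (R := R) (A := A) (B := B)

/-- Let p : X → Y and q : Y → S be morphisms of schemes with p surjective, flat and of finite
presentation. If p ≫ q is of finite type then q is of finite type; if p ≫ q is of finite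
presentation then q is of finite presentation. -/
theorem result {X Y S : Scheme.{u}} (p : X ⟶ Y) (q : Y ⟶ S)
    [Surjective p] [Flat p] [LocallyOfFinitePresentation p] [QuasiCompact p] [QuasiSeparated p] :
    ((LocallyOfFiniteType (p ≫ q) ∧ QuasiCompact (p ≫ q)) → (LocallyOfFiniteType q ∧ QuasiCompact q)) ∧
    ((LocallyOfFinitePresentation (p ≫ q) ∧ QuasiCompact (p ≫ q) ∧ QuasiSeparated (p ≫ q)) →
      (LocallyOfFinitePresentation q ∧ QuasiCompact q ∧ QuasiSeparated q)) := by
  refine ⟨?_, ?_⟩
  · rintro ⟨h1, h2⟩
    exact ⟨locallyOfFiniteType_of_fppf_comp p q,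
      Groth.Agent.Sga3.H771.QcDesc.quasiCompact_of_surjective_comp p q⟩
  · rintro ⟨h1, h2, h3⟩
    exact ⟨Groth.Agent.S0114.result p q,
      Groth.Agent.Sga3.H771.QcDesc.quasiCompact_of_surjective_comp p q,
      Groth.Agent.Sga3.H771.QcDesc.quasiSeparated_of_surjective_comp p q⟩

end Groth.Agent.S4091
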