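import Groth.Statements.S3789
import Groth.Agent.Krr.H488.PBK
import Groth.Agent.Krr.H488.Serre
import Groth.Agent.Krr.H484.PBCharts

set_option autoImplicit false
universe v u
open CategoryTheory CategoryTheory.Limits AlgebraicGeometry
attribute [local instance] HasDerivedCategory.standard
open KRR

namespace Groth.Agent.S3789

/-- Let X be a connected Noetherian scheme, E finite locally free of rank r + 1, and (π : P ⟶ X, O(1),
q) its projective bundle P(E), P connected Noetherian. With models of K(X), K(P), g = π^K and ℓ =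
[O(1)]: the map (a_0, …, a_r) ↦ Σ_i π^K(a_i) ℓ^i from K(X)^{r+1} to K(P) is bijective, so that K(P)
= K(X)_e = K(X)[ℓ] with the relation of projectiveBundle_tautological_relation. -/
theorem result (X P : Scheme.{u}) [IsNoetherian X] [ConnectedSpace ↥X] [IsNoetherian P] [ConnectedSpace ↥P]
    (r : ℕ) (E : X.Modules) (hE : FlatMod.IsFinLocFreeOfRank (r + 1) E)
    (π : P ⟶ X) (O1 : P.Modules) (q : (Scheme.Modules.pullback π).obj E ⟶ O1) (hPB : KRR.IsProjBundle π E O1 q)
    (KX : Type v) [CommRing KX] [LambdaRing.LambdaOps KX] (PX : LambdaRing.PosStructure KX) (φX : SGA6.Kvb X →+ KX) (hKX : KRR.IsModel X KX PX φX)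
    (KP : Type v) [CommRing KP] [LambdaRing.LambdaOps KP] (PP : LambdaRing.PosStructure KP) (φP : SGA6.Kvb P →+ KP) (hKP : KRR.IsModel P KP PP φP)
    (g : KX →+ KP) (hg : KRR.IsPull π φX φP g) :
    Function.Bijective (fun a : Fin (r + 1) → KX => ∑ i : Fin (r + 1), g (a i) * φP (KRR.cl P O1) ^ (i : ℕ)) := by
  obtain ⟨ι, hι, A, hA, h, j, hh, hsurj, hpb, hO1⟩ := Groth.Agent.Krr.H484.PBCharts.exists_charts hE hPB
  have hO : PicF.IsInvertible O1 := Groth.Agent.Ega2.QCohLocal.isFinLocFreeOfRank_one_iff.1 hPB.invertible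
  let 𝔸 : Groth.Agent.Krr.H488.Atlas.Atlas r π O1 A h := ⟨j, hpb, hsurj, hO1⟩
  exact Groth.Agent.Krr.H488.PBK.bijective 𝔸 hO hKX hKP hg
    (fun i => Groth.Agent.Krr.H488.Serre.serreProp r (A i))

end Groth.Agent.S3789
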