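import Groth.Statements.S3795
import Groth.Agent.Books.Lambda3
-- import your own Groth.Agent.* helpers here

set_option autoImplicit false
universe v u
open CategoryTheory CategoryTheory.Limits AlgebraicGeometry
attribute [local instance] HasDerivedCategory.standard
open KRR

namespace Groth.Agent.S3795

/-- Let K be a λ-ring with positive structure having the splitting property, j ≥ 2, n ≥ 0 and x ∈ K. If
ψ^j(x) - j^n x lies in ℚF^{n+1} (some positive multiple lies in F^{n+1}, γ-filtration), then x lies
in ℚF^n (some positive multiple of x lies in F^n). -/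
theorem result (K : Type v) [CommRing K] [LambdaRing.LambdaOps K] (P : LambdaRing.PosStructure K) (hK : LambdaRing.HasSplitting K P) (j : ℕ) (hj : 2 ≤ j) (n : ℕ) (x : K)
    (hx : ∃ N : ℕ, 1 ≤ N ∧ (N : K) * (LambdaRing.adams P j x - (j : K) ^ n * x) ∈ LambdaRing.gammaFiltration P (n + 1)) :
    ∃ N : ℕ, 1 ≤ N ∧ (N : K) * x ∈ LambdaRing.gammaFiltration P n := by
  classical
  obtain ⟨M, hM1, hM⟩ := hx
  -- x ∈ ℚF^k for every k ≤ n, by induction on k
  have key : ∀ k : ℕ, k ≤ n → ∃ N : ℕ, 1 ≤ N ∧ (N : K) * x ∈ LambdaRing.gammaFiltration P k := by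
    intro k
    induction k with
    | zero => intro _; exact ⟨1, le_refl _, Books.Lambda2.mem_filtration_zero P _⟩
    | succ k ih =>
      intro hk
      obtain ⟨N, hN1, hN⟩ := ih (by omega)
      -- ψ^j (N x) - j^k (N x) ∈ F^{k+1}
      have h1 := (Books.Lambda3.Good_of_mem P hK j k _ hN).2
      have h2 : LambdaRing.adams P j ((N : K) * x) = (N : K) * LambdaRing.adams P j x := by
        rw [← Books.Lambda1.adamsRingHom_apply P hK j, map_mul, map_natCast,
          Books.Lambda1.adamsRingHom_apply]
      rw [h2] at h1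
      -- M (ψ^j x - j^n x) ∈ F^{k+1}
      have h3 := Books.Lambda2.filtration_anti P (show k + 1 ≤ n + 1 by omega) hM
      have h4 := Books.Lambda2.mul_mem_filtration_left P (k + 1) (M : K) _ h1
      have h5 := Books.Lambda2.mul_mem_filtration_left P (k + 1) (N : K) _ h3
      have h6 := (LambdaRing.gammaFiltration P (k + 1)).sub_mem h4 h5
      have hlt : j ^ k < j ^ n := Nat.pow_lt_pow_right (by omega) (by omega)
      refine ⟨M * N * (j ^ n - j ^ k), ?_, ?_⟩
      · exact Nat.mul_pos (Nat.mul_pos hM1 hN1) (Nat.sub_pos_of_lt hlt)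
      · have h7 : ((M * N * (j ^ n - j ^ k) : ℕ) : K) * x =
            (M : K) * ((N : K) * LambdaRing.adams P j x - (j : K) ^ k * ((N : K) * x)) -
              (N : K) * ((M : K) * (LambdaRing.adams P j x - (j : K) ^ n * x)) := by
          rw [Nat.cast_mul, Nat.cast_mul, Nat.cast_sub hlt.le]
          push_cast
          ring
        rw [h7]
        exact h6
  exact key n le_rfl

end Groth.Agent.S3795
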