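import Groth.Statements.S3746
import Groth.Agent.S1028
import Groth.Agent.S1052
import Groth.Agent.S1111
import Groth.Agent.Krr.H445.Poincare

set_option autoImplicit false
universe v u
open CategoryTheory CategoryTheory.Limits AlgebraicGeometry
attribute [local instance] HasDerivedCategory.standard
open KRR

namespace Groth.Agent.S3746

/-- Let X be a Noetherian scheme all of whose local rings are regular, on which every coherent module is
a quotient of a finite locally free module (the source assumes an ample invertible module, which it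
uses only through this property). Then the homomorphism δ : K₀(finite locally free O_X-modules) ⟶
K₀(coherent O_X-modules) induced by the inclusion (recorded by the argument h) is bijective. -/
theorem result (X : Scheme.{u}) [IsNoetherian X]
    (hreg : ∀ x : X, IsRegularLocalRing (X.presheaf.stalk x)) (hX : KRR.HasEnoughLocFree X)
    (h : ∀ M : X.Modules, FlatMod.IsFinLocFree M → Coh.IsCoh M) :
    Function.Bijective (SGA6.mapSub (𝟭 X.Modules) (KRR.vbP X) (fun M : X.Modules => Coh.IsCoh M) h) := by
  have hres : PerfAux.HasResolutionProperty X := fun M hM hM' => hX M ⟨hM, hM'⟩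
  obtain ⟨φ₁, hφ₁⟩ := Groth.Agent.S1028.result X hres
  obtain ⟨φ₂, hφ₂⟩ := Groth.Agent.S1111.result X hreg
  obtain ⟨φ₃, hφ₃⟩ := Groth.Agent.S1052.result X
  refine Groth.Agent.Krr.H445.Poincare.bijective_mapSub_id _ _ h
    ((φ₁.trans φ₂).trans φ₃.symm) ?_
  intro E hE
  have hperf : DCoh.IsPerfect (DCoh.inD X E) :=
    Groth.Agent.PerfA.PerfLocal.isPerfect_inD_of_isFinLocFree hE
  rw [AddEquiv.trans_apply, AddEquiv.trans_apply, hφ₁ E hE, hφ₂ _ hperf, AddEquiv.symm_apply_eq,
    hφ₃ E (h E hE)]

end Groth.Agent.S3746
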