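import Groth.Statements.S4037
import Groth.Agent.Lefpen.H718.Act
import Groth.Agent.Lefpen.H397.PicRoot

set_option autoImplicit false
universe u
open CategoryTheory CategoryTheory.Limits AlgebraicGeometry
open LefPen

namespace Groth.Agent.S4037

/-- At the level of the Picard group (Pic^τ(Y) = 0, so that the Néron-Severi group is Pic(Y)): let k be
an algebraically closed field and Y ⊆ P^{2+d}_k the common zero scheme of d ≥ 1 forms of degrees a_j
≥ 1, assumed smooth over k of relative dimension 2 (a smooth complete intersection surface); O_Y(1)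
denotes the restriction of O(1). (1) If L is an invertible O_Y-module and some tensor power L^{⊗m},
m ≥ 1, is isomorphic to O_Y, then L is isomorphic to O_Y (no torsion in Pic(Y)). (2) The class of
O_Y(1) is not divisible: for no invertible M and e ≥ 2 is M^{⊗e} isomorphic to O_Y(1). -/
theorem result (k : Type u) [Field k] [IsAlgClosed k]
    (d : ℕ) (hd : 1 ≤ d) (a : Fin d → ℕ) (ha : ∀ j, 1 ≤ a j) (G : ∀ j : Fin d, LefPen.Form (2 + d) k (a j))
    [SmoothOfRelativeDimension 2 ((LefPen.ciIdeal G).subschemeι ≫ CohB1.ProjSpace.toSpec (2 + d) k)] :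
    (∀ (L : (LefPen.ciIdeal G).subscheme.Modules), PicF.IsInvertible L → ∀ m : ℕ, 1 ≤ m →
      Nonempty (CohB1.tensorPow L m ≅ Coh.structureModule (LefPen.ciIdeal G).subscheme) →
        Nonempty (L ≅ Coh.structureModule (LefPen.ciIdeal G).subscheme)) ∧
    (∀ (M : (LefPen.ciIdeal G).subscheme.Modules), PicF.IsInvertible M → ∀ e : ℕ, 2 ≤ e →
      ¬ Nonempty (CohB1.tensorPow M e ≅
        (Scheme.Modules.pullback (LefPen.ciIdeal G).subschemeι).obj (Twist.twistProjSpace (2 + d) k 1))) := by
  have hh : ∀ i, ((G i).1).IsHomogeneous (a i) := fun i => (G i).2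
  have hg := Groth.Agent.Lefpen.H718.Act.constantCoeff_form ha G
  have hsm : SmoothOfRelativeDimension 2 (Groth.Agent.Lefpen.H718.Chart.yStr G) :=
    inferInstanceAs (SmoothOfRelativeDimension 2 ((LefPen.ciIdeal G).subschemeι ≫ CohB1.ProjSpace.toSpec (2 + d) k))
  exact ⟨fun L hL m hm h => Groth.Agent.Lefpen.H397.PicRoot.pic_of_root G hh hg rfl le_rfl m hm
      (fun f D hf hf0 hl => Groth.Agent.Lefpen.H718.Act.root_ci ha G hh rfl le_rfl m hm f D hf hf0 hl) L hL h,
    fun M hM e he => Groth.Agent.Lefpen.H397.PicRoot.not_of_root G hh hg rfl le_rfl e he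
      (fun f D hf hf0 hl => Groth.Agent.Lefpen.H718.Act.root_ci ha G hh rfl le_rfl e (by omega) f D hf hf0 hl) M hM⟩

end Groth.Agent.S4037
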