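import Groth.Statements.S4024
import Mathlib.RingTheory.MvPolynomial.EulerIdentity
import Mathlib.LinearAlgebra.Dual.Lemmas
import Mathlib.LinearAlgebra.Basis.VectorSpace
import Mathlib.Tactic.LinearCombination
import Mathlib.Tactic.FieldSimp

set_option autoImplicit false
universe u
open CategoryTheory CategoryTheory.Limits AlgebraicGeometry
open LefPen

namespace Groth.Agent.S4024

open MvPolynomial

section Deriv

variable {k : Type u} [Field k] {n : ℕ}

/-- Directional derivative of a polynomial at `v` in the direction `w`. -/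
noncomputable def dd (v w : Fin n → k) : MvPolynomial (Fin n) k →ₗ[k] k :=
  ∑ i : Fin n, (w i) • ((MvPolynomial.aeval v).toLinearMap ∘ₗ (MvPolynomial.pderiv i).toLinearMap)

theorem dd_apply (v w : Fin n → k) (p : MvPolynomial (Fin n) k) :
    dd v w p = ∑ i : Fin n, w i * aeval v (pderiv i p) := by
  simp [dd, LinearMap.sum_apply]

theorem dd_mul (v w : Fin n → k) (p q : MvPolynomial (Fin n) k) :
    dd v w (p * q) = dd v w p * aeval v q + aeval v p * dd v w q := by
  simp only [dd_apply, pderiv_mul, map_add, map_mul, Finset.sum_mul, Finset.mul_sum,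
    ← Finset.sum_add_distrib]
  refine Finset.sum_congr rfl fun i _ => ?_
  ring

theorem dd_pow (v w : Fin n → k) (p : MvPolynomial (Fin n) k) (m : ℕ) :
    dd v w (p ^ m) = m * (aeval v p) ^ (m - 1) * dd v w p := by
  induction m with
  | zero => simp [dd_apply]
  | succ m ih =>
    rw [pow_succ, dd_mul, ih]
    rcases m with _ | m
    · simp
    · simp only [Nat.add_sub_cancel, map_pow]
      push_cast
      ring

theorem dd_C_mul (v w : Fin n → k) (c : k) (p : MvPolynomial (Fin n) k) :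
    dd v w (C c * p) = c * dd v w p := by
  rw [← smul_eq_C_mul, map_smul, smul_eq_mul]

theorem dd_C (v w : Fin n → k) (c : k) : dd v w (C c) = 0 := by
  simp [dd_apply]

theorem dd_add_right (v w w' : Fin n → k) (p : MvPolynomial (Fin n) k) :
    dd v (w + w') p = dd v w p + dd v w' p := by
  simp [dd_apply, add_mul, Finset.sum_add_distrib]

theorem dd_smul_right (v w : Fin n → k) (c : k) (p : MvPolynomial (Fin n) k) :
    dd v (c • w) p = c * dd v w p := by
  simp [dd_apply, Finset.mul_sum, mul_assoc]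

theorem dd_self {d : ℕ} (v : Fin n → k) (p : MvPolynomial (Fin n) k) (hp : p.IsHomogeneous d) :
    dd v v p = d * aeval v p := by
  have h := congrArg (aeval v) hp.sum_X_mul_pderiv
  simpa [dd_apply, map_sum] using h

theorem dd_X (v w : Fin n → k) (i : Fin n) : dd v w (X i) = w i := by
  classical
  rw [dd_apply, Finset.sum_eq_single i]
  · simp
  · intro j _ hj
    rw [pderiv_X_of_ne (Ne.symm hj)]; simp
  · simp

theorem dd_symm (v w : Fin n → k) (p : MvPolynomial (Fin n) k) (hp : p.IsHomogeneous 2) :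
    dd v w p = dd w v p := by
  have h2 : p ∈ (homogeneousSubmodule (Fin n) k 1) ^ 2 := by
    rw [homogeneousSubmodule_one_pow]; exact hp
  rw [pow_two, homogeneousSubmodule_one_eq_span_X, Submodule.span_mul_span] at h2
  clear hp
  induction h2 using Submodule.span_induction with
  | mem x hx =>
    obtain ⟨_, ⟨i, rfl⟩, _, ⟨j, rfl⟩, rfl⟩ := hx
    simp only [dd_mul, dd_X, aeval_X]
    ring
  | zero => simp
  | add x y _ _ hx hy => rw [map_add, map_add, hx, hy]
  | smul a x _ hx => rw [map_smul, map_smul, hx]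

/-- The linear form attached to a dual vector. -/
noncomputable def lin (l : Module.Dual k (Fin n → k)) : MvPolynomial (Fin n) k :=
  ∑ i : Fin n, C (l (Pi.single i 1)) * X i

theorem lin_isHomogeneous (l : Module.Dual k (Fin n → k)) : (lin l).IsHomogeneous 1 := by
  apply IsHomogeneous.sum
  intro i _
  simpa using (isHomogeneous_C (Fin n) (l (Pi.single i 1))).mul (isHomogeneous_X k i)

theorem dual_apply_eq (l : Module.Dual k (Fin n → k)) (w : Fin n → k) :
    l w = ∑ i : Fin n, l (Pi.single i 1) * w i := by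
  conv_lhs => rw [show w = ∑ i, w i • (Pi.single i (1 : k) : Fin n → k) from (pi_eq_sum_univ' w)]
  rw [map_sum]
  refine Finset.sum_congr rfl fun i _ => ?_
  rw [map_smul, smul_eq_mul, mul_comm]

theorem aeval_lin (l : Module.Dual k (Fin n → k)) (v : Fin n → k) : aeval v (lin l) = l v := by
  rw [dual_apply_eq, lin, map_sum]
  refine Finset.sum_congr rfl fun i _ => ?_
  simp

theorem dd_lin (l : Module.Dual k (Fin n → k)) (v w : Fin n → k) : dd v w (lin l) = l w := by
  rw [dual_apply_eq, lin, map_sum]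
  refine Finset.sum_congr rfl fun i _ => ?_
  rw [dd_C_mul, dd_X]

end Deriv

section Exists

variable {k : Type u} [Field k] {n : ℕ}

theorem aeval_C_mul' (v : Fin n → k) (c : k) (p : MvPolynomial (Fin n) k) :
    aeval v (C c * p) = c * aeval v p := by
  simp

theorem exists_dual_pair (v₁ v₂ : Fin n → k) (hv : LinearIndependent k ![v₁, v₂]) :
    ∃ lX lY : Module.Dual k (Fin n → k), lX v₁ = 1 ∧ lX v₂ = 0 ∧ lY v₁ = 0 ∧ lY v₂ = 1 := by
  have hmem1 : v₁ ∉ Submodule.span k {v₂} := by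
    intro h
    rw [Submodule.mem_span_singleton] at h
    obtain ⟨c, hc⟩ := h
    have := LinearIndependent.pair_iff.1 hv 1 (-c) (by rw [neg_smul, hc, one_smul, add_neg_cancel])
    exact one_ne_zero this.1
  have hmem2 : v₂ ∉ Submodule.span k {v₁} := by
    intro h
    rw [Submodule.mem_span_singleton] at h
    obtain ⟨c, hc⟩ := h
    have := LinearIndependent.pair_iff.1 hv (-c) 1 (by rw [neg_smul, hc, one_smul, neg_add_cancel])
    exact one_ne_zero this.2
  obtain ⟨lX, hlX, hX1⟩ := LinearMap.exists_extend_of_notMem (0 : Submodule.span k {v₂} →ₗ[k] k)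
    hmem1 1
  obtain ⟨lY, hlY, hY2⟩ := LinearMap.exists_extend_of_notMem (0 : Submodule.span k {v₁} →ₗ[k] k)
    hmem2 1
  have hX2 : lX v₂ = 0 := by
    simpa using LinearMap.congr_fun hlX ⟨v₂, Submodule.mem_span_singleton_self v₂⟩
  have hY1 : lY v₁ = 0 := by
    simpa using LinearMap.congr_fun hlY ⟨v₁, Submodule.mem_span_singleton_self v₁⟩
  exact ⟨lX, lY, hX1, hX2, hY1, hY2⟩

/-- The forms with prescribed values and differentials at two points. -/
theorem exists_form (d : ℕ) (hd : 2 ≤ d) (v₁ v₂ : Fin n → k) (hv : LinearIndependent k ![v₁, v₂])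
    (φ ψ : Module.Dual k (Fin n → k)) (a b : k) (h1 : φ v₁ = d * a) (h2 : ψ v₂ = d * b)
    (h3 : d = 2 → φ v₂ = ψ v₁) :
    ∃ G : MvPolynomial (Fin n) k, G.IsHomogeneous d ∧ aeval v₁ G = a ∧ (∀ w, dd v₁ w G = φ w) ∧
      aeval v₂ G = b ∧ ∀ w, dd v₂ w G = ψ w := by
  obtain ⟨lX, lY, hX1, hX2, hY1, hY2⟩ := exists_dual_pair v₁ v₂ hv
  obtain ⟨m, rfl⟩ : ∃ m, d = m + 2 := ⟨d - 2, by omega⟩
  set c : k := if m = 0 then φ v₂ else 0 with hc
  let P : MvPolynomial (Fin n) k := lin φ - C (φ v₁) * lin lX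
  let Q : MvPolynomial (Fin n) k := lin ψ - C (ψ v₂) * lin lY
  have hPhom : P.IsHomogeneous 1 := by
    refine (lin_isHomogeneous φ).sub ?_
    simpa using (isHomogeneous_C (Fin n) (φ v₁)).mul (lin_isHomogeneous lX)
  have hQhom : Q.IsHomogeneous 1 := by
    refine (lin_isHomogeneous ψ).sub ?_
    simpa using (isHomogeneous_C (Fin n) (ψ v₂)).mul (lin_isHomogeneous lY)
  have hP : ∀ v, aeval v P = φ v - φ v₁ * lX v := fun v => by
    simp only [P, map_sub, map_mul, aeval_lin, aeval_C, Algebra.algebraMap_self, RingHom.id_apply]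
  have hQ : ∀ v, aeval v Q = ψ v - ψ v₂ * lY v := fun v => by
    simp only [Q, map_sub, map_mul, aeval_lin, aeval_C, Algebra.algebraMap_self, RingHom.id_apply]
  have hdP : ∀ v w, dd v w P = φ w - φ v₁ * lX w := fun v w => by
    simp only [P, map_sub, dd_C_mul, dd_lin]
  have hdQ : ∀ v w, dd v w Q = ψ w - ψ v₂ * lY w := fun v w => by
    simp only [Q, map_sub, dd_C_mul, dd_lin]
  let G : MvPolynomial (Fin n) k :=
    C a * lin lX ^ (m + 2) + lin lX ^ (m + 1) * P + (C b * lin lY ^ (m + 2) + lin lY ^ (m + 1) * Q)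
      - C c * (lin lX * lin lY) * lin lX ^ m
  have hG : G.IsHomogeneous (m + 2) := by
    refine IsHomogeneous.sub (IsHomogeneous.add (IsHomogeneous.add ?_ ?_)
      (IsHomogeneous.add ?_ ?_)) ?_
    · simpa using (isHomogeneous_C (Fin n) a).mul ((lin_isHomogeneous lX).pow (m + 2))
    · simpa using ((lin_isHomogeneous lX).pow (m + 1)).mul hPhom
    · simpa using (isHomogeneous_C (Fin n) b).mul ((lin_isHomogeneous lY).pow (m + 2))
    · simpa using ((lin_isHomogeneous lY).pow (m + 1)).mul hQhom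
    · have h0 := ((isHomogeneous_C (Fin n) c).mul ((lin_isHomogeneous lX).mul
        (lin_isHomogeneous lY))).mul ((lin_isHomogeneous lX).pow m)
      have h0' : 0 + (1 + 1) + 1 * m = m + 2 := by omega
      rw [h0'] at h0
      exact h0
  refine ⟨G, hG, ?_, ?_, ?_, ?_⟩
  · simp only [G, map_sub, map_add, map_mul, map_pow, aeval_lin, hP, hQ, hX1, hY1, aeval_C,
      Algebra.algebraMap_self, RingHom.id_apply]
    simp
  · intro w
    simp only [G, map_sub, map_add, map_mul, map_pow, dd_mul, dd_pow, aeval_lin, hP, hQ, hX1, hY1,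
      aeval_C, dd_lin, hdP, hdQ, dd_C,
      Algebra.algebraMap_self, RingHom.id_apply]
    rcases m with _ | m
    · have hc' : c = ψ v₁ := by rw [hc, if_pos rfl]; exact h3 rfl
      rw [h1, hc']
      simp
      ring
    · have hc' : c = 0 := by rw [hc, if_neg (Nat.succ_ne_zero m)]
      rw [h1, hc']
      simp
      ring
  · simp only [G, map_sub, map_add, map_mul, map_pow, aeval_lin, hP, hQ, hX2, hY2, aeval_C,
      Algebra.algebraMap_self, RingHom.id_apply]
    simp
  · intro w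
    simp only [G, map_sub, map_add, map_mul, map_pow, dd_mul, dd_pow, aeval_lin, hP, hQ, hX2, hY2,
      aeval_C, dd_lin, hdP, hdQ, dd_C,
      Algebra.algebraMap_self, RingHom.id_apply]
    rcases m with _ | m
    · have hc' : c = φ v₂ := by rw [hc, if_pos rfl]
      rw [h2, hc']
      simp
      ring
    · have hc' : c = 0 := by rw [hc, if_neg (Nat.succ_ne_zero m)]
      rw [h2, hc']
      simp
      ring

end Exists

section Main

variable {k : Type u} [Field k] {r : ℕ}

/-- The value at `v` and the differential at `v` restricted to `W`. -/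
noncomputable def jet (d : ℕ) (W : Submodule k (Fin (r + 1) → k)) (v : Fin (r + 1) → k) :
    Form r k d →ₗ[k] k × Module.Dual k ↥W where
  toFun G := (aeval v G.1,
    { toFun := fun w => dd v w.1 G.1
      map_add' := fun w w' => dd_add_right v w.1 w'.1 G.1
      map_smul' := fun c w => dd_smul_right v w.1 c G.1 })
  map_add' G G' := by
    ext
    · simp
    · simp
  map_smul' c G := by
    ext
    · simp
    · simp

theorem jet_fst (d : ℕ) (W : Submodule k (Fin (r + 1) → k)) (v : Fin (r + 1) → k)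
    (G : Form r k d) : (jet d W v G).1 = aeval v G.1 := rfl

theorem jet_snd (d : ℕ) (W : Submodule k (Fin (r + 1) → k)) (v : Fin (r + 1) → k)
    (G : Form r k d) (w : W) : (jet d W v G).2 w = dd v w.1 G.1 := rfl

theorem ker_jet (d : ℕ) (W : Submodule k (Fin (r + 1) → k)) (v : Fin (r + 1) → k) :
    LinearMap.ker (jet d W v) = LinearMap.ker (tangLin (d := d) k W v) := by
  ext G
  rw [LinearMap.mem_ker, LinearMap.mem_ker, Prod.ext_iff, Prod.ext_iff, jet_fst]
  refine and_congr Iff.rfl ?_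
  constructor
  · intro h
    funext w
    have := LinearMap.congr_fun h w
    rw [jet_snd] at this
    simpa [tangLin, dd_apply] using this
  · intro h
    ext w
    have := congrFun h w
    rw [jet_snd]
    simpa [tangLin, dd_apply] using this

theorem ker_jets (d : ℕ) (W₁ W₂ : Submodule k (Fin (r + 1) → k)) (v₁ v₂ : Fin (r + 1) → k) :
    LinearMap.ker ((jet d W₁ v₁).prod (jet d W₂ v₂)) = tangentForms k d W₁ v₁ W₂ v₂ := by
  rw [LinearMap.ker_prod, ker_jet, ker_jet, tangentForms]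

instance finite_form (d : ℕ) : Module.Finite k (Form r k d) :=
  Module.Finite.iff_fg.mpr (homogeneousSubmodule_fg (Fin (r + 1)) k d)

/-- The Euler constraint on jets. -/
noncomputable def con (d : ℕ) (W : Submodule k (Fin (r + 1) → k)) (v : Fin (r + 1) → k)
    (h : v ∈ W) : k × Module.Dual k ↥W →ₗ[k] k where
  toFun p := p.2 ⟨v, h⟩ - d * p.1
  map_add' p q := by simp; ring
  map_smul' c p := by simp; ring

/-- The functional `φ(v₂) - ψ(v₁)`. -/
noncomputable def cross (W₁ W₂ : Submodule k (Fin (r + 1) → k)) (v₁ v₂ : Fin (r + 1) → k)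
    (h₂₁ : v₂ ∈ W₁) (h₁₂ : v₁ ∈ W₂) :
    (k × Module.Dual k ↥W₁) × (k × Module.Dual k ↥W₂) →ₗ[k] k where
  toFun p := p.1.2 ⟨v₂, h₂₁⟩ - p.2.2 ⟨v₁, h₁₂⟩
  map_add' p q := by simp; ring
  map_smul' c p := by simp; ring

theorem con_jet (d : ℕ) (W : Submodule k (Fin (r + 1) → k)) (v : Fin (r + 1) → k)
    (h : v ∈ W) (G : Form r k d) : con d W v h (jet d W v G) = 0 := by
  change dd v v G.1 - d * aeval v G.1 = 0
  rw [dd_self v G.1 G.2, sub_self]

theorem finrank_jets (W : Submodule k (Fin (r + 1) → k)) :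
    Module.finrank k (k × Module.Dual k ↥W) = 1 + Module.finrank k ↥W := by
  rw [Module.finrank_prod, Module.finrank_self, Subspace.dual_finrank_eq]

theorem exists_jet (d : ℕ) (hd : 2 ≤ d)
    (W₁ W₂ : Submodule k (Fin (r + 1) → k)) (v₁ v₂ : Fin (r + 1) → k)
    (h₁ : v₁ ∈ W₁) (h₂ : v₂ ∈ W₂)
    (hv : LinearIndependent k ![v₁, v₂]) (p : (k × Module.Dual k ↥W₁) × (k × Module.Dual k ↥W₂))
    (hp1 : con d W₁ v₁ h₁ p.1 = 0) (hp2 : con d W₂ v₂ h₂ p.2 = 0)
    (φ ψ : Module.Dual k (Fin (r + 1) → k)) (hφ : φ.comp W₁.subtype = p.1.2)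
    (hψ : ψ.comp W₂.subtype = p.2.2) (h3 : d = 2 → φ v₂ = ψ v₁) :
    p ∈ LinearMap.range ((jet d W₁ v₁).prod (jet d W₂ v₂)) := by
  have e1 : φ v₁ = d * p.1.1 := by
    have : p.1.2 ⟨v₁, h₁⟩ - d * p.1.1 = 0 := hp1
    rw [← hφ] at this
    exact sub_eq_zero.1 this
  have e2 : ψ v₂ = d * p.2.1 := by
    have : p.2.2 ⟨v₂, h₂⟩ - d * p.2.1 = 0 := hp2
    rw [← hψ] at this
    exact sub_eq_zero.1 this
  obtain ⟨G, hG, g1, g2, g3, g4⟩ := exists_form d hd v₁ v₂ hv φ ψ p.1.1 p.2.1 e1 e2 h3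
  refine ⟨⟨G, hG⟩, ?_⟩
  ext
  · exact g1
  · rename_i w
    rw [← hφ]
    exact g2 w.1
  · exact g3
  · rename_i w
    rw [← hψ]
    exact g4 w.1

theorem range_eq_of_three_le (d : ℕ) (hd : 2 ≤ d)
    (W₁ W₂ : Submodule k (Fin (r + 1) → k)) (v₁ v₂ : Fin (r + 1) → k)
    (h₁ : v₁ ∈ W₁) (h₂ : v₂ ∈ W₂)
    (hv : LinearIndependent k ![v₁, v₂]) (h : 3 ≤ d ∨ ¬ (v₂ ∈ W₁ ∧ v₁ ∈ W₂)) :
    LinearMap.range ((jet d W₁ v₁).prod (jet d W₂ v₂)) =
      LinearMap.ker ((con d W₁ v₁ h₁).prodMap (con d W₂ v₂ h₂)) := by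
  apply le_antisymm
  · rintro _ ⟨G, rfl⟩
    rw [LinearMap.mem_ker]
    ext
    · exact con_jet d W₁ v₁ h₁ G
    · exact con_jet d W₂ v₂ h₂ G
  · intro p hp
    rw [LinearMap.mem_ker, Prod.ext_iff] at hp
    obtain ⟨hp1, hp2⟩ := hp
    by_cases h21 : v₂ ∈ W₁
    · by_cases h12 : v₁ ∈ W₂
      · have h3 : 3 ≤ d := by
          rcases h with h | h
          · exact h
          · exact absurd ⟨h21, h12⟩ h
        obtain ⟨φ, hφ⟩ := LinearMap.exists_extend p.1.2
        obtain ⟨ψ, hψ⟩ := LinearMap.exists_extend p.2.2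
        exact exists_jet d hd W₁ W₂ v₁ v₂ h₁ h₂ hv p hp1 hp2 φ ψ hφ hψ (by omega)
      · obtain ⟨φ, hφ⟩ := LinearMap.exists_extend p.1.2
        obtain ⟨ψ, hψ, hψ'⟩ := LinearMap.exists_extend_of_notMem p.2.2 h12 (φ v₂)
        exact exists_jet d hd W₁ W₂ v₁ v₂ h₁ h₂ hv p hp1 hp2 φ ψ hφ hψ (fun _ => hψ'.symm)
    · obtain ⟨ψ, hψ⟩ := LinearMap.exists_extend p.2.2
      obtain ⟨φ, hφ, hφ'⟩ := LinearMap.exists_extend_of_notMem p.1.2 h21 (ψ v₁)
      exact exists_jet d hd W₁ W₂ v₁ v₂ h₁ h₂ hv p hp1 hp2 φ ψ hφ hψ (fun _ => hφ')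

theorem range_eq_of_two
    (W₁ W₂ : Submodule k (Fin (r + 1) → k)) (v₁ v₂ : Fin (r + 1) → k)
    (h₁ : v₁ ∈ W₁) (h₂ : v₂ ∈ W₂)
    (hv : LinearIndependent k ![v₁, v₂]) (h21 : v₂ ∈ W₁) (h12 : v₁ ∈ W₂) :
    LinearMap.range ((jet 2 W₁ v₁).prod (jet 2 W₂ v₂)) =
      LinearMap.ker (((con 2 W₁ v₁ h₁).prodMap (con 2 W₂ v₂ h₂)).prod
        (cross W₁ W₂ v₁ v₂ h21 h12)) := by
  apply le_antisymm
  · rintro _ ⟨G, rfl⟩
    rw [LinearMap.mem_ker]
    ext
    · exact con_jet 2 W₁ v₁ h₁ G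
    · exact con_jet 2 W₂ v₂ h₂ G
    · change dd v₁ v₂ G.1 - dd v₂ v₁ G.1 = 0
      rw [dd_symm v₁ v₂ G.1 G.2, sub_self]
  · intro p hp
    rw [LinearMap.mem_ker, Prod.ext_iff, Prod.ext_iff] at hp
    obtain ⟨⟨hp1, hp2⟩, hp3⟩ := hp
    obtain ⟨φ, hφ⟩ := LinearMap.exists_extend p.1.2
    obtain ⟨ψ, hψ⟩ := LinearMap.exists_extend p.2.2
    refine exists_jet 2 le_rfl W₁ W₂ v₁ v₂ h₁ h₂ hv p hp1 hp2 φ ψ hφ hψ (fun _ => ?_)
    have h3 : p.1.2 ⟨v₂, h21⟩ - p.2.2 ⟨v₁, h12⟩ = 0 := hp3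
    rw [← hφ, ← hψ] at h3
    exact sub_eq_zero.1 h3

end Main

/-- Let k be a field (the source works over an algebraically closed field; the count is the same over
any field), d ≥ 2, x₁ = [v₁] and x₂ = [v₂] two distinct points of projective r-space and P(W₁) ∋ x₁,
P(W₂) ∋ x₂ linear subspaces. In the space of degree-d forms, those whose hypersurface passes through
x₁ tangentially to P(W₁) and through x₂ tangentially to P(W₂) form a linear subspace of codimension
dim P(W₁) + dim P(W₂) + 2 = dim W₁ + dim W₂ when d ≥ 3 or when the line x₁x₂ is not contained in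
both P(W₁) and P(W₂), and of codimension dim W₁ + dim W₂ - 1 when d = 2 and the line x₁x₂ lies in
P(W₁) ∩ P(W₂). -/
theorem result (k : Type u) [Field k] (r d : ℕ) (hd : 2 ≤ d)
    (W₁ W₂ : Submodule k (Fin (r + 1) → k)) (v₁ v₂ : Fin (r + 1) → k) (h₁ : v₁ ∈ W₁) (h₂ : v₂ ∈ W₂)
    (hv : LinearIndependent k ![v₁, v₂]) :
    ((3 ≤ d ∨ ¬ (v₂ ∈ W₁ ∧ v₁ ∈ W₂)) →
      Module.finrank k (LefPen.Form r k d) =
        Module.finrank k ↥(LefPen.tangentForms k d W₁ v₁ W₂ v₂) + (Module.finrank k ↥W₁ + Module.finrank k ↥W₂)) ∧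
    ((d = 2 ∧ v₂ ∈ W₁ ∧ v₁ ∈ W₂) →
      Module.finrank k (LefPen.Form r k d) + 1 =
        Module.finrank k ↥(LefPen.tangentForms k d W₁ v₁ W₂ v₂) + (Module.finrank k ↥W₁ + Module.finrank k ↥W₂)) := by
  obtain ⟨lX, lY, hX1, hX2, hY1, hY2⟩ := exists_dual_pair v₁ v₂ hv
  constructor
  · intro h
    have e1 := LinearMap.finrank_range_add_finrank_ker
      ((jet d W₁ v₁).prod (jet d W₂ v₂) : LefPen.Form r k d →ₗ[k] _)
    rw [ker_jets, range_eq_of_three_le d hd W₁ W₂ v₁ v₂ h₁ h₂ hv h] at e1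
    have e2 := LinearMap.finrank_range_add_finrank_ker
      ((con d W₁ v₁ h₁).prodMap (con d W₂ v₂ h₂))
    rw [Module.finrank_prod, finrank_jets, finrank_jets, LinearMap.range_eq_top.2,
      finrank_top, Module.finrank_prod, Module.finrank_self] at e2
    · omega
    · rintro ⟨x, y⟩
      refine ⟨((0, x • lX.comp W₁.subtype), (0, y • lY.comp W₂.subtype)), ?_⟩
      ext
      · change x • lX v₁ - d * (0 : k) = x
        simp [hX1]
      · change y • lY v₂ - d * (0 : k) = y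
        simp [hY2]
  · rintro ⟨rfl, h21, h12⟩
    have e1 := LinearMap.finrank_range_add_finrank_ker
      ((jet 2 W₁ v₁).prod (jet 2 W₂ v₂) : LefPen.Form r k 2 →ₗ[k] _)
    rw [ker_jets, range_eq_of_two W₁ W₂ v₁ v₂ h₁ h₂ hv h21 h12] at e1
    have e2 := LinearMap.finrank_range_add_finrank_ker
      (((con 2 W₁ v₁ h₁).prodMap (con 2 W₂ v₂ h₂)).prod
        (cross W₁ W₂ v₁ v₂ h21 h12))
    rw [Module.finrank_prod, finrank_jets, finrank_jets, LinearMap.range_eq_top.2,
      finrank_top, Module.finrank_prod, Module.finrank_prod, Module.finrank_self] at e2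
    · omega
    · rintro ⟨⟨x, y⟩, z⟩
      refine ⟨((0, x • lX.comp W₁.subtype + z • lY.comp W₁.subtype),
        (0, y • lY.comp W₂.subtype)), ?_⟩
      ext
      · change (x • lX v₁ + z • lY v₁) - ((2 : ℕ) : k) * (0 : k) = x
        simp [hX1, hY1]
      · change y • lY v₂ - ((2 : ℕ) : k) * (0 : k) = y
        simp [hY2]
      · change (x • lX v₂ + z • lY v₂) - y • lY v₁ = z
        simp [hX2, hY2, hY1]

end Groth.Agent.S4024
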