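import Groth.Statements.S3993
import Groth.Agent.Vancyc.H675.SmoothPt

set_option autoImplicit false
universe u
open CategoryTheory CategoryTheory.Limits AlgebraicGeometry
open VanCyc

namespace Groth.Agent.S3993

/-- Let R be a strictly henselian discrete valuation ring with fraction field K, Ω a separable closure
of K, f : X -> Spec R a morphism, N an integer invertible in R, F a locally constant abelian sheaf
on X killed by N, and x a point of the special fibre X_s at which f is smooth (x lies in an open U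
of X with U -> Spec R smooth). Then at every geometric point ξ of X_s centred at x the vanishing
cycles of F are zero: the canonical map from (i^* F)_ξ to the stalk of the degree-zero nearby cycles
i^* jbar_* jbar^* F is an isomorphism, and the stalk at ξ of i^* R^q jbar_* (jbar^* F) vanishes for
every q ≥ 1 (i : X_s -> X and jbar : X ×_{Spec R} Spec Ω -> X the two fibre inclusions). -/
theorem result (R K Ω : Type u) [CommRing R] [IsDomain R] [IsDiscreteValuationRing R]
    (hR : EtCoh.IsStrictlyHenselianLocalRing R) [Field K] [Algebra R K] [IsFractionRing R K] [Field Ω] [Algebra K Ω]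
    [IsSepClosure K Ω] [Algebra R Ω] [IsScalarTower R K Ω]
    {X : Scheme.{u}} (f : X ⟶ Spec (CommRingCat.of R))
    (U : X.Opens) (hU : Smooth (U.ι ≫ f)) (x : ↥(VanCyc.spFib R f)) (hx : (VanCyc.icl R f).base x ∈ U)
    {Ω' : Type u} [Field Ω'] [IsSepClosed Ω']
    (ξ : Spec (CommRingCat.of Ω') ⟶ VanCyc.spFib R f) (hξ : ξ.base (IsLocalRing.closedPoint Ω') = x) (N : ℕ) (hN : IsUnit (N : R))
    (F : EtCoh.Ab X) (hF : EtRest.IsLocallyConstant F) (hFN : EtCoh.KilledBy N F) :
    IsIso ((EtCoh.stalk ξ).map (VanCyc.psi0Unit R Ω f F)) ∧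
      ∀ q : ℕ, 1 ≤ q → IsZero ((EtCoh.stalk ξ).obj (VanCyc.psi R Ω f q ((EtCoh.pull (VanCyc.jA R f Ω)).obj F))) := by
  obtain ⟨hH, hS⟩ := hR
  have hΩ : IsSepClosed Ω := IsSepClosure.sep_closed K
  have hc : IsPullback (VanCyc.fibStr R f Ω) (VanCyc.jA R f Ω) (VanCyc.toS R Ω) f :=
    (IsPullback.of_hasPullback f (VanCyc.toS R Ω)).flip
  have hξx : ξ default = x := by
    rw [← hξ]
    exact congrArg ξ.base (Subsingleton.elim _ _)
  have hp1 : (ξ ≫ VanCyc.icl R f) default = (VanCyc.icl R f) x := by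
    rw [Scheme.Hom.comp_apply, hξx]
  have hp2 : f ((ξ ≫ VanCyc.icl R f) default) = IsLocalRing.closedPoint R := by
    rw [hp1, ← Scheme.Hom.comp_apply, show VanCyc.icl R f ≫ f = _ from pullback.condition,
      Scheme.Hom.comp_apply]
    exact Groth.Agent.Vancyc.H675.SmoothPt.toSk_apply R _
  have hA := Groth.Agent.Vancyc.H675.SmoothPt.acycPt_of_smooth_nhd R (VanCyc.toS R Ω) f (VanCyc.jA R f Ω)
    (VanCyc.fibStr R f Ω) hc U hU N hN F hF hFN (ξ ≫ VanCyc.icl R f) (by rw [hp1]; exact hx) hp2
  refine ⟨?_, fun q hq => (hA.2 q hq).of_iso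
    ((Groth.Agent.Etbase.StalkPull.stalkPullIso (VanCyc.icl R f) ξ).app _).symm⟩
  exact (NatIso.isIso_map_iff (Groth.Agent.Etbase.StalkPull.stalkPullIso (VanCyc.icl R f) ξ) _).1 hA.1

end Groth.Agent.S3993
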