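import Groth.Statements.S3995
import Groth.Agent.Vancyc.H677.Main0

set_option autoImplicit false
universe u
open CategoryTheory CategoryTheory.Limits AlgebraicGeometry
open VanCyc

namespace Groth.Agent.S3995

/-- Let R be a strictly henselian discrete valuation ring with fraction field K, Ω a separable closure
of K, N invertible in R, f : X -> S = Spec R flat and locally of finite type, and x a closed point
of the special fibre X_s which is an ordinary quadratic point of X_s of dimension 0 (after base
change to an algebraic closure k̄ of the residue field, the completed local ring at each point over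
x is k̄[[x_0]]/(g) with g of order exactly 2), near which the generic fibre is smooth (étale) over
K. Then at every geometric point ξ of X_s centred at x: the stalk of i^* R^q jbar_* jbar^* Z/N
vanishes for q ≥ 1, the stalk of i^* jbar_* jbar^* Z/N is isomorphic to (Z/N)^2 (free of rank two),
and the canonical map from (i^* Z/N)_ξ into it is injective with cokernel isomorphic to Z/N (so the
vanishing cycles in degree 0 have rank one). -/
theorem result (R K Ω : Type u) [CommRing R] [IsDomain R] [IsDiscreteValuationRing R]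
    (hR : EtCoh.IsStrictlyHenselianLocalRing R) [Field K] [Algebra R K] [IsFractionRing R K] [Field Ω] [Algebra K Ω]
    [IsSepClosure K Ω] [Algebra R Ω] [IsScalarTower R K Ω]
    {X : Scheme.{u}} (f : X ⟶ Spec (CommRingCat.of R)) [LocallyOfFiniteType f] [Flat f]
    (x : ↥(VanCyc.spFib R f)) (hxc : IsClosed ({x} : Set ↥(VanCyc.spFib R f)))
    (hq : VanCyc.IsOrdQuadPt (VanCyc.resHom (VanCyc.spStr R f) x) 0)
    (V : X.Opens) (hxV : (VanCyc.icl R f).base x ∈ V) (hV : Smooth (pullback.snd (V.ι ≫ f) (VanCyc.toS R K)))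
    {Ω' : Type u} [Field Ω'] [IsSepClosed Ω']
    (ξ : Spec (CommRingCat.of Ω') ⟶ VanCyc.spFib R f) (hξ : ξ.base (IsLocalRing.closedPoint Ω') = x) (N : ℕ) (hN : IsUnit (N : R)) :
    (∀ q : ℕ, 1 ≤ q →
        IsZero ((EtCoh.stalk ξ).obj (VanCyc.psi R Ω f q ((EtCoh.pull (VanCyc.jA R f Ω)).obj (EtCoh.const X (ZMod N)))))) ∧
      Nonempty ((EtCoh.stalk ξ).obj (VanCyc.psi0 R Ω f ((EtCoh.pull (VanCyc.jA R f Ω)).obj (EtCoh.const X (ZMod N)))) ≅
        AddCommGrpCat.of (ULift.{u + 1} (ZMod N × ZMod N))) ∧
      Mono ((EtCoh.stalk ξ).map (VanCyc.psi0Unit R Ω f (EtCoh.const X (ZMod N)))) ∧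
      Nonempty (cokernel ((EtCoh.stalk ξ).map (VanCyc.psi0Unit R Ω f (EtCoh.const X (ZMod N)))) ≅
        AddCommGrpCat.of (ULift.{u + 1} (ZMod N))) := by
  obtain ⟨h1, h2⟩ := hR
  have : IsSepClosed Ω := IsSepClosure.sep_closed K
  have : NeZero N := ⟨by
    rintro rfl
    rw [Nat.cast_zero] at hN
    exact not_isUnit_zero hN⟩
  exact Groth.Agent.Vancyc.H677.Main0.main R K Ω f x hxc hq V hxV hV ξ hξ N

end Groth.Agent.S3995
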