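import Groth.Statements.S3997
import Groth.Agent.Vancyc.H679.PicLef
import Groth.Agent.S3993
import Groth.Agent.S3994
import Groth.Agent.S3995

set_option autoImplicit false
universe u
open CategoryTheory CategoryTheory.Limits AlgebraicGeometry
open VanCyc

namespace Groth.Agent.S3997

/-- Cohomological part of the Picard–Lefschetz formula, degrees n and n + 1: let R be a strictly
henselian discrete valuation ring with residue field k and fraction field K, Ω a separable closure
of K, S = Spec R, and f : X -> S proper and flat, purely of relative dimension n in the following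
sense: the generic fibre X_η is smooth over K of relative dimension n, and the special fibre X_s is
smooth over k of relative dimension n outside a finite set Sing of closed points, each of which is
an ordinary quadratic point of X_s of dimension n. Let N be invertible in R and write jbar : X_ηbar
= X ×_S Spec Ω -> X. Then the restriction map H^n(X, Z/N) -> H^n(X_ηbar, jbar^* Z/N) is injective,
the restriction map in degree n + 1 is surjective, and there are additive maps φ : H^n(X_ηbar,
jbar^* Z/N) -> (Z/N)^Sing and ψ : (Z/N)^Sing -> H^{n+1}(X, Z/N) making 0 -> H^n(X) -> H^n(X_ηbar) ->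
(Z/N)^Sing -> H^{n+1}(X) -> H^{n+1}(X_ηbar) -> 0 exact (the middle term is the sum over the singular
points of the rank-one groups of vanishing cycles; the Tate twist on it is trivial because all N-th
roots of unity lie in R). The maps φ and ψ are asserted to exist; they are not identified here with
the pairings against the vanishing cycles δ_x. -/
theorem result (R K Ω : Type u) [CommRing R] [IsDomain R] [IsDiscreteValuationRing R]
    (hR : EtCoh.IsStrictlyHenselianLocalRing R) [Field K] [Algebra R K] [IsFractionRing R K] [Field Ω] [Algebra K Ω]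
    [IsSepClosure K Ω] [Algebra R Ω] [IsScalarTower R K Ω]
    {X : Scheme.{u}} (f : X ⟶ Spec (CommRingCat.of R)) [IsProper f] [Flat f] (n : ℕ)
    (hη : SmoothOfRelativeDimension n (VanCyc.fibStr R f K))
    (Sing : Finset ↥(VanCyc.spFib R f)) (hSc : ∀ x ∈ Sing, IsClosed ({x} : Set ↥(VanCyc.spFib R f)))
    (hSq : ∀ x ∈ Sing, VanCyc.IsOrdQuadPt (VanCyc.resHom (VanCyc.spStr R f) x) n)
    (U : (VanCyc.spFib R f).Opens) (hU : ∀ x : ↥(VanCyc.spFib R f), x ∉ Sing → x ∈ U)
    (hUs : SmoothOfRelativeDimension n (U.ι ≫ VanCyc.spStr R f))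
    (N : ℕ) (hN : IsUnit (N : R)) [PreservesFiniteLimits (EtCoh.pull (VanCyc.jA R f Ω))] :
    Function.Injective (EtCore.Hpull (VanCyc.jA R f Ω) (EtCoh.const X (ZMod N)) n) ∧
      Function.Surjective (EtCore.Hpull (VanCyc.jA R f Ω) (EtCoh.const X (ZMod N)) (n + 1)) ∧
      ∃ (φ : EtCoh.H (VanCyc.fib R f Ω) ((EtCoh.pull (VanCyc.jA R f Ω)).obj (EtCoh.const X (ZMod N))) n →+
          (↥Sing → ZMod N))
        (ψ : (↥Sing → ZMod N) →+ EtCoh.H X (EtCoh.const X (ZMod N)) (n + 1)),
        φ.ker = (EtCore.Hpull (VanCyc.jA R f Ω) (EtCoh.const X (ZMod N)) n).range ∧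
          ψ.ker = φ.range ∧
          (EtCore.Hpull (VanCyc.jA R f Ω) (EtCoh.const X (ZMod N)) (n + 1)).ker = ψ.range := by
  obtain ⟨h1, h2, h3⟩ := Groth.Agent.Vancyc.H679.PicLef.main R K Ω hR f n hη Sing hSc hSq U hU hUs N hN
    (fun V hV x hx Ω' _ _ ξ hξ => Groth.Agent.S3993.result R K Ω hR f V hV x hx ξ hξ N hN _
      (Groth.Agent.Vancyc.H679.GoodSing.isLocallyConstant_const X (ZMod N))
      (Groth.Agent.Vancyc.H679.GoodSing.killedBy_const X N))
    (fun hn x hxc hq V hxV hV Ω' _ _ ξ hξ =>
      Groth.Agent.S3994.result R K Ω hR f n hn x hxc hq V hxV hV ξ hξ N hN)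
    (fun hn x hxc hq V hxV hV Ω' _ _ ξ hξ =>
      Groth.Agent.S3995.result R K Ω hR f x hxc hq V hxV hV ξ hξ N hN)
  exact ⟨h1 n (by omega), h2 (n + 1) (by omega), h3⟩

end Groth.Agent.S3997
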