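import Groth.Statements.S4285
import Groth.Agent.Pic13.H951.PresentX
import Groth.Agent.Pic13.H542.HomFin

set_option autoImplicit false
universe u
open CategoryTheory CategoryTheory.Limits AlgebraicGeometry
open Pic13

namespace Groth.Agent.S4285

/-- (iii) implies (i), over the base S = Spec k with k algebraically closed: let X ⊆ P^n_k be a closed
subscheme, m an integer and φ a polynomial. The family of coherent O_X-modules F which are m-regular
(H^q(X, F(m - q)) = 0 for q ≥ 1) and have Hilbert polynomial φ (χ(F(d)) = φ(d) for all integers d)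
is bounded. (The source allows a finite set of Hilbert polynomials and a projective X over a
Noetherian base with O_X(1) generated by global sections on the fibres.) -/
theorem result (k : Type u) [Field k] [IsAlgClosed k] (n : ℕ) (X : Scheme.{u}) [X.Over (Spec (CommRingCat.of k))]
    (i : X ⟶ CohB1.ProjSpace n k) [IsClosedImmersion i] (hi : i ≫ CohB1.ProjSpace.toSpec n k = X ↘ Spec (CommRingCat.of k))
    (m : ℤ) (φ : Polynomial ℚ) :
    Pic13.IsBounded k X (fun F : X.Modules => Coh.IsCoh F ∧ Pic13.IsMRegular k i F m ∧
      ∀ d : ℤ, (FGA.eulerCharLE k X (Pic13.twistOn k i F d) n : ℚ) = φ.eval (d : ℚ)) := by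
  have hproper : IsProper (X ↘ Spec (CommRingCat.of k)) := by
    rw [← hi]
    have : IsProper (CohB1.ProjSpace.toSpec n k) := Groth.Agent.Ega3B.ProjProper.isProper_toSpec n k
    infer_instance
  obtain ⟨E, E', hE, hE', h⟩ := Groth.Agent.Pic13.H951.PresentX.exists_presentation k i hi m φ
  obtain ⟨T, q, hq, hq', F, hF, hT⟩ := Groth.Agent.Pic13.H542.HomFin.isBounded_coker_all k hE hE'
  exact ⟨T, q, hq, hq', F, hF, fun L hL => hT L (h L hL)⟩

end Groth.Agent.S4285
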