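import Groth.Statements.S4086
import Groth.Agent.GrpQ.H765.Glue
import Groth.Agent.GrpQ.H766.Consequences

set_option autoImplicit false
universe u
open CategoryTheory MonoidalCategory CartesianMonoidalCategory MonObj GrpObj AlgebraicGeometry CategoryTheory.Limits
open GrpQ

namespace Groth.Agent.S4086

open Groth.Agent.GrpQ.H766.GeomQuotDef Groth.Agent.GrpQ.H766

/-- existence of the geometric quotient -/
theorem exists_isGeomQuot (S : Scheme.{u}) (G : Grpd.GroupoidScheme S)
    (ha : Mor2.IsFinLocFree G.s)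
    (hb : ∀ x : G.U, ∃ V : G.U.Opens, IsAffineOpen V ∧
      G.t.base '' (G.s.base ⁻¹' {x}) ⊆ (V : Set G.U)) :
    ∃ (Y : Scheme.{u}) (p : G.U ⟶ Y), IsGeomQuot G.s G.t p := by
  obtain ⟨i4, i5, i6⟩ := Consequences.isFinLocFree_t G ha
  obtain ⟨i1, i2, i3⟩ := ha
  refine Groth.Agent.GrpQ.H765.Glue.exists_isGeomQuot fun x => ?_
  obtain ⟨V, hV, hxV⟩ := hb x
  obtain ⟨V', hV', hxV', hinv⟩ := Groth.Agent.S1881.result S G x V hV
    (fun r hr => hxV ⟨r, hr, rfl⟩)
  exact ⟨V', hxV', hinv, _, _, AffineCase.isGeomQuot_tRes G V' hinv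
    (AffineCase.exists_isGeomQuot_of_isAffineOpen G V' hinv hV').1⟩

/-- Let (U, R, s, t, c) be a groupoid scheme over S with s finite locally free and every set t(s⁻¹(x))
contained in an affine open of U, and assume that j = (t, s) : R → U ×_S U is a monomorphism. Then
for every coequalizer p : U → Y of (t, s) in schemes, the square formed by t, s, p, p is cartesian
(R ≅ U ×_Y U) and p is finite locally free. (The source adds that Y is then the quotient sheaf for
the fppf topology and that its formation commutes with base change on Y.) -/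
theorem result (S : Scheme.{u}) (G : Grpd.GroupoidScheme S)
    (ha : Mor2.IsFinLocFree G.s)
    (hb : ∀ x : G.U, ∃ V : G.U.Opens, IsAffineOpen V ∧ G.t.base '' (G.s.base ⁻¹' {x}) ⊆ (V : Set G.U))
    [Mono G.j] (Y : Scheme.{u}) (p : G.U ⟶ Y) (w : G.t ≫ p = G.s ≫ p) (hc : IsColimit (Cofork.ofπ p w)) :
    IsPullback G.t G.s p p ∧ Mor2.IsFinLocFree p := by
  obtain ⟨Y₀, p₀, h₀⟩ := exists_isGeomQuot S G ha hb
  have h := LocalStr.of_isColimit h₀ p w hc
  obtain ⟨i4, i5, i6⟩ := Consequences.isFinLocFree_t G ha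
  obtain ⟨i1, i2, i3⟩ := ha
  exact ⟨Consequences.isPullback_of_mono h hb, Consequences.isFinLocFree_of_mono h hb⟩

end Groth.Agent.S4086
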