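import Groth.Statements.S0000
import Groth.Agent.S0001
import Groth.Agent.S0002
import Groth.Agent.S0003
import Groth.Agent.S0004
import Groth.Agent.S0005
import Groth.Agent.S0006

set_option autoImplicit false
universe u
open Groth

namespace Groth.Agent.S0000

open CategoryTheory AlgebraicGeometry in
open CategoryTheory AlgebraicGeometry Opposite in
/-- The target: the conjunction of EtCoh.T1_proper_base_change, Coh.T2_proper_cohomology_finite,
Formal.T3_formal_functions, Formal.T4_grothendieck_existence, FEt.T5_purity, PicF.T6_picard_curve,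
each written out in full. -/
theorem result :
    (∀ (X Y X' Y' : Scheme.{u}) (f : X ⟶ Y) (g : Y' ⟶ Y)
    (f' : X' ⟶ Y') (g' : X' ⟶ X) (h : IsPullback g' f' f g) [IsProper f]
    (F : EtCoh.Ab X) (hF : EtCoh.IsTorsion F), (∀ q : ℕ, Nonempty ((EtCoh.pull g).obj ((EtCoh.Rpush f q).obj F) ≅
      (EtCoh.Rpush f' q).obj ((EtCoh.pull g').obj F))) ∧
    IsIso (EtCoh.baseChange0 f g f' g' h.w F)) ∧
    (∀ (A : Type u) [CommRing A] [IsNoetherianRing A] (X : Scheme.{u})
    [X.Over (Spec (CommRingCat.of A))] [IsProper (X ↘ Spec (CommRingCat.of A))]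
    (M : X.Modules) (hM : Coh.IsCoh M) (n : ℕ), Module.Finite A (Coh.HH X M n)) ∧
    (∀ (A : Type u) [CommRing A] [IsNoetherianRing A] (I : Ideal A)
    [IsAdicComplete I A] (X : Scheme.{u}) [X.Over (Spec (CommRingCat.of A))]
    [IsProper (X ↘ Spec (CommRingCat.of A))] (M : X.Modules) (hM : Coh.IsCoh M) (p : ℕ), Function.Bijective (Formal.toHHlim I M p)) ∧
    (∀ (A : Type u) [CommRing A] [IsNoetherianRing A] (I : Ideal A)
    [IsAdicComplete I A] (X : Scheme.{u}) [X.Over (Spec (CommRingCat.of A))]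
    [IsProper (X ↘ Spec (CommRingCat.of A))], (∀ (M N : X.Modules), Coh.IsCoh M → Coh.IsCoh N →
      ∀ ψ : Formal.completion I M ⟶ Formal.completion I N, ∃! φ : M ⟶ N,
        ∀ n : ℕ, Formal.modPowπ I (n + 1) M ≫ ψ.app (op n) = φ ≫ Formal.modPowπ I (n + 1) N) ∧
    (∀ G : ℕᵒᵖ ⥤ X.Modules, Formal.IsCohFormal I G →
      ∃ M : X.Modules, Coh.IsCoh M ∧ Nonempty (Formal.completion I M ≅ G))) ∧
    (∀ (X : Scheme.{u}) [IsNoetherian X]
    (hreg : ∀ x : X, IsRegularLocalRing (X.presheaf.stalk x)) (U : X.Opens)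
    (hU : ∀ x : X, x ∉ U → (2 : WithBot ℕ∞) ≤ ringKrullDim (X.presheaf.stalk x)), (FEt.restrict U.ι).IsEquivalence) ∧
    (∀ (k : Type u) [Field k] [IsSepClosed k] (X : Scheme.{u})
    (f : X ⟶ Spec (CommRingCat.of k)) (hX : Curve.IsSmoothProperCurve k X f)
    (σ : Spec (CommRingCat.of k) ⟶ X) (hσ : σ ≫ f = 𝟙 (Spec (CommRingCat.of k))), PicF.RigRepresentable f σ hσ) :=
  ⟨fun X Y X' Y' f g f' g' h _ F hF => Groth.Agent.S0001.result X Y X' Y' f g f' g' h F hF,
    fun A _ _ X _ _ M hM n => Groth.Agent.S0002.result A X M hM n,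
    fun A _ _ I _ X _ _ M hM p => Groth.Agent.S0003.result A I X M hM p,
    fun A _ _ I _ X _ _ => Groth.Agent.S0004.result A I X,
    fun X _ hreg U hU => Groth.Agent.S0005.result X hreg U hU,
    fun k _ _ X f hX σ hσ => Groth.Agent.S0006.result k X f hX σ hσ⟩

end Groth.Agent.S0000
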