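import Groth.Statements.S3135
import Groth.Agent.Sga4h.GenBCAsm202
import Groth.Agent.Sga4h.DivGood917
import Groth.Agent.Etbc.H185.BcMap

set_option autoImplicit false
universe u
open CategoryTheory CategoryTheory.Limits AlgebraicGeometry
attribute [local instance] HasDerivedCategory.standard
open SGA4h

namespace Groth.Agent.S3135

/-- Generic base change for higher direct images of torsion etale sheaves (coefficients ℤ/n): let S be a
noetherian scheme, n a natural number invertible on S, X and Y schemes of finite type over S with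
structure morphisms a : X → S and b : Y → S, f : X → Y an S-morphism (f ≫ b = a), and F a
constructible abelian sheaf on the small etale site of X killed by n. Then there is a dense open
subset U of S such that for every morphism of schemes g : S' → S whose image lies in U and every
pair of cartesian squares Y' = Y ×_S S' and X' = X ×_Y Y' (projections b' : Y' → S', g_Y : Y' → Y,
f' : X' → Y', g_X : X' → X), the base change morphism g_Y⁻¹ Rf_* F → Rf'_* g_X⁻¹ F in the derived
category of abelian etale sheaves on Y' (F placed in degree zero; the morphism is the transpose of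
Rf_* F → Rg_{Y*} Rf'_* g_X⁻¹ F under an adjunction g_Y⁻¹ ⊣ Rg_{Y*} of the derived functors) is an
isomorphism; equivalently, the base change maps g_Y⁻¹ R^q f_* F → R^q f'_* g_X⁻¹ F are bijective for
every q. -/
theorem result {X Y S : Scheme.{u}} [IsNoetherian S]
    (n : ℕ) (hn : IsUnit (n : Γ(S, ⊤))) (a : X ⟶ S) (b : Y ⟶ S) [LocallyOfFiniteType a] [QuasiCompact a]
    [LocallyOfFiniteType b] [QuasiCompact b] (f : X ⟶ Y) (w : f ≫ b = a) [DCoh.HasRpushEt X f]
    (F : EtCoh.Ab X) (hF : EtPBC.IsConstructible F) (hFn : EtCoh.KilledBy n F) :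
    ∃ U : S.Opens, Dense (U : Set S) ∧
      ∀ (S' X' Y' : Scheme.{u}) (g : S' ⟶ S) (_ : Set.range g.base ⊆ (U : Set S)) (b' : Y' ⟶ S') (gY : Y' ⟶ Y)
        (f' : X' ⟶ Y') (gX : X' ⟶ X) (_ : IsPullback gY b' b g) (hX : IsPullback gX f' f gY)
        [PreservesFiniteLimits (EtCoh.pull gY)] [PreservesFiniteLimits (EtCoh.pull gX)]
        [DCoh.HasRpushEt X' f'] [DCoh.HasRpushEt Y' gY] (adj : EtBC.pullD gY ⊣ DCoh.RpushEt Y' gY),
        IsIso (EtBC.bcMap f gY f' gX hX.w adj (EtBC.single X F)) := by
  subst w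
  obtain ⟨i1, i2⟩ := Groth.Agent.Sga4h.FinGen.finiteness_of_comp (b := b) (f := f)
  obtain ⟨U, hU, hG⟩ := Groth.Agent.Sga4h.FinGen.main
    (Groth.Agent.Sga4h.GenBCAsm202.hStmt Groth.Agent.Sga4h.DivGood917.divGood) n hn b f _
    (Groth.Agent.Sga4h.FinGen.adm_single hF hFn)
  exact ⟨U, hU, fun S' X' Y' g hg b' gY f' gX h1 h2 _ _ _ _ adj =>
    (Groth.Agent.Etbc.H185.BcMap.isIso_bcMap_iff f gY f' gX h2.w adj _).2
      ((Groth.Agent.Sga4h.GSq.BC_iff _ _).1 (hG.bc g b' gY f' gX hg h1 h2))⟩

end Groth.Agent.S3135
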