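import Groth.Statements.S3362
import Groth.Agent.S0815
import Groth.Agent.Sga2lef.H84.PunctDim

set_option autoImplicit false
universe u
open CategoryTheory CategoryTheory.Limits AlgebraicGeometry TopologicalSpace
open LefX

namespace Groth.Agent.S3362

open PrimeSpectrum IsLocalRing Groth.Agent.FormalA.ConnDim Groth.Agent.FormalA.ConnCd
  Groth.Agent.Sga2lef.H84.PunctDim

/-- The dimension of the trace on the punctured spectrum of an irreducible closed subset. -/
theorem dim_trace {R : Type u} [CommRing R] [IsLocalRing R] (q : PrimeSpectrum R)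
    (hq : q ≠ closedPoint R) :
    ringKrullDim (R ⧸ q.asIdeal) =
      topologicalKrullDim ↥((pt ⁻¹' (zeroLocus (q.asIdeal : Set R))) : Set ↥(FEt.puncturedSpec R)) + 1 := by
  rw [← topologicalKrullDim_zeroLocus]
  exact topologicalKrullDim_eq_add_one (isClosed_zeroLocus _) _ rfl
    ⟨mkPt q hq, show q ∈ zeroLocus (q.asIdeal : Set R) from fun x hx => hx⟩

theorem le_of_add_one_le {a b : WithBot ℕ∞} {n : ℕ} (h : a + 1 ≤ b + 1) (hn : a = (n : WithBot ℕ∞)) :
    a ≤ b := by
  induction b using WithBot.recBotCoe with
  | bot =>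
    rw [hn] at h
    simp only [WithBot.bot_add, le_bot_iff] at h
    exact absurd h (by exact_mod_cast WithBot.coe_ne_bot)
  | coe b =>
    rw [hn] at h ⊢
    have h' : ((n : ℕ∞) + 1 : ℕ∞) ≤ b + 1 := by exact_mod_cast h
    have h'' : (n : ℕ∞) ≤ b := by
      simpa using h'
    exact_mod_cast h''

theorem le_sub_of_lt_sub {a : WithBot ℕ∞} {k m : ℕ} (hm : m ≤ k)
    (h : a < ((k - m : ℕ) : WithBot ℕ∞)) : a + 1 + (m : WithBot ℕ∞) ≤ (k : WithBot ℕ∞) := by
  induction a using WithBot.recBotCoe with
  | bot => simp
  | coe a =>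
    induction a using ENat.recTopCoe with
    | top =>
      exfalso
      have : ((⊤ : ℕ∞) : WithBot ℕ∞) < (((k - m : ℕ) : ℕ∞) : WithBot ℕ∞) := h
      rw [WithBot.coe_lt_coe] at this
      exact absurd this (not_lt.2 le_top)
    | coe a =>
      have h0 : ((a : ℕ∞) : WithBot ℕ∞) < (((k - m : ℕ) : ℕ∞) : WithBot ℕ∞) := h
      rw [WithBot.coe_lt_coe, Nat.cast_lt] at h0
      have : a + 1 + m ≤ k := by omega
      exact_mod_cast this

theorem lt_of_add_one_le {a : WithBot ℕ∞} {k : ℕ} (h : a + 1 ≤ (k : WithBot ℕ∞)) :
    a < (k : WithBot ℕ∞) := by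
  induction a using WithBot.recBotCoe with
  | bot => exact WithBot.bot_lt_coe _
  | coe a =>
    induction a using ENat.recTopCoe with
    | top =>
      exfalso
      have : ((⊤ + 1 : ℕ∞) : WithBot ℕ∞) ≤ ((k : ℕ∞) : WithBot ℕ∞) := h
      rw [WithBot.coe_le_coe] at this
      simp at this
    | coe a =>
      have h' : a + 1 ≤ k := by exact_mod_cast h
      exact_mod_cast h'

/-- Let A be a complete Noetherian local ring, X' the punctured spectrum of A and k ≥ 1. Assume (a_k)
every irreducible component of X' has dimension ≥ k + 1, and (b_k) X' is connected in dimension ≥ k,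
i.e. X' minus any closed subset of dimension < k is connected. Let 0 ≤ m ≤ k and let f_1, …, f_m be
elements of the maximal ideal, B = A/(f_1, …, f_m), Y' the punctured spectrum of B. Then Y'
satisfies (a_{k−m}) and (b_{k−m}); in particular Y' is connected. -/
theorem result (A : Type u) [CommRing A] [IsNoetherianRing A] [IsLocalRing A] [IsAdicComplete (IsLocalRing.maximalIdeal A) A] (k : ℕ) (hk : 1 ≤ k) (ha : ∀ Z ∈ irreducibleComponents ↥(FEt.puncturedSpec A), ((k + 1 : ℕ) : WithBot ℕ∞) ≤ topologicalKrullDim ↥Z) (hb : LefX.ConnectedInDim ↥(FEt.puncturedSpec A) k) (m : ℕ) (hm : m ≤ k) (f : Fin m → A) (hf : ∀ i, f i ∈ IsLocalRing.maximalIdeal A) [IsLocalRing (A ⧸ Ideal.span (Set.range f))] : (∀ Z ∈ irreducibleComponents ↥(FEt.puncturedSpec (A ⧸ Ideal.span (Set.range f))), ((k - m + 1 : ℕ) : WithBot ℕ∞) ≤ topologicalKrullDim ↥Z) ∧ LefX.ConnectedInDim ↥(FEt.puncturedSpec (A ⧸ Ideal.span (Set.range f))) (k - m) := by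
  classical
  -- the cohomological dimension of `I`
  set I : Ideal A := Ideal.span (Set.range f) with hIdef
  have hI : I ≠ ⊤ := by
    intro h
    have h1 : I ≤ maximalIdeal A := Ideal.span_le.2 (by rintro _ ⟨i, rfl⟩; exact hf i)
    rw [h, top_le_iff] at h1
    exact (inferInstance : (maximalIdeal A).IsPrime).ne_top h1
  have hcd : LocCoh.CdLE A I m := by
    have h1 := Groth.Agent.S0326.result A (Finset.univ.image f)
    have h2 : ((Finset.univ.image f : Finset A) : Set A) = Set.range f := by
      simp
    rw [h2] at h1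
    intro M _ _ i hi
    exact h1 M i (lt_of_le_of_lt (Finset.card_image_le.trans (by simp)) hi)
  -- the punctured spectrum of `A` is nonempty
  have hX : (Set.univ : Set ↥(FEt.puncturedSpec A)).Nonempty := by
    have h1 := hb ∅ isClosed_empty (by
      have : topologicalKrullDim (∅ : Set ↥(FEt.puncturedSpec A)) = ⊥ := by
        rw [topologicalKrullDim, Order.krullDim_eq_bot_iff]
        exact ⟨fun Z => by
          obtain ⟨z, _⟩ := Z.2.nonempty
          exact z.2⟩
      rw [this]
      exact WithBot.bot_lt_coe _)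
    rw [Set.compl_empty] at h1
    exact h1.nonempty
  -- dimension of the quotients by minimal primes
  have hmin : ∀ p ∈ minimalPrimes A, ((k + 2 : ℕ) : WithBot ℕ∞) ≤ ringKrullDim (A ⧸ p) := by
    intro p hp
    have hpp : p.IsPrime := hp.1.1
    have hne : (⟨p, hpp⟩ : PrimeSpectrum A) ≠ closedPoint A := by
      intro h
      obtain ⟨x, _⟩ := hX
      have h1 : (⟨p, hpp⟩ : PrimeSpectrum A) ∈ ({closedPoint A} : Set (PrimeSpectrum A)) := h
      have h2 : p = maximalIdeal A := congrArg PrimeSpectrum.asIdeal h
      have h3 : pt x = closedPoint A := by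
        refine le_antisymm (le_closedPoint _) ?_
        have h4 : p ≤ (pt x).asIdeal := hp.2 ⟨(pt x).2, bot_le⟩ (by
          rw [h2]; exact IsLocalRing.le_maximalIdeal (pt x).2.ne_top)
        change maximalIdeal A ≤ (pt x).asIdeal
        rw [← h2]
        exact h4
      exact pt_ne x h3
    have h1 := ha (pt ⁻¹' (zeroLocus (p : Set A)))
      ((mem_irreducibleComponents_puncturedSpec_iff _).2 ⟨⟨p, hpp⟩, hp, hne, rfl⟩)
    have h2 := dim_trace ⟨p, hpp⟩ hne
    change ringKrullDim (A ⧸ p) = _ at h2
    rw [h2]
    have h3 : ((k + 2 : ℕ) : WithBot ℕ∞) = ((k + 1 : ℕ) : WithBot ℕ∞) + 1 := by norm_cast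
    rw [h3]
    gcongr
  refine ⟨?_, ?_⟩
  · -- the irreducible components of `Y'`
    intro Z hZ
    obtain ⟨q, hq, hqm, rfl⟩ := (mem_irreducibleComponents_puncturedSpec_iff Z).1 hZ
    have h1 := dim_trace q hqm
    set Q : Ideal A := q.asIdeal.comap (Ideal.Quotient.mk I) with hQ
    have hQp : Q.IsPrime := Ideal.comap_isPrime _ _
    have hQm : Q ∈ I.minimalPrimes := by
      rw [Ideal.minimalPrimes_eq_comap]
      exact ⟨q.asIdeal, hq, rfl⟩
    have h2 : ringKrullDim ((A ⧸ I) ⧸ q.asIdeal) = ringKrullDim (A ⧸ Q) := by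
      have e1 : Q.map (Ideal.Quotient.mk I) = q.asIdeal :=
        Ideal.map_comap_of_surjective _ Ideal.Quotient.mk_surjective _
      rw [← e1, Groth.Agent.S0815.dim_map_le, sup_eq_right.2 hQm.1.2]
    obtain ⟨p, hp, hpQ⟩ := Ideal.exists_minimalPrimes_le (I := (⊥ : Ideal A)) (J := Q) bot_le
    have hpp : p.IsPrime := hp.1.1
    have := isLocalRing_quotient hpp.ne_top
    have := isAdicComplete_quotient p
    have h3 : LocCoh.CdLE (A ⧸ p) (I.map (Ideal.Quotient.mk p)) m := cdLE_quotient hcd p
    have h4 := component_dim h3 (Q.map (Ideal.Quotient.mk p)) (by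
      rw [Ideal.minimalPrimes_map_of_surjective Ideal.Quotient.mk_surjective, Ideal.mk_ker]
      refine ⟨Q, ⟨⟨hQp, sup_le hQm.1.2 hpQ⟩, ?_⟩, rfl⟩
      intro Q' hQ' hle
      exact hQm.2 ⟨hQ'.1, le_sup_left.trans hQ'.2⟩ hle)
    rw [Groth.Agent.S0815.dim_map_le, sup_eq_right.2 hpQ, ← h2] at h4
    have h5 := (hmin p hp).trans h4
    rw [h1] at h5
    have : IsLocalRing (A ⧸ p) := isLocalRing_quotient hpp.ne_top
    generalize topologicalKrullDim ↥((pt ⁻¹' (zeroLocus (q.asIdeal : Set (A ⧸ I)))) :
      Set ↥(FEt.puncturedSpec (A ⧸ I))) = d at h5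
    induction d using WithBot.recBotCoe with
    | bot =>
      simp only [WithBot.bot_add, le_bot_iff] at h5
      exact absurd h5 (WithBot.coe_ne_bot)
    | coe d =>
      induction d using ENat.recTopCoe with
      | top => exact le_top
      | coe d =>
        have h6 : (((k + 2 : ℕ) : ℕ∞) : WithBot ℕ∞) ≤ (((d + 1 + m : ℕ) : ℕ∞) : WithBot ℕ∞) := by
          refine h5.trans (le_of_eq ?_)
          push_cast
          rfl
        rw [WithBot.coe_le_coe, Nat.cast_le] at h6
        have h7 : k - m + 1 ≤ d := by omega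
        have h8 : (((k - m + 1 : ℕ) : ℕ∞) : WithBot ℕ∞) ≤ ((d : ℕ∞) : WithBot ℕ∞) := by
          rw [WithBot.coe_le_coe, Nat.cast_le]
          exact h7
        exact h8
  · -- connectedness
    intro Z hZc hZd
    -- the closure of `Z` in `Spec B` together with the closed point
    obtain ⟨C₀, hC₀, hC₀Z⟩ := (isOpenEmbedding_pt (R := A ⧸ I)).isInducing.isClosed_iff.1 hZc
    set C : Set (PrimeSpectrum (A ⧸ I)) := C₀ ∪ {closedPoint (A ⧸ I)} with hC
    have hCc : IsClosed C := hC₀.union (isClosed_singleton_closedPoint (A ⧸ I))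
    have hCZ : Z = pt ⁻¹' C := by
      rw [← hC₀Z]
      ext x
      simp only [hC, Set.mem_preimage, Set.mem_union, Set.mem_singleton_iff]
      exact ⟨Or.inl, fun h => h.resolve_right (pt_ne x)⟩
    have hdC : topologicalKrullDim C + (m : WithBot ℕ∞) ≤ (k : WithBot ℕ∞) := by
      rcases Z.eq_empty_or_nonempty with hZe | hZne
      · have h1 : C = {closedPoint (A ⧸ I)} := by
          refine Set.Subset.antisymm ?_ Set.subset_union_right
          intro x hx
          by_contra hxm
          have h2 : mkPt x hxm ∈ Z := by rw [hCZ]; exact hx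
          rw [hZe] at h2
          exact h2
        rw [h1, topologicalKrullDim_singleton_closedPoint, zero_add]
        exact_mod_cast hm
      · rw [topologicalKrullDim_eq_add_one hCc Z hCZ hZne]
        exact le_sub_of_lt_sub hm hZd
    -- the corresponding closed subset of `Spec A`
    have hcl := isClosedEmbedding_comap_of_surjective _ (Ideal.Quotient.mk I)
      Ideal.Quotient.mk_surjective
    set D : Set (PrimeSpectrum A) := PrimeSpectrum.comap (Ideal.Quotient.mk I) '' C with hD
    have hDc : IsClosed D := hcl.isClosedMap _ hCc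
    have hrange : Set.range (PrimeSpectrum.comap (Ideal.Quotient.mk I)) =
        zeroLocus (R := A) (I : Set A) := by
      rw [range_comap_of_surjective _ _ Ideal.Quotient.mk_surjective, Ideal.mk_ker]
    have hDI : D ⊆ zeroLocus (I : Set A) := by
      rw [← hrange]
      exact Set.image_subset_range _ _
    have hdD : topologicalKrullDim D = topologicalKrullDim C := by
      symm
      exact IsHomeomorph.topologicalKrullDim_eq _
        (hcl.isEmbedding.homeomorphImage C).isHomeomorph
    have hmain := Groth.Agent.S0815.result A I hI m hcd D hDc hDI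
      (by
        intro p hp
        refine lt_of_lt_of_le ?_ (hmin p hp)
        have h1 : topologicalKrullDim D + ((m + 1 : ℕ) : WithBot ℕ∞) ≤ ((k + 1 : ℕ) : WithBot ℕ∞) := by
          rw [hdD]
          push_cast
          rw [← add_assoc]
          gcongr
        exact lt_of_le_of_lt h1 (by exact_mod_cast Nat.lt_succ_self _))
      (by
        intro Z' hZ' hnc
        rw [hdD]
        refine lt_of_le_of_lt hdC ?_
        by_contra hle
        rw [not_lt] at hle
        apply hnc
        rcases Z'.eq_empty_or_nonempty with he | hne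
        · rw [he, Set.compl_empty]
          have h1 : PreconnectedSpace (PrimeSpectrum A) := by
            rw [preconnectedSpace_iff_clopen]
            intro s hs
            by_cases h : IsLocalRing.closedPoint A ∈ s
            · right
              rw [Set.eq_univ_iff_forall]
              intro x
              exact (IsLocalRing.specializes_closedPoint x).mem_open hs.2 h
            · left
              rw [Set.eq_empty_iff_forall_notMem]
              intro x hx
              exact (IsLocalRing.specializes_closedPoint x).mem_open hs.1.isOpen_compl h hx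
          exact ⟨⟨closedPoint A, trivial⟩, isPreconnected_univ⟩
        · have hcp := closedPoint_mem_of_isClosed hZ' hne
          have h1 : topologicalKrullDim ↥((pt ⁻¹' Z') : Set ↥(FEt.puncturedSpec A)) <
              (k : WithBot ℕ∞) := by
            rcases (pt ⁻¹' Z' : Set ↥(FEt.puncturedSpec A)).eq_empty_or_nonempty with h2 | h2
            · rw [h2, topologicalKrullDim, (Order.krullDim_eq_bot_iff).2 ⟨fun Z => by
                obtain ⟨z, _⟩ := Z.2.nonempty
                exact z.2⟩]
              exact WithBot.bot_lt_coe _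
            · refine lt_of_add_one_le ?_
              rw [← topologicalKrullDim_eq_add_one hZ' _ rfl h2]
              exact hle
          have h2 := hb _ (hZ'.preimage isOpenEmbedding_pt.continuous) h1
          have h3 := h2.image pt isOpenEmbedding_pt.continuous.continuousOn
          have h4 : pt '' (pt ⁻¹' Z' : Set ↥(FEt.puncturedSpec A))ᶜ = Z'ᶜ := by
            rw [← Set.preimage_compl, Set.image_preimage_eq_inter_range, range_pt]
            refine Set.inter_eq_left.2 ?_
            intro x hx hxm
            have hxm' : x = closedPoint A := hxm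
            exact hx (hxm' ▸ hcp)
          rw [h4] at h3
          exact h3)
    -- transfer back
    have hemb : Topology.IsEmbedding
        (fun x : ↥(FEt.puncturedSpec (A ⧸ I)) => PrimeSpectrum.comap (Ideal.Quotient.mk I) (pt x)) :=
      hcl.isEmbedding.comp isOpenEmbedding_pt.isEmbedding
    have himg : (fun x : ↥(FEt.puncturedSpec (A ⧸ I)) =>
        PrimeSpectrum.comap (Ideal.Quotient.mk I) (pt x)) '' Zᶜ =
          zeroLocus (I : Set A) \ D := by
      ext x
      constructor
      · rintro ⟨y, hy, rfl⟩
        refine ⟨?_, ?_⟩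
        · rw [← hrange]
          exact ⟨_, rfl⟩
        · rintro ⟨z, hz, hzy⟩
          have : z = pt y := hcl.injective hzy
          apply hy
          rw [hCZ]
          change pt y ∈ C
          rw [← this]
          exact hz
      · rintro ⟨hx1, hx2⟩
        rw [← hrange] at hx1
        obtain ⟨y, rfl⟩ := hx1
        have hyC : y ∉ C := fun h => hx2 ⟨y, h, rfl⟩
        have hym : y ≠ closedPoint (A ⧸ I) := fun h => hyC (Or.inr h)
        refine ⟨mkPt y hym, ?_, rfl⟩
        intro h
        rw [hCZ] at h
        exact hyC h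
    rw [← himg] at hmain
    exact ⟨Set.image_nonempty.1 hmain.nonempty,
      hemb.isInducing.isPreconnected_image.1 hmain.isPreconnected⟩

end Groth.Agent.S3362
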