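import Groth.Statements.S3371
import Groth.Agent.Sga2lef.H93.FTAlg
import Groth.Agent.Sga2lef.H101.FTBC
import Groth.Agent.Sga2lef.H101.CompDepth

set_option autoImplicit false
universe u
open CategoryTheory CategoryTheory.Limits AlgebraicGeometry Opposite TopologicalSpace
open EtDepth

namespace Groth.Agent.S3371

/-- Let A be an excellent Noetherian local ring containing the rationals, and let the completion Â of A
be presented as the quotient of a regular local ring B of dimension e by an ideal generated by q
elements (such a presentation exists by Cohen's structure theory; the geometric depth of A is e − q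
for a minimal system of generators). Then the étale depth of A at its closed point is ≥ e − q: for
every prime number p, on every strict henselization of A the constant sheaf Z/p has depth ≥ e − q
along the closed point. -/
theorem result (A : Type u) [CommRing A] [IsLocalRing A] [IsNoetherianRing A] [Algebra ℚ A] (hA : EGA4.IsExcellent A) (B : Type u) [CommRing B] [IsRegularLocalRing B] (s : Finset B) (hs : Nonempty (AdicCompletion (IsLocalRing.maximalIdeal A) A ≃+* B ⧸ Ideal.span (s : Set B))) (e : ℕ) (he : ringKrullDim B = (e : WithBot ℕ∞)) (p : ℕ) (hp : p.Prime) : EtDepth.DepthAtGE (Spec (CommRingCat.of A)) (EtCoh.const (Spec (CommRingCat.of A)) (ZMod p)) (IsLocalRing.closedPoint A) (e - s.card) := by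
  have hp0 : p ≠ 0 := hp.ne_zero
  have : NeZero p := ⟨hp0⟩
  exact Groth.Agent.Sga2lef.H101.CompDepth.main
    (Groth.Agent.Sga2lef.H101.FTBC.FT_of_algebraicClosure (ULift.{u} ℚ)
      (Groth.Agent.Sga2lef.H93.FTAlg.ft (AlgebraicClosure (ULift.{u} ℚ)) p)) hp0 A hA B s hs e he

end Groth.Agent.S3371
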