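import Groth.Statements.S3373
import Groth.Agent.Sga2lef.H94.PuncCoh
import Groth.Agent.Sga2lef.H95.Assemble
import Groth.Agent.Sga2lef.H95.DepthPush
import Groth.Agent.Sga2lef.H95.PushExact

set_option autoImplicit false
universe u
open CategoryTheory CategoryTheory.Limits AlgebraicGeometry
open FSch

namespace Groth.Agent.S3373

/-- Let A be a Noetherian local ring which is a quotient of a regular ring, t an element of the maximal
ideal such that A is separated and complete for the t-adic topology, X the punctured spectrum of A,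
and 𝔉 a coherent module on the formal completion of X along V(t) ∩ X, given as a system (F_N) of
coherent modules on the closed subschemes X_N = V(t^(N+1)) ∩ X with F_{N+1}|_{X_N} ≅ F_N. Assume (1)
t is 𝔉-regular, expressed on the system by: for every N ≥ 1 the kernel of multiplication by t^N on
F_N equals the image of multiplication by t; and (2) for every closed point y of X_0 the stalk of
F_0 at y has depth ≥ 2 over O_{X_0,y}. Then there is a coherent O_X-module F whose completion along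
V(t) ∩ X is isomorphic to 𝔉. -/
theorem result (R : Type u) [CommRing R] [IsRegularRing R] (A : Type u) [CommRing A] [IsLocalRing A] [IsNoetherianRing A] (π : R →+* A) (hπ : Function.Surjective π) (t : A) (ht : t ∈ IsLocalRing.maximalIdeal A) [IsAdicComplete (Ideal.span {t}) A] (𝔐 : FSch.ModSys (FSch.completionAlong (↑(FEt.puncturedSpec A) : Scheme.{u}) ((Spec.map (CommRingCat.ofHom (Ideal.Quotient.mk (Ideal.span {t})))).ker.comap (FEt.puncturedSpec A).ι))) (hcoh : 𝔐.IsCoh) (hreg : ∀ N : ℕ, 1 ≤ N → kernelSubobject (Formal.smulModΓ (𝔐.F N) ((((FSch.completionToX (↑(FEt.puncturedSpec A) : Scheme.{u}) ((Spec.map (CommRingCat.ofHom (Ideal.Quotient.mk (Ideal.span {t})))).ker.comap (FEt.puncturedSpec A).ι) N) ≫ (FEt.puncturedSpec A).ι).appTop.hom ((Scheme.ΓSpecIso (CommRingCat.of A)).inv t)) ^ N)) = imageSubobject (Formal.smulModΓ (𝔐.F N) (((FSch.completionToX (↑(FEt.puncturedSpec A) : Scheme.{u}) ((Spec.map (CommRingCat.ofHom (Ideal.Quotient.mk (Ideal.span {t})))).ker.comap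 (FEt.puncturedSpec A).ι) N) ≫ (FEt.puncturedSpec A).ι).appTop.hom ((Scheme.ΓSpecIso (CommRingCat.of A)).inv t)))) (hdepth : ∀ y : ↥((FSch.completionAlong (↑(FEt.puncturedSpec A) : Scheme.{u}) ((Spec.map (CommRingCat.ofHom (Ideal.Quotient.mk (Ideal.span {t})))).ker.comap (FEt.puncturedSpec A).ι)).X 0), IsClosed ({y} : Set ↥((FSch.completionAlong (↑(FEt.puncturedSpec A) : Scheme.{u}) ((Spec.map (CommRingCat.ofHom (Ideal.Quotient.mk (Ideal.span {t})))).ker.comap (FEt.puncturedSpec A).ι)).X 0)) → (2 : ℕ∞) ≤ LocCoh.depth (((FSch.completionAlong (↑(FEt.puncturedSpec A) : Scheme.{u}) ((Spec.map (CommRingCat.ofHom (Ideal.Quotient.mk (Ideal.span {t})))).ker.comap (FEt.puncturedSpec A).ι)).X 0).presheaf.stalk y) ((𝔐.F 0).presheaf.stalk y)) : ∃ F : (↑(FEt.puncturedSpec A) : Scheme.{u}).Modules, Coh.IsCoh F ∧ Nonempty (FSch.completionMod ((Spec.map (CommRingCat.ofHom (Ideal.Quotient.mk (Ideal.span {t})))).ker.comap (FEt.puncturedSpec A).ι) F ≅ 𝔐) := by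
  have hU := Groth.Agent.Sga2lef.H94.PuncCoh.puncturedSpec_eq A
  have hcoh0 := Groth.Agent.Sga2lef.H95.Assemble.isCoh_pm 𝔐 0 (hcoh 0)
  have hfin : ∀ i ≤ 1, Module.Finite A (Coh.HH (↑(FEt.puncturedSpec A) : Scheme.{u})
      (Groth.Agent.Sga2lef.H96.ModSysPush.pm 𝔐 0) i) := fun i hi =>
    Groth.Agent.Sga2lef.H94.PuncCoh.finite_HH R A π hπ _ hcoh0 1
      (fun x hx => Groth.Agent.Sga2lef.H95.DepthPush.le_depth_push
        ((((Spec.map (CommRingCat.ofHom (Ideal.Quotient.mk (Ideal.span {t})))).ker.comap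
          (FEt.puncturedSpec A).ι)) ^ (0 + 1)).subschemeι (𝔐.F 0) _ hdepth x hx) i hi
  refine Groth.Agent.Sga2lef.H95.Assemble.main A t (FEt.puncturedSpec A) hU 𝔐 hcoh (fun n => ?_)
    (hfin 0 (Nat.zero_le 1)) (hfin 1 le_rfl)
  have w := Groth.Agent.Sga2lef.H95.Assemble.comp_eq_zero (FEt.puncturedSpec A).ι t 𝔐 (n + 1)
  exact ⟨w, Groth.Agent.Sga2lef.H95.PushExact.exact_push
    ((((Spec.map (CommRingCat.ofHom (Ideal.Quotient.mk (Ideal.span {t})))).ker.comap
          (FEt.puncturedSpec A).ι)) ^ (n + 1 + 1)).subschemeι (𝔐.F (n + 1)) t (n + 1)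
    (hreg (n + 1) (by omega)) w⟩

end Groth.Agent.S3373
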