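import Groth.Statements.S3374
import Groth.Agent.Sga2lef.H96.LevelFree
import Groth.Agent.Sga2lef.H96.GrFin
import Groth.Agent.Sga2lef.H100.GrPunct
import Groth.Agent.PerfA.CohSerre
import Groth.Agent.Sga2lef.H100.GrAlgebraize

set_option autoImplicit false
universe u
open CategoryTheory CategoryTheory.Limits AlgebraicGeometry
open LefX

namespace Groth.Agent.S3374

open Groth.Agent.Sga2lef.H96.ModSysFormal Groth.Agent.Sga2lef.H96.ModSysPush in
theorem algebraize (A : Type u) [CommRing A] [IsLocalRing A] [IsNoetherianRing A] (J : Ideal A)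
    [IsLocalRing (A ⧸ J)] (hd : (3 : ℕ∞) ≤ LocCoh.depth (A ⧸ J) (A ⧸ J))
    (hgr : ∀ n : ℕ, Module.Free (A ⧸ J) (↥(J ^ n) ⧸ (J • (⊤ : Submodule A ↥(J ^ n)))))
    [IsAdicComplete J A] (U : (Spec (CommRingCat.of A)).Opens)
    (hU : U = LocCoh.puncturedOpen A (IsLocalRing.maximalIdeal A))
    (𝔐 : FSch.ModSys (FSch.completionAlong (↑U : Scheme.{u})
      ((Spec.map (CommRingCat.ofHom (Ideal.Quotient.mk J))).ker.comap U.ι)))
    (hlf : LefX.LevelwiseFinLocFree 𝔐) :
    ∃ F : (↑U : Scheme.{u}).Modules, Coh.IsCoh F ∧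
      Nonempty (FSch.completionMod ((Spec.map (CommRingCat.ofHom (Ideal.Quotient.mk J))).ker.comap
        U.ι) F ≅ 𝔐) := by
  subst hU
  have hgen := isGenBy_comap (X := (↑(LocCoh.puncturedOpen A (IsLocalRing.maximalIdeal A)) :
    Scheme.{u})) J
  have hcoh : 𝔐.IsCoh := fun n => Groth.Agent.PerfA.CohSerre.isCoh_of_isFinLocFree (hlf n)
  have h1 := Groth.Agent.Sga2lef.H96.GrFin.subsingleton_H hd 1 (by norm_num)
  have h2 := Groth.Agent.Sga2lef.H96.GrFin.subsingleton_H hd 2 (by norm_num)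
  obtain ⟨F, hF, he⟩ := Groth.Agent.Sga2lef.H100.GrAlgebraize.algebraize J
    (IsLocalRing.maximalIdeal A) hgr inferInstance inferInstance (toSys 𝔐)
    (isCohFormal_toSys hgen 𝔐 hcoh)
    (Groth.Agent.Sga2lef.H96.LevelFree.isFinLocFreeMod_toSys hgen 𝔐 hlf)
  exact ⟨F, hF, nonempty_iso hgen 𝔐 F hF.1 he⟩

/-- Let A be a Noetherian local ring, J a proper ideal such that (i) A/J has depth ≥ 3, (ii) every
J^n/J^(n+1) is a free A/J-module (gr_J(A) is free over A/J), (iii) A is separated and complete for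
the J-adic topology. Let U be the punctured spectrum of A, U_0 = U ∩ V(J) and Û the completion of U
along U_0. Then (a) for every finite locally free O_U-module D the map Hom(D, O_U) → lim_n Hom(D,
O_U/J^(n+1)O_U) is bijective (the completion functor is fully faithful on finite locally free
modules), and (b) every levelwise finite locally free system of coherent modules on Û is isomorphic
to the completion of a coherent (not necessarily locally free) O_U-module. -/
theorem result (A : Type u) [CommRing A] [IsLocalRing A] [IsNoetherianRing A] (J : Ideal A) (hJ : J ≠ ⊤) [IsLocalRing (A ⧸ J)] (hd : (3 : ℕ∞) ≤ LocCoh.depth (A ⧸ J) (A ⧸ J)) (hgr : ∀ n : ℕ, Module.Free (A ⧸ J) (↥(J ^ n) ⧸ (J • (⊤ : Submodule A ↥(J ^ n))))) [IsAdicComplete J A] : (∀ D : (↑(FEt.puncturedSpec A) : Scheme.{u}).Modules, FlatMod.IsFinLocFree D → Lef.HomToFormalBijective ((Spec.map (CommRingCat.ofHom (Ideal.Quotient.mk J))).ker.comap (FEt.puncturedSpec A).ι) D) ∧ (∀ 𝔐 : FSch.ModSys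 (FSch.completionAlong (↑(FEt.puncturedSpec A) : Scheme.{u}) ((Spec.map (CommRingCat.ofHom (Ideal.Quotient.mk J))).ker.comap (FEt.puncturedSpec A).ι)), LefX.LevelwiseFinLocFree 𝔐 → ∃ F : (↑(FEt.puncturedSpec A) : Scheme.{u}).Modules, Coh.IsCoh F ∧ Nonempty (FSch.completionMod ((Spec.map (CommRingCat.ofHom (Ideal.Quotient.mk J))).ker.comap (FEt.puncturedSpec A).ι) F ≅ 𝔐)) := by
  refine ⟨fun D hD => Groth.Agent.Sga2lef.H100.GrPunct.homToFormalBijective A hJ hd hgr D
    (Groth.Agent.Ega2.QCohLocal.isQCoh_of_isFinLocFree hD), fun 𝔐 hlf => ?_⟩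
  refine algebraize A J hd hgr (FEt.puncturedSpec A) ?_ 𝔐 hlf
  apply TopologicalSpace.Opens.ext
  change ({IsLocalRing.closedPoint A}ᶜ : Set (PrimeSpectrum A)) =
    (PrimeSpectrum.zeroLocus (R := A) (IsLocalRing.maximalIdeal A : Set A))ᶜ
  rw [Groth.Agent.FormalB.H01.zeroLocus_maximalIdeal]

end Groth.Agent.S3374
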