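import Groth.Statements.S3378
import Groth.Agent.Sga2lef.H100.GrPunct
import Groth.Agent.Fdesc.LefEt
import Groth.Agent.Ega2.QCohLocal
import Groth.Agent.S0335
import Groth.Agent.FormalB.PullCoh

set_option autoImplicit false
universe u
open CategoryTheory CategoryTheory.Limits AlgebraicGeometry
open LefX

namespace Groth.Agent.S3378

open Groth.Agent.Sga2lef.H100.GrPunct Groth.Agent.Sga2.PuncRed Groth.Agent.Sga2.PuncSections

/-- the punctured spectrum of a Noetherian local ring of depth at least two is connected. -/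
theorem connectedSpace_punctured (B : Type u) [CommRing B] [IsLocalRing B] [IsNoetherianRing B]
    (h : (2 : ℕ∞) ≤ LocCoh.depth B B) : ConnectedSpace ↥(FEt.puncturedSpec B) := by
  have h1 := Groth.Agent.S0335.result B h
  have h2 : {x : PrimeSpectrum B | x.asIdeal ≠ IsLocalRing.maximalIdeal B} =
      ((FEt.puncturedSpec B : (Spec (.of B)).Opens) : Set (Spec (.of B))) := by
    ext x
    change x.asIdeal ≠ IsLocalRing.maximalIdeal B ↔ x ≠ IsLocalRing.closedPoint B
    exact not_congr ⟨fun h => PrimeSpectrum.ext h, fun h => congrArg PrimeSpectrum.asIdeal h⟩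
  rw [h2] at h1
  exact isConnected_iff_connectedSpace.mp h1


/-- Let A be a Noetherian local ring, J a proper ideal with (i) depth A/J ≥ 3, (ii) every J^n/J^(n+1)
free over A/J, (iii) A separated and complete for the J-adic topology. Let U be the punctured
spectrum of A and U_0 = U ∩ V(J), the closed subscheme of U defined by J. Then (a) U and U_0 are
connected and restriction of finite étale covers from U to U_0 is fully faithful (π₁(U_0) → π₁(U) is
surjective), and (b) the pull-back map Pic(U) → Pic(U_0) has trivial kernel. -/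
theorem result (A : Type u) [CommRing A] [IsLocalRing A] [IsNoetherianRing A] (J : Ideal A) (hJ : J ≠ ⊤) [IsLocalRing (A ⧸ J)] (hd : (3 : ℕ∞) ≤ LocCoh.depth (A ⧸ J) (A ⧸ J)) (hgr : ∀ n : ℕ, Module.Free (A ⧸ J) (↥(J ^ n) ⧸ (J • (⊤ : Submodule A ↥(J ^ n))))) [IsAdicComplete J A] : (ConnectedSpace ↥(FEt.puncturedSpec A) ∧ ConnectedSpace ↥(((Spec.map (CommRingCat.ofHom (Ideal.Quotient.mk J))).ker.comap (FEt.puncturedSpec A).ι).subscheme) ∧ (FEt.restrict ((Spec.map (CommRingCat.ofHom (Ideal.Quotient.mk J))).ker.comap (FEt.puncturedSpec A).ι).subschemeι).Full ∧ (FEt.restrict ((Spec.map (CommRingCat.ofHom (Ideal.Quotient.mk J))).ker.comap (FEt.puncturedSpec A).ι).subschemeι).Faithful) ∧ Formal2.PicPullbackInjective ((Spec.map (CommRingCat.ofHom (Ideal.Quotient.mk J))).ker.comap (FEt.puncturedSpec A).ι).subschemeι := by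
  have hA : (2 : ℕ∞) ≤ LocCoh.depth A A :=
    le_trans (by norm_num) (Groth.Agent.Sga2.GrLoc.depth_ge_three_of_quot hJ hd hgr)
  have hAJ : (2 : ℕ∞) ≤ LocCoh.depth (A ⧸ J) (A ⧸ J) := le_trans (by norm_num) hd
  obtain ⟨e, he⟩ := exists_subschemeIso A J _ (ker_inc A J)
  refine ⟨⟨connectedSpace_punctured A hA, ?_, ?_⟩, ?_⟩
  · have h1 : ConnectedSpace (P (A ⧸ J)) := connectedSpace_punctured (A ⧸ J) hAJ
    exact e.hom.homeomorph.surjective.connectedSpace e.hom.homeomorph.continuous
  · exact Groth.Agent.Fdesc.LefEt.restrict_fullyFaithful _ fun D hD =>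
      homToFormalBijective A hJ hd hgr D
        (Groth.Agent.Ega2.QCohLocal.isQCoh_of_isFinLocFree hD)
  · intro L hL h0
    obtain ⟨f⟩ := h0
    refine nonempty_iso_of_pullback A hJ hd hgr L hL ⟨?_⟩
    refine (Scheme.Modules.pullbackCongr he.symm).app L ≪≫
      ((Scheme.Modules.pullbackComp _ _).symm.app L) ≪≫
      (Scheme.Modules.pullback e.hom).mapIso f ≪≫ ?_
    exact Groth.Agent.FormalB.PullCoh.pullbackUnitIso e.hom

end Groth.Agent.S3378
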