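import Groth.Statements.S3388
import Groth.Agent.S0402
import Groth.Agent.VarietyB.FibreGeneric
import Groth.Agent.Ega43.FibreDimNat

set_option autoImplicit false
open CategoryTheory AlgebraicGeometry
universe u
open EGA43

namespace Groth.Agent.S3388

open VarietyB.FibreGeneric in
/-- The fibre dimension at the generic point is the dimension of the fibre. -/
theorem fibreDimAt_genericPoint_eq {X Y : Scheme.{u}} [IrreducibleSpace X]
    (f : X ⟶ Y) [LocallyOfFiniteType f] :
    FlatMor.fibreDimAt f (genericPoint X) = topologicalKrullDim ↥(f.fiber (f (genericPoint X))) := by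
  let y := f (genericPoint X)
  let F := f.fiber y
  let κ := Y.residueField y
  let _ : F.Over (Spec (CommRingCat.of κ)) := ⟨f.fiberToSpecResidueField y⟩
  have : LocallyOfFiniteType (F ↘ (Spec (CommRingCat.of κ))) :=
    inferInstanceAs (LocallyOfFiniteType (Limits.pullback.snd f (Y.fromSpecResidueField y)))
  have : IrreducibleSpace F := irreducibleSpace_fiber f
  exact localDim_eq_dim κ F _

theorem map_genericPoint {X Y : Scheme.{u}} [IrreducibleSpace X] [IrreducibleSpace Y]
    (f : X ⟶ Y) [IsDominant f] : f (genericPoint X) = genericPoint Y := by
  have h1 : IsGenericPoint (f (genericPoint X)) (⊤ : Set Y) := by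
    have h := (genericPoint_spec X).image f.continuous
    rw [Set.image_univ, f.denseRange.closure_range] at h
    exact h
  exact (h1.eq (genericPoint_spec Y))

/-- Let X and Y be irreducible schemes and f : X ⟶ Y a dominant morphism locally of finite type; let e
be the dimension of the fibre over the generic point of Y. Then for every point x of X the local
dimension at x of the fibre through x is at least e. -/
theorem result {X Y : Scheme.{u}} [IrreducibleSpace X] [IrreducibleSpace Y]
    (f : X ⟶ Y) [LocallyOfFiniteType f] [IsDominant f] (x : X) :
    topologicalKrullDim ↥(f.fiber (genericPoint Y)) ≤ FlatMor.fibreDimAt f x := by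
  rw [← map_genericPoint f, ← fibreDimAt_genericPoint_eq f]
  obtain ⟨n, hn⟩ := Ega43.FibreDimNat.exists_natCast_fibreDimAt f x
  rw [hn]
  have hopen := S0402.result f n
  exact (genericPoint_specializes x).mem_open hopen hn.le

end Groth.Agent.S3388
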