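import Groth.Statements.S3390
import Groth.Agent.Ega4fib.H111.FibFormula

set_option autoImplicit false
open CategoryTheory AlgebraicGeometry
universe u
open EGA43

namespace Groth.Agent.S3390

/-- Let Y be an irreducible locally Noetherian scheme with generic point η, X an irreducible scheme, f :
X ⟶ Y dominant and locally of finite type, x a point of X and y = f x. If dim O_{X,x} = dim O_{Y,y}
+ dim O_{X_y,x}, then the local dimension of the fibre X_y at x (FlatMor.fibreDimAt f x) equals the
dimension of the generic fibre X_η (i.e. f is equidimensional at x). -/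
theorem result {X Y : Scheme.{u}} [IrreducibleSpace X] [IrreducibleSpace Y]
    [IsLocallyNoetherian Y] (f : X ⟶ Y) [LocallyOfFiniteType f] [IsDominant f] (x : X)
    (h : ringKrullDim (X.presheaf.stalk x) =
        ringKrullDim (Y.presheaf.stalk (f.base x)) + ringKrullDim ((f.fiber (f.base x)).presheaf.stalk (f.asFiber x))) :
    FlatMor.fibreDimAt f x = topologicalKrullDim ↥(f.fiber (genericPoint Y)) := by
  obtain ⟨dX, dY, n, e, hX, hY, hn, he, hdim, hle⟩ :=
    Groth.Agent.Ega4fib.H111.FibFormula.exists_dims f x
  obtain ⟨n', hn', hfib⟩ := Groth.Agent.Ega4fib.H111.FibFormula.fibreDimAt_eq f x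
  have hnn : n' = n := by
    rw [hn] at hn'
    exact_mod_cast hn'.symm
  subst hnn
  apply le_antisymm
  · rw [hdim, hfib]
    change ringKrullDim (X.presheaf.stalk x) = ringKrullDim (Y.presheaf.stalk (f x)) +
      ringKrullDim ((f.fiber (f x)).presheaf.stalk (f.asFiber x)) at h
    rw [hX, hY] at h
    generalize ringKrullDim ((f.fiber (f x)).presheaf.stalk (f.asFiber x)) = d at h
    induction d using WithBot.recBotCoe with
    | bot => rw [WithBot.bot_add]; exact bot_le
    | coe d =>
      have h1 : (dX : ℕ∞) = dY + d := by exact_mod_cast h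
      have hd : d ≠ ⊤ := by
        rintro rfl
        rw [add_top] at h1
        exact ENat.natCast_ne_top dX h1
      obtain ⟨d', rfl⟩ := ENat.ne_top_iff_exists.1 hd
      have h2 : dX = dY + d' := by exact_mod_cast h1
      have h3 : d' + n' ≤ e := by omega
      exact_mod_cast h3
  · exact Groth.Agent.Ega4fib.H111.FibFormula.genericFibre_le f x

end Groth.Agent.S3390
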