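import Groth.Statements.S3397
import Groth.Agent.Ega4fib.H118.EquidimCrit
import Groth.Agent.Ega4fib.H118.FibreStalkDim
import Groth.Agent.CycB.DimIneq
import Groth.Agent.CycB.LocQuot
import Groth.Agent.S0402

set_option autoImplicit false
open CategoryTheory AlgebraicGeometry
universe u
open EGA43

namespace Groth.Agent.S3397

open Groth.Agent.CycB.RelDim Groth.Agent.CycB.LocQuot Groth.Agent Groth.Agent.Ega4fib.H118

/-- Let Y be locally Noetherian, f : X ⟶ Y locally of finite type, x a point of X with y = f x, and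
suppose O_{Y,y} is equidimensional. If O_{X,x} is equidimensional and dim O_{X,x} = dim O_{Y,y} +
dim O_{X_y,x}, then f is equidimensional at x. -/
theorem result {X Y : Scheme.{u}} [IsLocallyNoetherian Y] (f : X ⟶ Y)
    [LocallyOfFiniteType f] (x : X) (hY : EGA4.IsEquidim (Y.presheaf.stalk (f.base x)))
    (hX : EGA4.IsEquidim (X.presheaf.stalk x))
    (h : ringKrullDim (X.presheaf.stalk x) =
        ringKrullDim (Y.presheaf.stalk (f.base x)) + ringKrullDim ((f.fiber (f.base x)).presheaf.stalk (f.asFiber x))) :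
    EGA43.IsEquidimAt f x := by
  have hXn : IsLocallyNoetherian X := LocallyOfFiniteType.isLocallyNoetherian f
  have hFn : IsLocallyNoetherian (f.fiber (f x)) := by
    have : LocallyOfFiniteType (f.fiberToSpecResidueField (f x)) :=
      inferInstanceAs (LocallyOfFiniteType (Limits.pullback.snd f (Y.fromSpecResidueField (f x))))
    exact LocallyOfFiniteType.isLocallyNoetherian (f.fiberToSpecResidueField (f x))
  obtain ⟨a, ha⟩ := Cardinal.lt_aleph0.mp (rtd_lt_aleph0 f x)
  obtain ⟨b, hb⟩ := FibreStalkDim.exists_nat_ringKrullDim (Y.presheaf.stalk (f x))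
  obtain ⟨c, hc⟩ := FibreStalkDim.exists_nat_ringKrullDim
    ((f.fiber (f x)).presheaf.stalk (f.asFiber x))
  obtain ⟨d, hd⟩ := FibreStalkDim.exists_nat_ringKrullDim (X.presheaf.stalk x)
  have hdbc : d = b + c := by
    rw [hb, hc, hd] at h
    exact_mod_cast h
  have h2 : ∀ w : X, w ⤳ x → f w = f x → rtd f w ≤ ((c + a : ℕ) : Cardinal.{u}) :=
    fun w hw hf => FibreStalkDim.rtd_le_add f hw hf c a hc ha
  refine EquidimCrit.isEquidimAt_of_generic f x (c + a) ?_ h2
  intro ζ hζx hmax
  -- `O_{X,x}/𝔭_ζ` has dimension `d`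
  have hmin : RingHom.ker (Cyc.specMap x ζ hζx) ∈ minimalPrimes (X.presheaf.stalk x) := by
    refine ⟨⟨inferInstance, bot_le⟩, ?_⟩
    rintro q ⟨hq, -⟩ hle
    obtain ⟨z, hz, rfl⟩ := exists_eq_ker q
    rw [ker_le_iff] at hle
    exact (ker_le_iff _ _).mpr (by rw [hmax z hle])
  have hdζ : ringKrullDim (Cyc.LocQuot x ζ hζx) = d := (hX _ hmin).trans hd
  obtain ⟨dX, dY, e1, e2, e3⟩ := CycB.DimIneq.dim_ineq f hζx
  rw [hdζ] at e1
  have e1' : d = dX := by exact_mod_cast e1
  subst e1'
  have e4 : (d : Cardinal.{u}) + rtd f x ≤ (dY : Cardinal.{u}) + rtd f ζ := e3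
  have hdY : dY ≤ b := by
    have h3 : ringKrullDim (Cyc.LocQuot (f x) (f ζ) (hζx.map f.continuous)) ≤
        ringKrullDim (Y.presheaf.stalk (f x)) := ringKrullDim_quotient_le _
    rw [e2, hb] at h3
    exact_mod_cast h3
  obtain ⟨n, hn⟩ := Cardinal.lt_aleph0.mp (rtd_lt_aleph0 f ζ)
  rw [hn, ha] at e4
  have e5 : d + a ≤ dY + n := by exact_mod_cast e4
  -- `rtd f ζ ≤ c + a` by semicontinuity
  have hn' : n ≤ c + a := by
    have h4 : FlatMor.fibreDimAt f x ≤ (c + a : ℕ) := VarietyA.LocDim.fibreDimAt_le f x _ h2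
    have h5 : ζ ∈ {z : X | FlatMor.fibreDimAt f z ≤ (c + a : ℕ)} :=
      hζx.mem_open (S0402.result f (c + a)) h4
    obtain ⟨m, hm, hm'⟩ := VarietyA.LocDim.le_fibreDimAt f ζ ζ specializes_rfl rfl
    have h6 : m = n := by
      rw [hn] at hm
      exact_mod_cast hm.symm
    have h7 : (m : WithBot ℕ∞) ≤ (c + a : ℕ) := hm'.trans h5
    rw [← h6]
    exact_mod_cast h7
  have hdYb : dY = b := by omega
  refine ⟨?_, ?_⟩
  · -- `f ζ` is a maximal point of `Y`
    intro y hy
    have hyx : y ⤳ f x := hy.trans (hζx.map f.continuous)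
    by_contra hne
    have hlt : RingHom.ker (Cyc.specMap (f x) y hyx) <
        RingHom.ker (Cyc.specMap (f x) (f ζ) (hζx.map f.continuous)) := by
      refine lt_of_le_of_ne ((ker_le_iff _ _).mpr hy) fun he => hne ?_
      exact (ker_inj _ _).mp he
    have h8 : ringKrullDim (Cyc.LocQuot (f x) (f ζ) (hζx.map f.continuous)) + 1 ≤
        ringKrullDim (Cyc.LocQuot (f x) y hyx) := by
      obtain ⟨s, hs, hs'⟩ := Set.exists_of_ssubset hlt
      refine ringKrullDim_succ_le_of_surjective (Ideal.Quotient.factor hlt.le)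
        (Ideal.Quotient.factor_surjective hlt.le) (r := Ideal.Quotient.mk _ s) ?_ ?_
      · rw [mem_nonZeroDivisors_iff_ne_zero]
        exact fun h0 => hs' (Ideal.Quotient.eq_zero_iff_mem.mp h0)
      · rw [Ideal.Quotient.factor_mk]
        exact Ideal.Quotient.eq_zero_iff_mem.mpr hs
    have h9 : ringKrullDim (Cyc.LocQuot (f x) y hyx) ≤
        ringKrullDim (Y.presheaf.stalk (f x)) := ringKrullDim_quotient_le _
    have h10 := h8.trans h9
    rw [e2, hb, hdYb] at h10
    have h11 : b + 1 ≤ b := by exact_mod_cast h10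
    omega
  · rw [hn]
    have : c + a ≤ n := by omega
    exact_mod_cast this

end Groth.Agent.S3397
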