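import Groth.Statements.S3419
import Groth.Agent.Ega4Fib.H176.SecDim

set_option autoImplicit false
open CategoryTheory AlgebraicGeometry
universe u
open EGA43

namespace Groth.Agent.S3419

open Groth.Agent.Ega4Fib.H176.SecDvr Groth.Agent.Ega4Fib.H176.SecDim

/-- Let Y be locally Noetherian, f : X ⟶ Y locally of finite type and g a section of f; for y in Y let
X⁰_y be the connected component of the fibre f⁻¹(y) containing g(y). Suppose every X⁰_y is
irreducible. Then y ↦ dim X⁰_y is upper semicontinuous on Y; and if this function is constant on a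
neighbourhood of a point y, then X⁰_y is contained in the closure of X⁰_{y'} for every generization
y' of y. -/
theorem result {X Y : Scheme.{u}} [IsLocallyNoetherian Y] (f : X ⟶ Y)
    [LocallyOfFiniteType f] (g : Y ⟶ X) (hg : g ≫ f = 𝟙 Y)
    (hirr : ∀ y : Y, IsIrreducible (connectedComponentIn (f.base ⁻¹' {y}) (g.base y))) :
    UpperSemicontinuous (fun y : Y => topologicalKrullDim ↥(connectedComponentIn (f.base ⁻¹' {y}) (g.base y))) ∧
      ∀ y : Y, (∃ V ∈ nhds y, ∀ z ∈ V, topologicalKrullDim ↥(connectedComponentIn (f.base ⁻¹' {z}) (g.base z)) = topologicalKrullDim ↥(connectedComponentIn (f.base ⁻¹' {y}) (g.base y))) →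
        ∀ y' : Y, y' ⤳ y → connectedComponentIn (f.base ⁻¹' {y}) (g.base y) ⊆ closure (connectedComponentIn (f.base ⁻¹' {y'}) (g.base y')) := by
  have hfg : ∀ z, f (g z) = z := fun z => by
    rw [← Scheme.Hom.comp_apply, hg]; rfl
  have hmem : ∀ z, g z ∈ connectedComponentIn (f ⁻¹' {z}) (g z) := fun z =>
    mem_connectedComponentIn (hfg z)
  have hdim : ∀ z, topologicalKrullDim ↥(connectedComponentIn (f ⁻¹' {z}) (g z)) =
      FlatMor.fibreDimAt f (g z) := by
    intro z
    obtain ⟨⟨O, hO, hCO⟩, -⟩ := exists_open_closed f z (g z) (hfg z)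
    exact dim_eq_fibreDimAt f hO hCO (hirr z) (hmem z)
  constructor
  · intro y c hc
    change topologicalKrullDim ↥(connectedComponentIn (f ⁻¹' {y}) (g y)) < c at hc
    change ∀ᶠ z in nhds y, topologicalKrullDim ↥(connectedComponentIn (f ⁻¹' {z}) (g z)) < c
    rw [hdim] at hc
    obtain ⟨d, hd⟩ := Ega43.FibreDimFinite.exists_fibreDimAt_eq f (g y)
    have h1 : IsOpen {x : X | FlatMor.fibreDimAt f x ≤ d} := S0402.result f d
    have h2 : g ⁻¹' {x : X | FlatMor.fibreDimAt f x ≤ d} ∈ nhds y :=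
      (h1.preimage g.continuous).mem_nhds hd.le
    filter_upwards [h2] with z hz
    rw [hdim]
    rw [hd] at hc
    exact lt_of_le_of_lt hz hc
  · rintro y ⟨V, hV, hVd⟩ y' hy'
    have h1 : y' ∈ V := by
      obtain ⟨W, hWV, hW, hyW⟩ := mem_nhds_iff.mp hV
      exact hWV (hy'.mem_open hW hyW)
    obtain ⟨-, ⟨F₁, hF₁, hCF₁⟩⟩ := exists_open_closed f y' (g y') (hfg y')
    obtain ⟨⟨O₂, hO₂, hCO₂⟩, -⟩ := exists_open_closed f y (g y) (hfg y)
    obtain ⟨ζ, hζ, hζx⟩ := exists_generic_of_dim f (hirr y') (hirr y) hF₁ hCF₁ hO₂ hCO₂ (hVd y' h1)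
      ⟨g y, hmem y, closure_mono (Set.singleton_subset_iff.mpr (hmem y'))
        (specializes_iff_mem_closure.mp (hy'.map g.continuous))⟩
    intro x hx
    exact closure_mono (Set.singleton_subset_iff.mpr hζ) (specializes_iff_mem_closure.mp (hζx x hx))

end Groth.Agent.S3419
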