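import Groth.Statements.S3420
import Groth.Agent.Ega4fib.H141.SecOpen

set_option autoImplicit false
open CategoryTheory AlgebraicGeometry
universe u
open EGA43

namespace Groth.Agent.S3420

/-- Let Y be locally Noetherian, f : X ⟶ Y locally of finite type, g a section of f, X⁰_y the connected
component of f⁻¹(y) containing g(y) and X⁰ the union of the X⁰_y. If y is a point such that the
fibre over y is geometrically reduced at every point of X⁰_y and f is universally open at every
point of X⁰_y, then X⁰ is a neighbourhood of X⁰_y in X. In particular, if f is universally open and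
every fibre is geometrically reduced at the points of X⁰, then X⁰ is open in X. -/
theorem result {X Y : Scheme.{u}} [IsLocallyNoetherian Y] (f : X ⟶ Y)
    [LocallyOfFiniteType f] (g : Y ⟶ X) (hg : g ≫ f = 𝟙 Y) :
    (∀ y : Y, (∀ x ∈ connectedComponentIn (f.base ⁻¹' {y}) (g.base y), EGA43.IsUnivOpenAt f x ∧
        FBase.IsGeomReducedAt (f.fiberToSpecResidueField (f.base x)) (f.asFiber x)) →
      connectedComponentIn (f.base ⁻¹' {y}) (g.base y) ⊆ interior (MoreMor.sectionComponents f g)) ∧
    (UniversallyOpen f → (∀ x ∈ MoreMor.sectionComponents f g,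
        FBase.IsGeomReducedAt (f.fiberToSpecResidueField (f.base x)) (f.asFiber x)) →
      IsOpen (MoreMor.sectionComponents f g)) := by
  have hgf : ∀ x : X, x ∈ MoreMor.sectionComponents f g ↔
      x ∈ connectedComponentIn (f.base ⁻¹' {f.base x}) (g.base (f.base x)) := fun _ => Iff.rfl
  constructor
  · intro y hy x hx
    have hfx : f.base x = y := (connectedComponentIn_subset (f.base ⁻¹' {y}) _) hx
    have key : ∀ z : X, f.base z = f.base x → z ∈ MoreMor.sectionComponents f g →
        z ∈ connectedComponentIn (f.base ⁻¹' {y}) (g.base y) := by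
      intro z hz hz'
      rw [hgf, hz, hfx] at hz'
      exact hz'
    refine Groth.Agent.Ega4fib.H141.SecOpen.mem_interior f g hg x ?_ ?_ ?_
    · intro z hz hz'
      exact (hy z (key z hz hz')).1
    · intro z hz hz'
      exact (Groth.Agent.Ega43.GeomAt.geomAt_fiber_iff
        Groth.Agent.Ega4fib.H141.SecDvr.isoClosed_pRed f z).mp (hy z (key z hz hz')).2
    · rw [hgf, hfx]
      exact hx
  · intro hf hred
    rw [← subset_interior_iff_isOpen]
    intro x hx
    refine Groth.Agent.Ega4fib.H141.SecOpen.mem_interior f g hg x ?_ ?_ hx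
    · intro z _ _
      exact Groth.Agent.Ega43.UnivOpenFlatGeom.isUnivOpenAt_of_universallyOpen f z
    · intro z _ hz'
      exact (Groth.Agent.Ega43.GeomAt.geomAt_fiber_iff
        Groth.Agent.Ega4fib.H141.SecDvr.isoClosed_pRed f z).mp (hred z hz')

end Groth.Agent.S3420
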