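import Groth.Statements.S3432
import Groth.Agent.Ega4fib.H152.LocClosedPoint

set_option autoImplicit false
open CategoryTheory AlgebraicGeometry
universe u
open EGA43

namespace Groth.Agent.S3432

/-- Let X be a locally Noetherian scheme and Y a closed subset of X such that every nonempty closed
subset of X meets Y. Then the open subscheme X ∖ Y (equivalently, the subspace X ∖ Y) is a Jacobson
space. -/
theorem result (X : Scheme.{u}) [IsLocallyNoetherian X] (Y : Set X)
    (hY : IsClosed Y) (hmeet : ∀ Z : Set X, IsClosed Z → Z.Nonempty → (Z ∩ Y).Nonempty) :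
    JacobsonSpace ↥(Yᶜ) := by
  rw [jacobsonSpace_iff_locallyClosed]
  intro Z hZne hZ
  have he : Topology.IsOpenEmbedding (Subtype.val : ↥(Yᶜ) → X) := hY.isOpen_compl.isOpenEmbedding_subtypeVal
  have hZ' : IsLocallyClosed (Subtype.val '' Z) :=
    hZ.image he.isInducing he.isOpen_range.isLocallyClosed
  obtain ⟨_, ⟨x, hxZ, rfl⟩, hx⟩ :=
    Groth.Agent.Ega4fib.H152.LocClosedPoint.exists_isLocallyClosed_singleton hZ' (hZne.image _)
  refine ⟨x, hxZ, ?_⟩
  rw [mem_closedPoints_iff, ← closure_subset_iff_isClosed]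
  intro y hy
  have hxy : x ⤳ y := specializes_iff_mem_closure.2 hy
  by_contra hne
  have hxy' : (x : X) ⤳ (y : X) := he.isInducing.specializes_iff.2 hxy
  have hcl := Groth.Agent.Ega4fib.H152.LocClosedPoint.isClosed_singleton_of_specializes
    (x : X) (y : X) hx hxy' (fun h => hne (Subtype.ext h))
  obtain ⟨z, hz, hzY⟩ := hmeet {(y : X)} hcl (Set.singleton_nonempty _)
  rw [Set.mem_singleton_iff] at hz
  subst hz
  exact y.2 hzY

end Groth.Agent.S3432
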