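import Groth.Statements.S3437
import Groth.Agent.Ega4fib.H171.CodConstr

set_option autoImplicit false
open CategoryTheory AlgebraicGeometry
universe u
open EGA43

namespace Groth.Agent.S3437

theorem isLocallyConstructible_compl {X : Type*} [TopologicalSpace X] {s : Set X}
    (hs : Topology.IsLocallyConstructible s) : Topology.IsLocallyConstructible sᶜ := by
  intro x
  obtain ⟨U, hxU, hU, hUs⟩ := hs x
  exact ⟨U, hxU, hU, hUs.compl⟩

theorem cm_iff {X S : Scheme.{u}} (f : X ⟶ S) [LocallyOfFiniteType f] (x : X) :
    LocCoh.IsCohenMacaulayLocalRing ((f.fiber (f.base x)).presheaf.stalk (f.asFiber x)) ↔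
      ringKrullDim ((f.fiber (f.base x)).presheaf.stalk (f.asFiber x)) =
        ((LocCoh.depth ((f.fiber (f.base x)).presheaf.stalk (f.asFiber x))
          ((f.fiber (f.base x)).presheaf.stalk (f.asFiber x)) : ℕ∞) : WithBot ℕ∞) + (0 : ℕ) := by
  have h2 : LocallyOfFiniteType (f.fiberToSpecResidueField (f.base x)) :=
    MorphismProperty.pullback_snd _ _ inferInstance
  have h3 : IsLocallyNoetherian (f.fiber (f.base x)) :=
    LocallyOfFiniteType.isLocallyNoetherian (f.fiberToSpecResidueField (f.base x))
  have h4 : IsNoetherianRing ((f.fiber (f.base x)).presheaf.stalk (f.asFiber x)) := inferInstance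
  rw [Nat.cast_zero, add_zero, ← Module.supportDim_self_eq_ringKrullDim]
  exact ⟨fun h => h.supportDim_eq_depth, fun h => ⟨h⟩⟩

/-- Let f : X ⟶ S be of finite presentation (locally of finite presentation, quasi-compact and
quasi-separated). Then the set of points s of S such that every local ring of the fibre X_s is
Cohen–Macaulay is locally constructible in S. -/
theorem result {X S : Scheme.{u}} (f : X ⟶ S)
    [LocallyOfFinitePresentation f] [QuasiCompact f] [QuasiSeparated f] :
    Topology.IsLocallyConstructible {s : S |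
      ∀ z : ↥(f.fiber s), LocCoh.IsCohenMacaulayLocalRing ((f.fiber s).presheaf.stalk z)} := by
  have h := Groth.Agent.Ega4fib.H171.CodConstr.main f 0
  have h2 := f.isLocallyConstructible_image (isLocallyConstructible_compl h)
  have h3 := isLocallyConstructible_compl h2
  convert h3 using 1
  ext s
  simp only [Set.mem_ofPred_eq, Set.mem_compl_iff, Set.mem_image, not_exists, not_and]
  constructor
  · rintro hs x hx rfl
    exact hx ((cm_iff f x).mp (hs (f.asFiber x)))
  · intro hs z
    obtain ⟨x, h, hx⟩ : ∃ x : X, ∃ h : f x = s, z = (f.fiberHomeo s).symm ⟨x, h⟩ :=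
      ⟨((f.fiberHomeo s) z).1, ((f.fiberHomeo s) z).2, ((f.fiberHomeo s).symm_apply_apply z).symm⟩
    subst h
    subst hx
    by_contra hcon
    exact hs x (fun h' => hcon ((cm_iff f x).mpr h')) rfl

end Groth.Agent.S3437
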