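import Groth.Statements.S3440
import Groth.Agent.Ega4fib.H159.OpenAtDim
import Groth.Agent.S2082
import Groth.Agent.Ega4A.CMFibre
import Groth.Agent.Sga3C.QFlatOpen
import Groth.Agent.Ega43.H133.OpenAt

set_option autoImplicit false
open CategoryTheory AlgebraicGeometry
universe u
open EGA43

namespace Groth.Agent.S3440

open TensorProduct in
/-- The closed fibre of a flat local homomorphism with Cohen–Macaulay target is Cohen–Macaulay. -/
theorem isCohenMacaulayLocalRing_quotient_of_flat (A B : Type u) [CommRing A] [CommRing B]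
    [IsNoetherianRing A] [IsLocalRing A] [LocCoh.IsCohenMacaulayLocalRing B] [Algebra A B]
    [IsLocalHom (algebraMap A B)] [Module.Flat A B] :
    LocCoh.IsCohenMacaulayLocalRing
      (B ⧸ (IsLocalRing.maximalIdeal A).map (algebraMap A B)) := by
  have hCM : LocCoh.IsCohenMacaulayModule B B :=
    LocCoh.IsCohenMacaulayLocalRing.supportDim_eq_depth
  have h1 : LocCoh.IsCohenMacaulayModule B (B ⊗[A] A) :=
    (Groth.Agent.Ega4A.CMModule.isCohenMacaulayModule_congr
      (TensorProduct.AlgebraTensorModule.rid A B B)).mp hCM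
  have h2 := ((Groth.Agent.S2604.result A B A B).mp h1).2
  have hne : (IsLocalRing.maximalIdeal A).map (algebraMap A B) ≤ IsLocalRing.maximalIdeal B :=
    IsLocalRing.map_maximalIdeal_le (algebraMap A B)
  have hnt : Nontrivial (B ⧸ (IsLocalRing.maximalIdeal A).map (algebraMap A B)) :=
    Ideal.Quotient.nontrivial_iff.2 (fun h =>
      (IsLocalRing.maximalIdeal.isMaximal B).ne_top (top_le_iff.1 (h ▸ hne)))
  have hloc : IsLocalRing (B ⧸ (IsLocalRing.maximalIdeal A).map (algebraMap A B)) :=
    IsLocalRing.of_surjective' (Ideal.Quotient.mk _) Ideal.Quotient.mk_surjective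
  rw [Groth.Agent.Ega4A.CMFibre.isCohenMacaulayModule_fibMod_self_iff A B _ rfl] at h2
  exact Groth.Agent.Ega4A.CMModule.isCohenMacaulayLocalRing_iff.mpr ⟨inferInstance, hloc, h2⟩

/-- Let Y be locally Noetherian, f : X ⟶ Y locally of finite type, x a point of X and y = f x; suppose
O_{Y,y} is regular and O_{X,x} is Cohen–Macaulay. The following are equivalent: a) O_{Y,y} ⟶ O_{X,x}
is flat and the local ring of X_y at x is Cohen–Macaulay; b) O_{Y,y} ⟶ O_{X,x} is flat; c) the
restriction of f to some open neighbourhood of x is universally open; d) f is open at the generic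
point of every irreducible component of X_y through x; e') dim O_{X,x} = dim O_{Y,y} + dim
O_{X_y,x}. -/
theorem result {X Y : Scheme.{u}} [IsLocallyNoetherian Y] (f : X ⟶ Y)
    [LocallyOfFiniteType f] (x : X) (hreg : IsRegularLocalRing (Y.presheaf.stalk (f.base x)))
    (hCM : LocCoh.IsCohenMacaulayLocalRing (X.presheaf.stalk x)) :
    List.TFAE [
      (f.stalkMap x).hom.Flat ∧ LocCoh.IsCohenMacaulayLocalRing ((f.fiber (f.base x)).presheaf.stalk (f.asFiber x)),
      (f.stalkMap x).hom.Flat,
      ∃ U : X.Opens, x ∈ U ∧ UniversallyOpen (U.ι ≫ f),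
      (∀ z : ↥(f.fiber (f.base x)), f.asFiber x ∈ closure {z} →
          (∀ z' : ↥(f.fiber (f.base x)), z ∈ closure {z'} → z' = z) →
          EGA43.IsOpenAt f.base ((f.fiberι (f.base x)).base z)),
      ringKrullDim (X.presheaf.stalk x) =
        ringKrullDim (Y.presheaf.stalk (f.base x)) + ringKrullDim ((f.fiber (f.base x)).presheaf.stalk (f.asFiber x)) ] := by
  have hX : IsLocallyNoetherian X := LocallyOfFiniteType.isLocallyNoetherian f
  have hfp : LocallyOfFinitePresentation f :=
    { finitePresentation_appLE := fun {U} hU {V} hV e => by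
        have : IsNoetherianRing Γ(Y, U) := IsLocallyNoetherian.component_noetherian ⟨U, hU⟩
        exact RingHom.FinitePresentation.of_finiteType.1 (f.finiteType_appLE hU hV e) }
  tfae_have 1 → 2 := fun h => h.1
  tfae_have 2 → 1 := by
    intro h
    refine ⟨h, ?_⟩
    algebraize [(f.stalkMap x).hom]
    have : IsLocalHom (algebraMap (Y.presheaf.stalk (f x)) (X.presheaf.stalk x)) :=
      inferInstanceAs <| IsLocalHom (f.stalkMap x).hom
    have h1 := isCohenMacaulayLocalRing_quotient_of_flat (Y.presheaf.stalk (f x))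
      (X.presheaf.stalk x)
    exact Groth.Agent.Ega4A.CMModule.isCohenMacaulayLocalRing_of_ringEquiv
      (Groth.Agent.Flat2D.PbStalk.fiberStalkEquiv f x)
  tfae_have 2 → 3 := by
    intro h
    let U : X.Opens := ⟨{x : X | (f.stalkMap x).hom.Flat},
      Groth.Agent.Sga3C.QFlatOpen.isOpen_flatLocus f⟩
    refine ⟨U, h, ?_⟩
    have hflat : Flat (U.ι ≫ f) := by
      rw [Flat.iff_flat_stalkMap]
      intro u
      rw [Scheme.Hom.stalkMap_comp]
      change RingHom.Flat ((U.ι.stalkMap u).hom.comp (f.stalkMap (U.ι u)).hom)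
      exact RingHom.Flat.comp u.2 (Flat.stalkMap U.ι u)
    infer_instance
  tfae_have 3 → 4 := by
    rintro ⟨U, hxU, hU⟩ z hz -
    have h1 : (f.fiberι (f x)) z ⤳ x := by
      have h2 : z ⤳ f.asFiber x := specializes_iff_mem_closure.mpr hz
      have h3 := h2.map (f.fiberι (f x)).continuous
      rwa [f.fiberι_asFiber] at h3
    have hzU : (f.fiberι (f x)) z ∈ U := h1.mem_open U.2 hxU
    have h4 := Groth.Agent.Ega43.H133.OpenAt.isOpenAt_of_isOpenMap (U.ι ≫ f).isOpenMap
      (⟨(f.fiberι (f x)) z, hzU⟩ : U)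
    exact Groth.Agent.Ega43.OpenAt.isOpenAt_of_comm (i := U.ι) (j := id) (h' := (U.ι ≫ f).base)
      (h := f.base) (⟨(f.fiberι (f x)) z, hzU⟩ : U) U.ι.continuous.continuousAt IsOpenMap.id
      (fun a => rfl) h4
  tfae_have 4 → 5 := by
    intro h
    rw [ringKrullDim_stalk_eq_coheight, ringKrullDim_stalk_eq_coheight,
      ringKrullDim_stalk_eq_coheight]
    have h1 := Groth.Agent.Ega4fib.H159.OpenAtDim.coheight_eq_add_of_isOpenAt f x
      (fun z hz hm => h z (specializes_iff_mem_closure.mp hz)
        (fun z' hz' => hm z' (specializes_iff_mem_closure.mpr hz')))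
    exact_mod_cast h1
  tfae_have 5 → 2 := by
    intro h
    algebraize [(f.stalkMap x).hom]
    have : IsLocalHom (algebraMap (Y.presheaf.stalk (f x)) (X.presheaf.stalk x)) :=
      inferInstanceAs <| IsLocalHom (f.stalkMap x).hom
    have h1 : ringKrullDim (X.presheaf.stalk x ⧸
        (IsLocalRing.maximalIdeal (Y.presheaf.stalk (f x))).map
          (algebraMap (Y.presheaf.stalk (f x)) (X.presheaf.stalk x))) =
        ringKrullDim ((f.fiber (f x)).presheaf.stalk (f.asFiber x)) :=
      ringKrullDim_eq_of_ringEquiv (Groth.Agent.Flat2D.PbStalk.fiberStalkEquiv f x)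
    exact Groth.Agent.S2082.result (by rw [h1]; exact h)
  tfae_finish

end Groth.Agent.S3440
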