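import Groth.Statements.S3454
import Groth.Agent.S3423
import Groth.Agent.Ega4fib.H111.FibFormula
import Groth.Agent.Ega4fib.H172.CodimLocus
import Groth.Agent.Ega4fib.H172.GeomRk

set_option autoImplicit false
open CategoryTheory AlgebraicGeometry
universe u
open EGA43

namespace Groth.Agent.S3454

open Groth.Agent.CycB.RelDim Groth.Agent.Ega4fib.H172.CodimLocus

instance lfp_fiberToSpec {X S : Scheme.{u}} (f : X ⟶ S) [LocallyOfFinitePresentation f] (s : S) :
    LocallyOfFinitePresentation (f.fiberToSpecResidueField s) :=
  inferInstanceAs (LocallyOfFinitePresentation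
    (Limits.pullback.snd f (S.fromSpecResidueField s)))

theorem exists_asFiber {X S : Scheme.{u}} (f : X ⟶ S) (s : S) (z : f.fiber s) :
    ∃ x : X, f.fiberι s z = x ∧ f x = s ∧ ∀ (P : ∀ (t : S), f.fiber t → Prop),
      P s z ↔ P (f x) (f.asFiber x) := by
  obtain ⟨x, hx⟩ : ∃ x, f.fiberι s z = x := ⟨_, rfl⟩
  have hs : f x = s := by
    have : f.fiberι s z ∈ f ⁻¹' {s} := by
      rw [← f.range_fiberι s]
      exact ⟨z, rfl⟩
    rw [hx] at this
    exact this
  subst hs
  have hz : z = f.asFiber x := by
    apply (f.fiberι (f x)).isEmbedding.injective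
    rw [hx, f.fiberι_asFiber]
  exact ⟨x, hx, rfl, fun P => by rw [hz]⟩

/-- Codimension in the fibre. -/
theorem coheight_asFiber_le_iff {X S : Scheme.{u}} (f : X ⟶ S) [LocallyOfFinitePresentation f]
    (z : X) (k : ℕ) : Order.coheight (f.asFiber z) ≤ k ↔
      ∃ n : ℕ, rtd f z = n ∧ FlatMor.fibreDimAt f z ≤ ((k + n : ℕ) : WithBot ℕ∞) := by
  obtain ⟨n, hn, hn'⟩ := Groth.Agent.Ega4fib.H111.FibFormula.fibreDimAt_eq f z
  rw [ringKrullDim_stalk_eq_coheight] at hn'
  have key : Order.coheight (f.asFiber z) ≤ k ↔
      FlatMor.fibreDimAt f z ≤ ((k + n : ℕ) : WithBot ℕ∞) := by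
    rw [hn']
    generalize Order.coheight (f.asFiber z) = c
    induction c using ENat.recTopCoe with
    | top =>
      constructor
      · intro h
        exact absurd h (by simp)
      · intro h
        exfalso
        have h1 : (((⊤ : ℕ∞) : WithBot ℕ∞) + (n : WithBot ℕ∞)) = ((⊤ : ℕ∞) : WithBot ℕ∞) := by
          rw [← WithBot.coe_natCast, ← WithBot.coe_add, top_add]
        rw [h1] at h
        have h2 : (⊤ : ℕ∞) ≤ ((k + n : ℕ) : ℕ∞) := by exact_mod_cast h
        exact absurd h2 (by simp)
    | coe c =>
      constructor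
      · intro h
        have h1 : c ≤ k := by exact_mod_cast h
        have h2 : c + n ≤ k + n := by omega
        exact_mod_cast h2
      · intro h
        have h1 : c + n ≤ k + n := by exact_mod_cast h
        have h2 : c ≤ k := by omega
        exact_mod_cast h2
  rw [key]
  constructor
  · intro h
    exact ⟨n, hn, h⟩
  · rintro ⟨m, hm, h⟩
    rw [hn] at hm
    have : n = m := by exact_mod_cast hm
    rw [this]
    exact h

/-- Let f : X ⟶ S be locally of finite presentation and k a natural number. The set of points x of X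
such that the fibre of f through x satisfies the geometric condition (R_k) at x — for every field
extension K of the residue field of f x and every point x' above x in the base-changed fibre, the
local ring at x' satisfies Serre's condition (R_k) — is locally constructible in X. -/
theorem result {X S : Scheme.{u}} (f : X ⟶ S)
    [LocallyOfFinitePresentation f] (k : ℕ) :
    Topology.IsLocallyConstructible {x : X |
      ∀ (K : Type u) [Field K] [Algebra (IsLocalRing.ResidueField (S.presheaf.stalk (f.base x))) K]
        (x' : ↥(FBase.bc (f.fiberToSpecResidueField (f.base x)) K)),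
        (FBase.bcπ (f.fiberToSpecResidueField (f.base x)) K).base x' = f.asFiber x →
          LocCoh.HasRk k ((FBase.bc (f.fiberToSpecResidueField (f.base x)) K).presheaf.stalk x')} := by
  have hZ := Groth.Agent.Ega4fib.H172.FibDimConstr.isLocallyConstructible_compl
    (Groth.Agent.S3423.result f)
  have hN := Groth.Agent.Ega4fib.H172.FibDimConstr.isLocallyConstructible_compl
    (isLocallyConstructible_codimLocus f hZ k)
  convert hN using 1
  ext x
  refine (@Groth.Agent.Ega4fib.H172.GeomRk.geomRk_iff
    (IsLocalRing.ResidueField (S.presheaf.stalk (f.base x))) _ (f.fiber (f x))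
    (f.fiberToSpecResidueField (f.base x)) (lfp_fiberToSpec f (f x)) k (f.asFiber x)).trans ?_
  constructor
  · rintro h ⟨z, hzZ, hfz, hzx, hd⟩
    rw [← coheight_asFiber_le_iff] at hd
    have hmem : z ∈ Set.range (f.fiberι (f x)) := by
      rw [Scheme.Hom.range_fiberι]; exact hfz
    obtain ⟨w, rfl⟩ := hmem
    obtain ⟨x₁, rfl, hx₁, hP⟩ := exists_asFiber f (f x) w
    have hsp : w ⤳ f.asFiber x := by
      refine (f.fiberι (f x)).isEmbedding.isInducing.specializes_iff.mp ?_
      rw [Scheme.Hom.fiberι_asFiber]
      exact hzx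
    have h1 : Order.coheight w ≤ k :=
      (hP (fun t v => Order.coheight v ≤ k)).mpr hd
    have h2 := h w hsp h1
    exact hzZ ((hP (fun t v => v ∈ (f.fiberToSpecResidueField t).smoothLocus)).mp h2)
  · intro h w hw hwk
    by_contra hcon
    apply h
    obtain ⟨z, hz, hx₁, hP⟩ := exists_asFiber f (f x) w
    refine ⟨z, ?_, hx₁, ?_, ?_⟩
    · intro hz'
      exact hcon ((hP (fun t v => v ∈ (f.fiberToSpecResidueField t).smoothLocus)).mpr hz')
    · have := hw.map (f.fiberι (f x)).continuous
      rw [Scheme.Hom.fiberι_asFiber] at this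
      rw [← hz]
      exact this
    · rw [← coheight_asFiber_le_iff]
      exact (hP (fun t v => Order.coheight v ≤ k)).mp hwk

end Groth.Agent.S3454
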