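import Groth.Statements.S3458
import Groth.Agent.Ega4Fib.H176.SecDvr
import Groth.Agent.S2587

set_option autoImplicit false
open CategoryTheory AlgebraicGeometry
universe u
open EGA43

namespace Groth.Agent.S3458

open Groth.Agent.Ega4Fib.H176.SecDvr

/-- Let Y be locally Noetherian, f : X ⟶ Y locally of finite type, g a section of f, and X⁰_y the
connected component of f⁻¹(y) containing g(y). Suppose that every X⁰_y is geometrically irreducible:
for every field extension K of κ(y), the preimage of X⁰_y in the base change of the fibre X_y to K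
is irreducible. Then for every point y such that z ↦ dim X⁰_z is constant on a neighbourhood of y, f
is universally open at every point of X⁰_y. -/
theorem result {X Y : Scheme.{u}} [IsLocallyNoetherian Y]
    (f : X ⟶ Y) [LocallyOfFiniteType f] (g : Y ⟶ X) (hg : g ≫ f = 𝟙 Y)
    (hgi : ∀ (y : Y) (K : Type u) [Field K] [Algebra (IsLocalRing.ResidueField (Y.presheaf.stalk y)) K],
      IsIrreducible ((FBase.bcπ (f.fiberToSpecResidueField y) K ≫ f.fiberι y).base ⁻¹' (connectedComponentIn (f.base ⁻¹' {y}) (g.base y))))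
    (y : Y)
    (hc : ∃ V ∈ nhds y, ∀ z ∈ V, topologicalKrullDim ↥(connectedComponentIn (f.base ⁻¹' {z}) (g.base z)) = topologicalKrullDim ↥(connectedComponentIn (f.base ⁻¹' {y}) (g.base y))) :
    ∀ x ∈ connectedComponentIn (f.base ⁻¹' {y}) (g.base y), EGA43.IsUnivOpenAt f x := by
  intro x hx
  have hfx : f x = y := connectedComponentIn_subset (f ⁻¹' {y}) (g y) hx
  have hfg : ∀ z, f (g z) = z := fun z => by
    rw [← Scheme.Hom.comp_apply, hg]; rfl
  rw [S2587.result]
  intro A _ _ _ φ hφ x' hx'1 hx'2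
  let T := Spec (CommRingCat.of A)
  let p : Limits.pullback f φ ⟶ X := Limits.pullback.fst f φ
  let q : Limits.pullback f φ ⟶ T := Limits.pullback.snd f φ
  have hP : IsPullback p q f φ := IsPullback.of_hasPullback f φ
  let s : T ⟶ Limits.pullback f φ := Limits.pullback.lift (φ ≫ g) (𝟙 _) (by
    rw [Category.assoc, hg, Category.comp_id, Category.id_comp])
  have hs1 : s ≫ p = φ ≫ g := Limits.pullback.lift_fst _ _ _
  have hs2 : s ≫ q = 𝟙 _ := Limits.pullback.lift_snd _ _ _
  have hsp : ∀ t, p (s t) = g (φ t) := fun t => by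
    rw [← Scheme.Hom.comp_apply, hs1, Scheme.Hom.comp_apply]
  have hsq : ∀ t, q (s t) = t := fun t => by
    rw [← Scheme.Hom.comp_apply, hs2]; rfl
  let m : T := IsLocalRing.closedPoint A
  let η : T := (⟨⊥, Ideal.isPrime_bot⟩ : PrimeSpectrum A)
  have hφm : φ m = y := hφ.trans hfx
  have hηm : η ⤳ m := IsLocalRing.specializes_closedPoint (R := A) ⟨⊥, Ideal.isPrime_bot⟩
  have hne : η ≠ m := fun h =>
    IsDiscreteValuationRing.not_a_field A (congrArg PrimeSpectrum.asIdeal h).symm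
  let C : Y → Set X := fun z => connectedComponentIn (f ⁻¹' {z}) (g z)
  have hD : ∀ t : T, IsIrreducible (ov p q (C (φ t)) t) := fun t =>
    isIrreducible_ov hP t (C (φ t)) (fun K _ _ => hgi (φ t) K)
  have hmem : ∀ t : T, s t ∈ ov p q (C (φ t)) t := fun t => by
    refine ⟨hsq t, ?_⟩
    rw [hsp]
    exact mem_connectedComponentIn (hfg _)
  have hcomm : ∀ w, f (p w) = φ (q w) := fun w => by
    rw [← Scheme.Hom.comp_apply, ← Scheme.Hom.comp_apply, hP.w]
  have hov : ∀ (t : T) (S : Set X), C (φ t) = S ∩ f ⁻¹' {φ t} →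
      ov p q (C (φ t)) t = p ⁻¹' S ∩ q ⁻¹' {t} := by
    intro t S hS
    ext w
    constructor
    · rintro ⟨h1, h2⟩
      rw [hS] at h2
      exact ⟨h2.1, h1⟩
    · rintro ⟨h1, h2⟩
      have h2' : q w = t := h2
      refine ⟨h2, ?_⟩
      rw [hS]
      refine ⟨h1, ?_⟩
      change f (p w) = φ t
      rw [hcomm, h2']
  obtain ⟨⟨O₁, hO₁, hCO₁⟩, ⟨F₁, hF₁, hCF₁⟩⟩ := exists_open_closed f (φ η) (g (φ η)) (hfg _)
  obtain ⟨⟨O₂, hO₂, hCO₂⟩, -⟩ := exists_open_closed f (φ m) (g (φ m)) (hfg _)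
  have hdim : topologicalKrullDim (ov p q (C (φ η)) η) = topologicalKrullDim (ov p q (C (φ m)) m) := by
    rw [dim_ov hP η hO₁ hCO₁, dim_ov hP m hO₂ hCO₂]
    obtain ⟨V, hV, hVd⟩ := hc
    have h1 : φ η ∈ V := by
      obtain ⟨W, hWV, hW, hyW⟩ := mem_nhds_iff.mp hV
      refine hWV (((hηm.map φ.continuous).mem_open hW ?_))
      rw [hφm]; exact hyW
    have h2 := hVd _ h1
    rw [hφm]
    exact h2
  obtain ⟨ζ, hζ, hζx⟩ := exists_generic_of_dim q (hD η) (hD m) (hF₁.preimage p.continuous)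
    (hov η F₁ hCF₁) (hO₂.preimage p.continuous) (hov m O₂ hCO₂) hdim
    ⟨s m, hmem m, by
      have h1 : s η ⤳ s m := hηm.map s.continuous
      exact closure_mono (Set.singleton_subset_iff.mpr (hmem η)) (specializes_iff_mem_closure.mp h1)⟩
  refine ⟨ζ, hζx x' ⟨hx'2, ?_⟩, ?_⟩
  · have h1 : p x' = x := hx'1
    rw [h1, hφm]
    exact hx
  · intro h
    exact hne (hζ.1.symm.trans h)

end Groth.Agent.S3458
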