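import Groth.Statements.S3459
import Groth.Agent.Ega4fib.H177.Adm

set_option autoImplicit false
open CategoryTheory AlgebraicGeometry
universe u
open EGA43

namespace Groth.Agent.S3459

/-- Let Y be an irreducible locally Noetherian scheme with generic point η, f : X ⟶ Y locally of finite
type, x a point of X and y = f x. Suppose (1) x lies on exactly one irreducible component Z of the
fibre X_y, and (2) X_y is geometrically reduced at the generic point of Z. Call an irreducible
component X' of X containing x admissible when the local dimension at x of X' ∩ f⁻¹(y) equals that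
of f⁻¹(y) and the restriction of f to X' (with its reduced structure) is universally open at the
generic points of the irreducible components of X' ∩ f⁻¹(y) containing x. Then there is at most one
admissible X'; and if X' is admissible, the fibre X_η is geometrically reduced at the generic point
of X'. -/
theorem result {X Y : Scheme.{u}} [IrreducibleSpace Y]
    [IsLocallyNoetherian Y] (f : X ⟶ Y) [LocallyOfFiniteType f] (x : X)
    (h1 : ∃! Zc : Set ↥(f.fiber (f.base x)), Zc ∈ irreducibleComponents (↥(f.fiber (f.base x)) : Type u) ∧ f.asFiber x ∈ Zc)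
    (h2 : ∀ z : ↥(f.fiber (f.base x)), f.asFiber x ∈ closure {z} →
      (∀ z' : ↥(f.fiber (f.base x)), z ∈ closure {z'} → z' = z) →
      FBase.IsGeomReducedAt (f.fiberToSpecResidueField (f.base x)) z) :
    letI adm : TopologicalSpace.Closeds X → Prop := fun X' =>
      (X' : Set X) ∈ irreducibleComponents (X : Type u) ∧ ∃ hx : x ∈ X',
        FlatMor.localDim ↥((X' : Set X) ∩ f.base ⁻¹' {f.base x}) ⟨x, ⟨hx, Set.mem_singleton (f.base x)⟩⟩ =
          FlatMor.fibreDimAt f x ∧
        ∀ w : ↥(Scheme.IdealSheafData.vanishingIdeal X').subscheme,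
          f.base ((Scheme.IdealSheafData.vanishingIdeal X').subschemeι.base w) = f.base x →
          x ∈ closure {(Scheme.IdealSheafData.vanishingIdeal X').subschemeι.base w} →
          (∀ t : X, t ∈ (X' : Set X) → f.base t = f.base x →
              (Scheme.IdealSheafData.vanishingIdeal X').subschemeι.base w ∈ closure {t} →
              t = (Scheme.IdealSheafData.vanishingIdeal X').subschemeι.base w) →
          EGA43.IsUnivOpenAt ((Scheme.IdealSheafData.vanishingIdeal X').subschemeι ≫ f) w
    {X' : TopologicalSpace.Closeds X | adm X'}.Subsingleton ∧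
      ∀ X' : TopologicalSpace.Closeds X, adm X' →
        ∀ ζ : ↥(f.fiber (genericPoint Y)), closure {(f.fiberι (genericPoint Y)).base ζ} = (X' : Set X) →
          FBase.IsGeomReducedAt (f.fiberToSpecResidueField (genericPoint Y)) ζ := by

  constructor
  · intro X' hX' X'' hX''
    obtain ⟨hirr, hx, hdim, hopen⟩ := hX'
    obtain ⟨hirr'', hx'', hdim'', hopen''⟩ := hX''
    refine ((Groth.Agent.Ega4fib.H177.Adm.conclusion f x h1 h2 X' hirr hx hdim hopen).1 X'' hirr''
      fun z hz1 _ hz3 => ?_).symm
    have hpx : f.fiberι (f x) z ⤳ x := by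
      have := (specializes_iff_mem_closure.2 hz1).map (f.fiberι (f x)).continuous
      rw [Scheme.Hom.fiberι_asFiber] at this
      exact this
    have hfp : f (f.fiberι (f x) z) = f x := by
      have : f.fiberι (f x) z ∈ Set.range (f.fiberι (f x)) := ⟨z, rfl⟩
      rw [Scheme.Hom.range_fiberι] at this
      exact this
    exact Groth.Agent.Ega4fib.H177.Dim.mem_of_localDim_eq f x _ hpx hfp hz3 X'' hirr''.1 hx'' hdim''
  · intro X' hX' ζ hζ
    obtain ⟨hirr, hx, hdim, hopen⟩ := hX'
    refine (Groth.Agent.Ega4fib.H177.Core.schFieldAt_fiber_iff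
      Groth.Agent.Ega43.GeomRedMain.isoClosed_isReduced.{u} f (genericPoint Y) ζ).2 ?_
    refine (Groth.Agent.Ega4fib.H177.Adm.conclusion f x h1 h2 X' hirr hx hdim hopen).2 _ ?_ hζ
    rw [← hζ]
    exact subset_closure rfl

end Groth.Agent.S3459
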