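import Groth.Statements.S3467
import Groth.Agent.Etbc.H185.LTors
import Groth.Agent.S0162

set_option autoImplicit false
universe u
open CategoryTheory CategoryTheory.Limits AlgebraicGeometry Opposite
attribute [local instance] HasDerivedCategory.standard
open EtBC

namespace Groth.Agent.S3467

/-- Let X' = X ×_Y Y' be a cartesian square of schemes with f : X → Y quasi-compact and quasi-separated
and g : Y' → Y smooth, projections f' : X' → Y' and g' : X' → X, and let L be the set of primes
invertible on Y (the complement of the set of residue characteristics of Y). Then for every abelian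
L-torsion sheaf F on the small etale site of X the base change morphism g⁻¹ Rf_* F → Rf'_* g'⁻¹ F in
the derived category of abelian etale sheaves on Y' is an isomorphism (equivalently, g⁻¹ R^q f_* F →
R^q f'_* g'⁻¹ F is bijective for every q). -/
theorem result {X Y X' Y' : Scheme.{u}} (f : X ⟶ Y) (g : Y' ⟶ Y)
    (f' : X' ⟶ Y') (g' : X' ⟶ X) (h : IsPullback g' f' f g) [QuasiCompact f] [QuasiSeparated f] [Smooth g]
    [PreservesFiniteLimits (EtCoh.pull g)] [PreservesFiniteLimits (EtCoh.pull g')]
    [DCoh.HasRpushEt X f] [DCoh.HasRpushEt X' f'] [DCoh.HasRpushEt Y' g]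
    (adj : EtBC.pullD g ⊣ DCoh.RpushEt Y' g) (F : EtCoh.Ab X)
    (hF : EtAcyc.IsLTorsion (EtAcyc.primesInvertibleOn Y) F) :
    IsIso (EtBC.bcMap f g f' g' h.w adj (EtBC.single X F)) := by
  have hN := Groth.Agent.EtpbcB.TorsEtN.isOrd_invOrd Y
  obtain ⟨T, hT, e, hT'⟩ := Groth.Agent.Etbc.H185.LTors.exists_resolution hN F
    (Groth.Agent.Etbc.H185.LTors.torsionN_invOrd_of_isLTorsion hF)
  have key : ∀ (i : ℤ) (q : ℕ), _ := fun i q =>
    Groth.Agent.S0162.result g f f' g' h (T.X i)
      (Groth.Agent.EtpbcB.TorsEtN.isTorsionInvertibleOn_of_torsionN Y _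
        (Groth.Agent.Etbc.H185.LTors.IsTorInj.torsionN hN (hT' i))) q
  refine Groth.Agent.Etbc.H185.BcMap.isIso_bcMap_of_acyc f g f' g' h.w adj _ T 0 e
    (fun i => Groth.Agent.Etbc.H185.LTors.IsTorInj.isAcyc hN f (hT' i)) (fun i n => ?_)
    (fun i => (key i 0).2)
  obtain ⟨i1⟩ := (key i (n + 1)).1
  exact ((EtCoh.pull g).map_isZero
    (Groth.Agent.Etbc.H185.LTors.IsTorInj.isAcyc hN f (hT' i) n)).of_iso i1.symm

end Groth.Agent.S3467
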