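import Groth.Statements.S3468
import Groth.Agent.Etbc.H186.BCFlatSh
import Groth.Agent.EtpbcA.EtaleGeomConn
import Groth.Agent.Etcore.SmoothRed

set_option autoImplicit false
universe u
open CategoryTheory CategoryTheory.Limits AlgebraicGeometry Opposite
open EtBC

namespace Groth.Agent.S3468

/-- Let X' = X ×_Y Y' be a cartesian square of schemes with f : X → Y quasi-compact and quasi-separated
and g : Y' → Y smooth, projections f' : X' → Y' and g' : X' → X. Then for every sheaf of sets F on
the small etale site of X the base change morphism g^* f_* F → f'_* g'^* F is an isomorphism. -/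
theorem result {X Y X' Y' : Scheme.{u}} (f : X ⟶ Y) (g : Y' ⟶ Y)
    (f' : X' ⟶ Y') (g' : X' ⟶ X) (h : IsPullback g' f' f g) [QuasiCompact f] [QuasiSeparated f] [Smooth g]
    (F : EtDesc.Sh X) : IsIso (EtBC.baseChange0Sh f g f' g' h.w F) := by
  refine Groth.Agent.Etbc.H186.BCFlatSh.isIso_baseChange0Sh_of_factor h F (fun U y => ?_)
  have h0 : Smooth (U.hom ≫ g) := inferInstance
  have h1 : GeometricallyReduced (U.hom ≫ g) := by
    constructor
    intro K _ y W fst snd hp
    have h2 : Smooth snd := MorphismProperty.of_isPullback (P := @Smooth) hp h0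
    exact Groth.Agent.Etcore.SmoothRed.isReduced_of_smooth snd
  obtain ⟨U₁, V₁, a, b, c, ha, hy, hc', hw, hb1, hb0, hb2, -, hb3, -, hb4⟩ :=
    Groth.Agent.EtpbcA.EtaleGeomConn.exists_factor (U.hom ≫ g) y
  exact ⟨U₁, V₁, a, b, c, ha, hy, hc', hw, hb4, inferInstance, hb3⟩

end Groth.Agent.S3468
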