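import Groth.Statements.S3472
import Groth.Agent.S0162
import Groth.Agent.Etbc.H190.LocAcyc

set_option autoImplicit false
universe u
open CategoryTheory CategoryTheory.Limits AlgebraicGeometry Opposite
open EtAcyc

namespace Groth.Agent.S3472

/-- Let g : X → Y be a smooth morphism of schemes and L the set of primes invertible on X (the
complement of the set of residue characteristics of X). Then g is locally acyclic for L: for every
point x, all strict henselizations R_Y → R_X of the local rings at g x and x compatible with g,
every etale V over Spec R_Y, and every abelian L-torsion sheaf F on V, pullback along (Spec R_X)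
×_{Spec R_Y} V → V is bijective on etale cohomology in all degrees. -/
theorem result {X Y : Scheme.{u}} (g : X ⟶ Y) [Smooth g] :
    EtAcyc.IsLocAcyclic g (EtAcyc.primesInvertibleOn X) := by
  refine Groth.Agent.Etbc.H190.LocAcyc.isLocAcyclic_of_bc g _ ?_
  intro x A _ _ _ _ _ hA T t _ F hF T' h e hc
  have hL : ∀ ℓ ∈ EtAcyc.primesInvertibleOn X, IsUnit (ℓ : A) := by
    intro ℓ hℓ
    have h1 : IsUnit (ℓ : X.presheaf.stalk x) := by
      rw [← IsLocalRing.residue_ne_zero_iff_isUnit, map_natCast]
      exact hℓ.2 x
    have h2 : IsUnit (ℓ : Y.presheaf.stalk (g.base x)) := by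
      rw [← map_natCast (g.stalkMap x).hom] at h1
      exact isUnit_of_map_unit (g.stalkMap x).hom _ h1
    have h3 := h2.map (algebraMap (Y.presheaf.stalk (g.base x)) A)
    rwa [map_natCast] at h3
  have hFt := Groth.Agent.Etbc.H190.LocAcyc.isTorsionInvertibleOn_of_isLTorsion hL hF
  have key := fun q => Groth.Agent.S0162.result (pullback.snd g (Hens2.specOf Y (g.base x) A)) t
    h e hc F hFt q
  exact ⟨fun q => (key q).1, (key 0).2⟩

end Groth.Agent.S3472
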