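import Groth.Statements.S3474
import Groth.Agent.Etbc.H192.Model
import Groth.Agent.Etbc.H192.ULoc

set_option autoImplicit false
universe u
open CategoryTheory CategoryTheory.Limits AlgebraicGeometry Opposite
open EtAcyc

namespace Groth.Agent.S3474

/-- Let g : X → Y be a flat morphism of schemes whose fibres are separable (every base change of a fibre
to a field is a reduced scheme), and assume either that X and Y are locally Noetherian or that g is
locally of finite presentation. Then g is universally locally 0-acyclic: after any base change,
every induced morphism of strict localizations Spec R_X → Spec R_Y is 0-acyclic (units F → g'_* g'^*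
F bijective for all sheaves of sets F on all etale V over Spec R_Y). -/
theorem result {X Y : Scheme.{u}} (g : X ⟶ Y) [Flat g]
    (hsep : ∀ (K : Type u) [Field K] (k : Spec (CommRingCat.of K) ⟶ Y), IsReduced (pullback g k))
    (h : (IsLocallyNoetherian X ∧ IsLocallyNoetherian Y) ∨ LocallyOfFinitePresentation g) :
    EtAcyc.IsULocZeroAcyclic g := by
  apply Groth.Agent.Etbc.H192.ULoc.isULocZeroAcyclic_of_hasModel
  intro x₀
  rcases h with ⟨-, h⟩ | h
  · exact Groth.Agent.Etbc.H192.Model.hasModel_of_isLocallyNoetherian g hsep x₀
  · exact Groth.Agent.Etbc.H192.Model.hasModel_of_locallyOfFinitePresentation g hsep x₀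

end Groth.Agent.S3474
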