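import Groth.Statements.S3478
import Groth.Agent.Etcore.FieldExt82b
import Groth.Agent.Etrest.SHPoint
import Groth.Agent.Etbc.H190.LocAcyc

set_option autoImplicit false
universe u
open CategoryTheory CategoryTheory.Limits AlgebraicGeometry Opposite
open EtAcyc

namespace Groth.Agent.S3478

theorem bcAt (k K : Type u) [Field k] [Field K]
    (φ : k →+* K) {X : Scheme.{u}} (a : X ⟶ Spec (CommRingCat.of k)) (F : EtCoh.Ab X)
    (hF : EtAcyc.IsLTorsion {ℓ | ℓ.Prime ∧ ℓ ≠ ringChar k} F)
    {T : Scheme.{u}} (t : T ⟶ X) [IsAffine T] :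
    Groth.Agent.Etcore.FieldExt82.BCAt (t ≫ a) ((EtCoh.pull t).obj F)
      (Spec.map (CommRingCat.ofHom φ)) := by
  have hL : ∀ ℓ ∈ {ℓ : ℕ | ℓ.Prime ∧ ℓ ≠ ringChar k}, IsUnit (ℓ : k) := by
    rintro ℓ ⟨h1, h2⟩
    rw [isUnit_iff_ne_zero]
    intro h0
    have h3 := (ringChar.spec k ℓ).1 h0
    rcases (Nat.dvd_prime h1).1 h3 with h4 | h4
    · exact (CharP.ringChar_ne_one : ringChar k ≠ 1) h4
    · exact h2 h4.symm
  exact Groth.Agent.Etcore.FieldExt82.bcAt_of_fieldExt φ (𝟙 _) (t ≫ a)
    (Spec.map (CommRingCat.ofHom φ)) (𝟙 _) IsPullback.of_id_snd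
    _ (Groth.Agent.Etbc.H190.LocAcyc.isTorsionInvertibleOn_of_isLTorsion hL
      (Groth.Agent.Etbc.H190.LocAcyc.isLTorsion_pull t F hF))

theorem bijective (k K : Type u) [Field k] [IsSepClosed k] [Field K] [IsSepClosed K]
    (φ : k →+* K) {X : Scheme.{u}} (a : X ⟶ Spec (CommRingCat.of k)) (F : EtCoh.Ab X)
    (hF : EtAcyc.IsLTorsion {ℓ | ℓ.Prime ∧ ℓ ≠ ringChar k} F) {X' : Scheme.{u}}
    {p : X' ⟶ X} {b : X' ⟶ Spec (CommRingCat.of K)}
    (hP : IsPullback p b a (Spec.map (CommRingCat.ofHom φ)))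
    [PreservesFiniteLimits (EtCoh.pull p)] (q : ℕ) :
    Function.Bijective (EtCore.Hpull p F q) := by
  let m : Spec (CommRingCat.of K) ⟶ Spec (CommRingCat.of K) := 𝟙 _
  let x : ↥(Spec (CommRingCat.of K)) := m.base (IsLocalRing.closedPoint K)
  have hk := Groth.Agent.Etrest.SHPoint.isSepClosed_residueField k
  have hK := Groth.Agent.Etrest.SHPoint.isSepClosed_residueField K
  let _ : Algebra ((Spec (CommRingCat.of K)).presheaf.stalk x) K :=
    Groth.Agent.Etrest.SHBase.ptAlgebra m
  have hloc : IsLocalHom (algebraMap ((Spec (CommRingCat.of K)).presheaf.stalk x) K) :=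
    Scheme.isLocalHom_stalkClosedPointTo m
  have hSH : Hensel.IsStrictHenselization ((Spec (CommRingCat.of K)).presheaf.stalk x) K :=
    Groth.Agent.Etrest.SHPoint.isStrictHenselization_of_bijective _ _
      (Groth.Agent.Etrest.SHPoint.bijective_ptAlgebra_id K)
  have hm : Hens2.specOf (Spec (CommRingCat.of K)) x K ≫ Spec.map (CommRingCat.ofHom φ) =
      Spec.map (CommRingCat.ofHom φ) := by
    have h1 : Hens2.specOf (Spec (CommRingCat.of K)) x K = m :=
      Groth.Agent.Etrest.SHBase.specOf_ptAlgebra m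
    rw [h1]
    exact Category.id_comp _
  exact Groth.Agent.Etbc.H190.LocAcyc.Hpull_bijective x φ hm a F
    (fun T t _ => bcAt k K φ a F hF t) hP q

/-- Let K/k be an extension of separably closed fields, p the characteristic of k, X a scheme over k,
and F an abelian sheaf on the small etale site of X which is L-torsion for L the set of primes
different from p. Then the pullback map H^q(X, F) → H^q(X_K, F_K) is bijective for every q, where
X_K = X ×_k Spec K. -/
theorem result (k K : Type u) [Field k] [IsSepClosed k] [Field K] [IsSepClosed K]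
    [Algebra k K] {X : Scheme.{u}} (a : X ⟶ Spec (CommRingCat.of k)) (F : EtCoh.Ab X)
    (hF : EtAcyc.IsLTorsion {ℓ | ℓ.Prime ∧ ℓ ≠ ringChar k} F)
    [PreservesFiniteLimits (EtCoh.pull (pullback.fst a (Spec.map (CommRingCat.ofHom (algebraMap k K)))))]
    (q : ℕ) :
    Function.Bijective (EtCore.Hpull (pullback.fst a (Spec.map (CommRingCat.ofHom (algebraMap k K)))) F q) := by
  exact bijective k K (algebraMap k K) a F hF (IsPullback.of_hasPullback _ _) q

end Groth.Agent.S3478
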