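import Groth.Statements.S3516
import Groth.Agent.Etbc.H234.Assembly
import Groth.Agent.Etbc.H189.GeomFib

set_option autoImplicit false
universe u
open CategoryTheory CategoryTheory.Limits AlgebraicGeometry Opposite
open EtAcyc

namespace Groth.Agent.S3516

/-- Let R be a strictly henselian local ring, Y = Spec R, f : X → Y a proper morphism that is locally
n-acyclic for a set of primes L, and F a locally constant abelian L-torsion sheaf on the small étale
site of X. Then for every point y₁ of Y and every separably closed field Ω algebraic over the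
residue field κ(y₁), the pullback map H^q(X_ét, F) → H^q((X ×_Y Spec Ω)_ét, F|_{X ×_Y Spec Ω}) to
the cohomology of the geometric fibre over y₁ is bijective for q ≤ n and injective for q = n + 1.
The published statement also covers non-abelian coefficients and is the specialization statement
over an arbitrary base; it is stated here for abelian sheaves over a strictly local base, where the
specialization map is this pullback map. The hypothesis that pullback along the projection of the
geometric fibre preserves finite limits is carried as an instance binder. -/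
theorem result (R : Type u) [CommRing R]
    (hR : EtCoh.IsStrictlyHenselianLocalRing R) {X : Scheme.{u}} (f : X ⟶ Spec (CommRingCat.of R)) [IsProper f]
    (L : Set ℕ) (n : ℕ) (hf : EtAcyc.IsLocAcyclicN f L n) (F : EtCoh.Ab X) (hF : EtAcyc.IsLTorsion L F)
    (hlc : EtRest.IsLocallyConstant F) (y₁ : Spec (CommRingCat.of R)) (Ω : Type u) [Field Ω] [IsSepClosed Ω]
    [Algebra ((Spec (CommRingCat.of R)).residueField y₁) Ω] [Algebra.IsAlgebraic ((Spec (CommRingCat.of R)).residueField y₁) Ω]
    [PreservesFiniteLimits (EtCoh.pull (pullback.fst f (EtAcyc.geomPt (Spec (CommRingCat.of R)) y₁ Ω)))] :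
    (∀ q : ℕ, q ≤ n →
      Function.Bijective (EtCore.Hpull (pullback.fst f (EtAcyc.geomPt (Spec (CommRingCat.of R)) y₁ Ω)) F q)) ∧
    Function.Injective (EtCore.Hpull (pullback.fst f (EtAcyc.geomPt (Spec (CommRingCat.of R)) y₁ Ω)) F (n + 1)) := by
  obtain ⟨hhens, hsep⟩ := hR
  by_cases hL : ∃ ℓ ∈ L, ℓ.Prime
  · refine Groth.Agent.Etbc.H234.Assembly.Hpull_range_of_fibres R f
      (EtAcyc.geomPt (Spec (CommRingCat.of R)) y₁ Ω) _ (pullback.snd f _)
      (IsPullback.of_hasPullback _ _) F hF hlc fun Ω' _ _ ξ hξ => ?_
    exact Groth.Agent.Etbc.H189.GeomFib.geomFibresAcyclicN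
      (Groth.Agent.EtpbcB.StrictLoc.toBase ξ ≫ f) hL
      (Groth.Agent.Etbc.H234.FibreStalk.onStrictLocalizations_toBase R f
        (fun _ _ h => EtAcyc.IsAcyclicN h L n) hf ξ hξ) y₁ Ω
  · have h0 := Groth.Agent.Etbc.H234.FibreStalk.isZero_of_isLTorsion hL hF
    exact ⟨fun q _ => Groth.Agent.Etbc.H234.Assembly.Hpull_of_isZero _ F h0 q,
      (Groth.Agent.Etbc.H234.Assembly.Hpull_of_isZero _ F h0 (n + 1)).1⟩

end Groth.Agent.S3516
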