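import Groth.Statements.S3480
import Groth.Agent.Etbc.H198.Main
import Groth.Agent.Etbc.H231.AcycComp
import Groth.Agent.S3516

set_option autoImplicit false
universe u
open CategoryTheory CategoryTheory.Limits AlgebraicGeometry Opposite
open EtAcyc

namespace Groth.Agent.S3480

open Groth.Agent.EtpbcA Groth.Agent.Etbc.H198

/-- Let f : X → Y be proper and of finite presentation, L a set of primes, n a natural number, and
suppose f is locally n-acyclic for L. Let F be an abelian L-torsion sheaf on the small etale site of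
X which is finite locally constant. Then R^q f_* F is finite locally constant for every q ≤ n. -/
theorem result {X Y : Scheme.{u}} (f : X ⟶ Y) [IsProper f]
    [LocallyOfFinitePresentation f] (L : Set ℕ) (n : ℕ) (hf : EtAcyc.IsLocAcyclicN f L n)
    (F : EtCoh.Ab X) (hF : EtAcyc.IsLTorsion L F) (hlc : EtCoh.IsFiniteLocallyConstant F) (q : ℕ) (hq : q ≤ n) :
    EtCoh.IsFiniteLocallyConstant ((EtCoh.Rpush f q).obj F) := by
  apply Groth.Agent.Etrest.FLCLocal.isFLC_of_local_opens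
  intro y
  obtain ⟨V, hV, hy⟩ : ∃ V : Y.Opens, IsAffineOpen V ∧ y ∈ V := by
    obtain ⟨V, hV, hy, -⟩ := TopologicalSpace.Opens.isBasis_iff_nbhd.mp Y.isBasis_affineOpens
      (show y ∈ (⊤ : Y.Opens) from trivial)
    exact ⟨V, hV, hy⟩
  refine ⟨V, hy, ?_⟩
  obtain ⟨e⟩ := Groth.Agent.Etrest.FLCLocal.pull_Rpush_iso V.ι f (f ⁻¹ᵁ V).ι (f ∣_ V)
    (isPullback_morphismRestrict f V).flip F q
  refine PullFLC.isFLC_of_iso e.symm ?_
  have hVa : IsAffine V := hV
  have hf' : EtAcyc.IsLocAcyclicN (f ∣_ V) L n :=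
    WeBC.of_weaklyEtale hf (f ∣_ V) (f ⁻¹ᵁ V).ι V.ι (isPullback_morphismRestrict f V).flip
  refine Main.isFLC_Rpush_affine (f ∣_ V) _ (PullFLC.isFLC_pull _ F hlc) q ?_
  intro R _ _ _ σ hσ y₁
  have hf'' : EtAcyc.IsLocAcyclicN (pullback.snd (f ∣_ V) σ) L n :=
    WeBC.of_isStrictLoc hf' _ (pullback.fst (f ∣_ V) σ) σ hσ (IsPullback.of_hasPullback _ _)
  have hF'' : EtAcyc.IsLTorsion L
      ((EtCoh.pull (pullback.fst (f ∣_ V) σ)).obj ((EtCoh.pull (f ⁻¹ᵁ V).ι).obj F)) :=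
    Groth.Agent.Etbc.H231.AcycComp.isLTorsion_pull L _ _ (Groth.Agent.Etbc.H231.AcycComp.isLTorsion_pull L _ _ hF)
  have hlc'' : EtRest.IsLocallyConstant
      ((EtCoh.pull (pullback.fst (f ∣_ V) σ)).obj ((EtCoh.pull (f ⁻¹ᵁ V).ι).obj F)) :=
    Main.isLocallyConstant_of_flc (PullFLC.isFLC_pull _ _ (PullFLC.isFLC_pull _ F hlc))
  let Ω : Type u := SeparableClosure ((Spec (CommRingCat.of R)).residueField y₁)
  have hp : PreservesFiniteLimits (EtCoh.pull (pullback.fst (pullback.snd (f ∣_ V) σ)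
      (EtAcyc.geomPt (Spec (CommRingCat.of R)) y₁ Ω))) := Groth.Agent.S0101.result _
  refine ⟨Ω, inferInstance, inferInstance, EtAcyc.geomPt (Spec (CommRingCat.of R)) y₁ Ω, hp, ?_, ?_⟩
  · rw [Scheme.Hom.comp_apply]
    exact Scheme.fromSpecResidueField_apply _ _
  · exact (Groth.Agent.S3516.result R ⟨inferInstance, inferInstance⟩ (pullback.snd (f ∣_ V) σ) L n
      hf'' _ hF'' hlc'' y₁ Ω).1 q hq

end Groth.Agent.S3480
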