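import Groth.Statements.S3481
import Groth.Agent.Etbc.H199.LocalKey
import Groth.Agent.Sga4h.LAcyc
-- import your own Groth.Agent.* helpers here

set_option autoImplicit false
universe u
open CategoryTheory CategoryTheory.Limits AlgebraicGeometry Opposite
open EtAcyc

namespace Groth.Agent.S3481

open Groth.Agent.Etrest.StrictLoc Groth.Agent.Sga4h.SLoc Groth.Agent.Etcore.HpullCalc
  Groth.Agent.Etbc.H199 IsLocalRing

section

variable {X Y : Scheme.{u}} [IsIntegral Y]
    (hY : Pi1.IsNormalScheme Y) [IsSepClosed (Y.residueField (genericPoint Y))]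
    (f : X ⟶ Y) (L : Set ℕ) (n : ℕ) (hf : EtAcyc.IsLocAcyclicN f L n)
    (F : EtCoh.Ab X) (hF : EtAcyc.IsLTorsion L F) (hlc : EtRest.IsLocallyConstant F)

include hY hf hF hlc in
theorem key (R : Type u) [CommRing R] [IsLocalRing R] (p : Spec (CommRingCat.of R) ⟶ X)
    (hp' : IsStrictLoc p) :
    Function.Bijective (hp (pullback.snd (pullback.fst f (Y.fromSpecResidueField (genericPoint Y))) p)
      ((EtCoh.pull p).obj F) 0) ∧
    ∀ q : ℕ, 1 ≤ q → q ≤ n →
      Subsingleton (EtCoh.H (pullback (pullback.fst f (Y.fromSpecResidueField (genericPoint Y))) p)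
        ((EtCoh.pull (pullback.snd (pullback.fst f (Y.fromSpecResidueField (genericPoint Y))) p)).obj
          ((EtCoh.pull p).obj F)) q) := by
  have hR1 := hp'.henselian
  have hR2 := hp'.sepClosed
  obtain ⟨h1, h2⟩ := Groth.Agent.S0090.result Y (fun y => (hY y).2) (f (p (closedPoint R)))
  have hσ : IsStrictLoc (stalkPt Y (f (p (closedPoint R)))) := isStrictLoc_stalkPt _ h1 h2
  obtain ⟨a, ha, ha'⟩ := Groth.Agent.Etrest.VCBaseChange.exists_map hσ (p ≫ f) (by
    have h3 : (stalkPt Y (f (p (closedPoint R)))) (closedPoint (Y.presheaf.stalk (f (p (closedPoint R))))) =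
      f (p (closedPoint R)) := Scheme.fromSpecStalk_closedPoint
    rw [h3]
    rfl)
  have hg := LocalKey.isAcyclicN_spm hf hσ hp' a ha'
  obtain ⟨t, ht, htl⟩ := GenPt.exists_factor Y (f (p (closedPoint R)))
  have hP : IsPullback (pullback.snd (pullback.fst f (Y.fromSpecResidueField (genericPoint Y))) p)
      (pullback.fst (pullback.fst f (Y.fromSpecResidueField (genericPoint Y))) p ≫
        pullback.snd f (Y.fromSpecResidueField (genericPoint Y))) (spm a) t := by
    refine Groth.Agent.Sga4h.LAcyc.isPullback_of_comp_mono (stalkPt Y (f (p (closedPoint R)))) ?_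
    rw [ha', ht]
    exact (IsPullback.of_hasPullback (pullback.fst f (Y.fromSpecResidueField (genericPoint Y))) p).flip.paste_vert
      (IsPullback.of_hasPullback f (Y.fromSpecResidueField (genericPoint Y)))
  exact LocalKey.local_key hg htl hP _ (LocalKey.isLTorsion_pull p hF)
    (Groth.Agent.Etrest.LCConst.isLocallyConstant_pull p F hlc)

end

/-- Abelian case: let Y be a normal integral scheme whose generic point y₁ has separably closed residue
field, f : X → Y a morphism locally n-acyclic for the set of primes L, X₁ = X ×_Y Spec κ(y₁) the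
generic fibre with projection g₁ : X₁ → X, and F a locally constant abelian L-torsion sheaf on the
small étale site of X. Then H^q(X, F) → H^q(X₁, g₁⁻¹F) is bijective for q ≤ n and injective for q =
n + 1. (The published text says bijective for q = n; bijectivity holds for every q ≤ n, which is
what is stated. Exactness of the inverse image along g₁ is carried as an instance hypothesis.) -/
theorem result {X Y : Scheme.{u}} [IsIntegral Y]
    (hY : Pi1.IsNormalScheme Y) [IsSepClosed (Y.residueField (genericPoint Y))]
    (f : X ⟶ Y) (L : Set ℕ) (n : ℕ) (hf : EtAcyc.IsLocAcyclicN f L n)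
    (F : EtCoh.Ab X) (hF : EtAcyc.IsLTorsion L F) (hlc : EtRest.IsLocallyConstant F)
    [PreservesFiniteLimits (EtCoh.pull (pullback.fst f (Y.fromSpecResidueField (genericPoint Y))))] :
    (∀ q : ℕ, q ≤ n →
      Function.Bijective (EtCore.Hpull (pullback.fst f (Y.fromSpecResidueField (genericPoint Y))) F q)) ∧
    Function.Injective (EtCore.Hpull (pullback.fst f (Y.fromSpecResidueField (genericPoint Y))) F (n + 1)) := by
  have hqc : QuasiCompact (Y.fromSpecResidueField (genericPoint Y)) := by
    have : Finite (Spec (Y.residueField (genericPoint Y))) := Finite.of_subsingleton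
    infer_instance
  have hu : IsIso ((EtCoh.pullPushAdj (pullback.fst f (Y.fromSpecResidueField (genericPoint Y)))).unit.app F) :=
    StrictFib.isIso_unit_of_bijective _ F fun C _ _ i hi => (key hY f L n hf F hF hlc C i hi).1
  refine Groth.Agent.Etbc.H228.CompLow.Hpull_low _ F n fun q h1 h2 => ?_
  refine StrictFib.isZero_Rpush_of_subsingleton _ _ q fun C _ _ i hi => ?_
  have h3 := (key hY f L n hf F hF hlc C i hi).2 q h1 h2
  let e1 := (EtCore.pullComp (pullback.fst (pullback.fst f (Y.fromSpecResidueField (genericPoint Y))) i)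
    (pullback.fst f (Y.fromSpecResidueField (genericPoint Y)))).symm.app F ≪≫
      (EtCore.pullCongr pullback.condition).app F ≪≫
      (EtCore.pullComp (pullback.snd (pullback.fst f (Y.fromSpecResidueField (genericPoint Y))) i) i).app F
  exact @Equiv.subsingleton _ _ ((EtCoh.HF _ q).mapIso e1).addCommGroupIsoToAddEquiv.toEquiv h3

end Groth.Agent.S3481
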