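import Groth.Statements.S3482
import Groth.Agent.Etbc.H200.PrimTors
import Groth.Agent.EtpbcA.CdRel

set_option autoImplicit false
universe u
open CategoryTheory CategoryTheory.Limits AlgebraicGeometry Opposite
open EtCd

namespace Groth.Agent.S3482

/-- One step: relative dimension plus dimension of the base. -/
theorem step (ℓ : ℕ) (hℓ : ℓ.Prime) (K L : Type u) [Field K] [Field L] [Algebra K L] (a e : ℕ)
    (ha : EtCoh.RelCohDimLE (Spec.map (CommRingCat.ofHom (algebraMap K L))) a)
    (hK : Dix.CohDimLEAt (Spec (CommRingCat.of K)) ℓ e) :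
    Dix.CohDimLEAt (Spec (CommRingCat.of L)) ℓ (a + e) :=
  Groth.Agent.Etbc.H200.PrimTors.cohDimLEAt_of_relCohDimLE ℓ hℓ _ a e ha hK

/-- cd_ℓ(L) ≤ cd_ℓ(K) + n for any field extension L/K of transcendence degree at most n. -/
theorem main (ℓ : ℕ) (hℓ : ℓ.Prime) : ∀ (n : ℕ) (K L : Type u) [Field K] [Field L] [Algebra K L] (e : ℕ)
    (_ : Dix.CohDimLEAt (Spec (CommRingCat.of K)) ℓ e) (_ : Algebra.trdeg K L ≤ n),
    Dix.CohDimLEAt (Spec (CommRingCat.of L)) ℓ (e + n) := by
  intro n
  induction n with
  | zero =>
    intro K L _ _ _ e hK htr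
    have : Algebra.IsAlgebraic K L := by
      rw [← trdeg_eq_zero_iff]
      simpa using htr
    have h := step ℓ hℓ K L 0 e (Groth.Agent.EtpbcA.CdRel.relCohDimLE_zero K L) hK
    rwa [zero_add] at h
  | succ n ih =>
    intro K L _ _ _ e hK htr
    by_cases halg : Algebra.IsAlgebraic K L
    · have h := step ℓ hℓ K L 0 e (Groth.Agent.EtpbcA.CdRel.relCohDimLE_zero K L) hK
      intro F hF q hq
      exact h F hF q (by omega)
    · have htrans : Algebra.Transcendental K L := Algebra.transcendental_iff_not_isAlgebraic.2 halg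
      obtain ⟨t, ht⟩ := htrans.transcendental
      let K₁ := FractionRing (Polynomial K)
      have hinj : Function.Injective (Polynomial.aeval t : Polynomial K →ₐ[K] L).toRingHom :=
        transcendental_iff_injective.1 ht
      let g : K₁ →+* L := IsFractionRing.lift hinj
      let _ : Algebra K₁ L := g.toAlgebra
      have : IsScalarTower K K₁ L := IsScalarTower.of_algebraMap_eq fun x => by
        change _ = g (algebraMap K K₁ x)
        rw [IsScalarTower.algebraMap_apply K (Polynomial K) K₁, IsFractionRing.lift_algebraMap]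
        change _ = Polynomial.aeval t (Polynomial.C x)
        rw [Polynomial.aeval_C]
      have h1 := step ℓ hℓ K K₁ 1 e (Groth.Agent.EtpbcA.CdRel.relCohDimLE_one K K₁) hK
      have h2 : Algebra.trdeg K₁ L ≤ n := by
        have e1 := trdeg_add_eq K K₁ (A := L)
        have e5 : Algebra.trdeg K K₁ = 1 := by
          have e6 := trdeg_add_eq K (Polynomial K) (A := K₁)
          have e7 : Algebra.trdeg (Polynomial K) K₁ = 0 :=
            trdeg_eq_zero_iff.2 (IsLocalization.isAlgebraic _ (nonZeroDivisors (Polynomial K)))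
          rw [← e6, e7, add_zero, Polynomial.trdeg_of_isDomain]
        rw [e5] at e1
        rw [← e1, Nat.cast_succ, add_comm 1 (Algebra.trdeg K₁ L)] at htr
        exact (Cardinal.add_le_add_iff_of_lt_aleph0 Cardinal.one_lt_aleph0).1 htr
      have h3 := ih K₁ L (1 + e) h1 h2
      intro F hF q hq
      exact h3 F hF q (by omega)

/-- Let k'/k be a finitely generated field extension of transcendence degree t and ℓ a prime. Then
cd_ℓ(k') ≤ cd_ℓ(k) + t: if the etale cohomology of every ℓ-primary torsion sheaf on Spec k vanishes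
above degree d, the same holds on Spec k' above degree d + t. -/
theorem result (k k' : Type u) [Field k] [Field k'] [Algebra k k']
    (hfg : ∃ s : Finset k', IntermediateField.adjoin k (s : Set k') = ⊤) (ℓ : ℕ) (hℓ : ℓ.Prime)
    (t : ℕ) (ht : Algebra.trdeg k k' = t) (d : ℕ) (hd : Dix.CohDimLEAt (Spec (CommRingCat.of k)) ℓ d) :
    Dix.CohDimLEAt (Spec (CommRingCat.of k')) ℓ (d + t) :=
  main ℓ hℓ t k k' d hd ht.le

end Groth.Agent.S3482
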