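import Groth.Statements.S3493
import Groth.Agent.Etbc.H211.PrimLeray
import Groth.Agent.EtpbcA.CdRelFin
-- import your own Groth.Agent.* helpers here

set_option autoImplicit false
universe u
open CategoryTheory CategoryTheory.Limits AlgebraicGeometry Opposite
open EtCd

namespace Groth.Agent.S3493

/-- Let X be a scheme of finite type over a field k, of dimension at most n, and ℓ a prime nonzero in k.
Then cd_ℓ(X) ≤ 2n + cd_ℓ(k): if the cohomology of ℓ-primary torsion sheaves on Spec k vanishes above
degree e, then that of ℓ-primary torsion abelian sheaves on X vanishes above degree 2n + e. -/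
theorem result (k : Type u) [Field k] (X : Scheme.{u}) (f : X ⟶ Spec (CommRingCat.of k))
    [LocallyOfFiniteType f] [QuasiCompact f] (n : ℕ) (hn : topologicalKrullDim X ≤ n)
    (ℓ : ℕ) (hℓ : ℓ.Prime) (hℓk : (ℓ : k) ≠ 0) (e : ℕ) (he : Dix.CohDimLEAt (Spec (CommRingCat.of k)) ℓ e) :
    Dix.CohDimLEAt X ℓ (2 * n + e) := by
  have hqs : QuasiSeparated f := Groth.Agent.EtpbcA.CdFinDim.quasiSeparated_of_field f f
  have h1 : LocallyOfFiniteType (f ≫ 𝟙 _) := by rw [Category.comp_id]; infer_instance
  have h2 : QuasiCompact (f ≫ 𝟙 _) := by rw [Category.comp_id]; infer_instance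
  exact Groth.Agent.Etbc.H211.PrimLeray.cohDimLEAt_of_relCohDimLE f hℓ.pos (2 * n) e
    (Groth.Agent.EtpbcA.CdRelFin.relCohDimLE_of_field (𝟙 _) f n hn) he

end Groth.Agent.S3493
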