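import Groth.Statements.S3495
-- import your own Groth.Agent.* helpers here
import Groth.Agent.Etbc.H213.CdpSep
import Groth.Agent.Ega3B.ProjProper

set_option autoImplicit false
universe u
open CategoryTheory CategoryTheory.Limits AlgebraicGeometry Opposite
open EtCd

namespace Groth.Agent.S3495

/-- Let k be a separably closed field of characteristic p > 0 and X a quasi-projective scheme over k (X
admits a k-immersion into a projective space over k) of dimension at most n. Then cd_p(X) ≤ n: the
etale cohomology of every p-primary torsion abelian sheaf on X vanishes above degree n. -/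
theorem result (k : Type u) [Field k] [IsSepClosed k] (p : ℕ) [Fact p.Prime] [CharP k p]
    (X : Scheme.{u}) (f : X ⟶ Spec (CommRingCat.of k)) [LocallyOfFiniteType f]
    (hqp : ∃ (N : ℕ) (i : X ⟶ CohB1.ProjSpaceOver N (Spec (CommRingCat.of k))),
      IsImmersion i ∧ i ≫ CohB1.ProjSpaceOver.toBase N (Spec (CommRingCat.of k)) = f)
    (n : ℕ) (hn : topologicalKrullDim X ≤ n) :
    Dix.CohDimLEAt X p n := by
  obtain ⟨N, i, hi, hf⟩ := hqp
  have hproper : IsProper (CohB1.ProjSpaceOver.toBase N (Spec (CommRingCat.of k))) :=
    Ega3B.ProjProper.isProper_toBase N _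
  have hsep : IsSeparated f := by
    rw [← hf]; infer_instance
  have hl : IsLocallyNoetherian (CohB1.ProjSpaceOver N (Spec (CommRingCat.of k))) :=
    LocallyOfFiniteType.isLocallyNoetherian (CohB1.ProjSpaceOver.toBase N (Spec (CommRingCat.of k)))
  have hc : CompactSpace (CohB1.ProjSpaceOver N (Spec (CommRingCat.of k))) :=
    QuasiCompact.compactSpace_of_compactSpace (CohB1.ProjSpaceOver.toBase N (Spec (CommRingCat.of k)))
  have hN : IsNoetherian (CohB1.ProjSpaceOver N (Spec (CommRingCat.of k))) := { }
  have hs : TopologicalSpace.NoetherianSpace (CohB1.ProjSpaceOver N (Spec (CommRingCat.of k))) :=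
    inferInstance
  have hsX : TopologicalSpace.NoetherianSpace X := i.isEmbedding.isInducing.noetherianSpace
  have hcX : CompactSpace X := inferInstance
  have hqc : QuasiCompact f := (quasiCompact_iff_compactSpace f).2 hcX
  exact Etbc.H213.CdpSep.cohDimLEAt_dim k p X f n hn

end Groth.Agent.S3495
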