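import Groth.Statements.S3498
-- import your own Groth.Agent.* helpers here
import Groth.Agent.Etbc.H216.AffOpen

set_option autoImplicit false
universe u
open CategoryTheory CategoryTheory.Limits AlgebraicGeometry Opposite
open EtCd

namespace Groth.Agent.S3498

/-- Let Y be a scheme locally of finite type over a field k, y a point of Y, R a strict henselization of
the local ring of Y at y with dim R ≤ d, and U an affine open subscheme of Spec R. Then cd(U) ≤ d:
the etale cohomology of every torsion abelian sheaf on U vanishes above degree d. -/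
theorem result (k : Type u) [Field k] (Y : Scheme.{u})
    (g : Y ⟶ Spec (CommRingCat.of k)) [LocallyOfFiniteType g] (y : Y)
    (R : Type u) [CommRing R] [IsLocalRing R] [Algebra (Y.presheaf.stalk y) R]
    [IsLocalHom (algebraMap (Y.presheaf.stalk y) R)] [Hensel.IsStrictHenselization (Y.presheaf.stalk y) R]
    (d : ℕ) (hd : ringKrullDim R ≤ d) (U : (Spec (CommRingCat.of R)).Opens) (hU : IsAffineOpen U) :
    EtCoh.CohDimLE (U : Scheme.{u}) d := by
  intro F hF q hq
  have hd' : ringKrullDim (Y.presheaf.stalk y) ≤ d := by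
    rw [← Groth.Agent.S0541.result (Y.presheaf.stalk y) R]
    exact hd
  obtain ⟨e, he, W, hyW, hW⟩ := Groth.Agent.Etbc.H216.AffOpen.exists_nhd_resTrdegLE k Y g y d hd'
  have hp : Groth.Agent.Etrest.StrictLoc.IsStrictLoc (Hens2.specOf Y y R) :=
    Groth.Agent.Etrest.StrictLoc.isStrictLoc_specOf Y y R
  have hcl : Hens2.specOf Y y R (IsLocalRing.closedPoint R) = y :=
    Groth.Agent.EtpbcB.PBCVan.specOf_closedPoint y R
  have hr : Set.range (Hens2.specOf Y y R) ⊆ Set.range W.ι := by
    rintro _ ⟨z, rfl⟩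
    have h1 : z ⤳ IsLocalRing.closedPoint R := IsLocalRing.specializes_closedPoint (R := R) z
    have h2 : Hens2.specOf Y y R z ∈ W := by
      have h3 := h1.map (Hens2.specOf Y y R).continuous
      rw [hcl] at h3
      exact h3.mem_open W.isOpen hyW
    rw [Scheme.Opens.range_ι]
    exact h2
  let p : Spec (CommRingCat.of R) ⟶ W := IsOpenImmersion.lift W.ι (Hens2.specOf Y y R) hr
  have hpW : p ≫ W.ι = Hens2.specOf Y y R := IsOpenImmersion.lift_fac _ _ _
  have hp' : Groth.Agent.Etrest.StrictLoc.IsStrictLoc p :=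
    Groth.Agent.Etbc.H216.StrictLocEt.isStrictLoc_of_etale W.ι p (by rw [hpW]; exact hp)
  refine Groth.Agent.Etbc.H216.AffOpen.subsingleton_H_affineOpen k (W.ι ≫ g) hp' (d + e) e q
    (by omega) ?_ hW U hU F hF
  intro b hb
  have h1 := (Groth.Agent.EtpbcA.Artin.resTrdegLE_comp_iff g W.ι (p (IsLocalRing.closedPoint R))
    (Groth.Agent.EtpbcA.Artin.algAt_of_surjectiveOnStalks _ _) b).1 hb
  have h2 : W.ι (p (IsLocalRing.closedPoint R)) = y := by
    have h3 : W.ι (p (IsLocalRing.closedPoint R)) = (p ≫ W.ι) (IsLocalRing.closedPoint R) := rfl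
    rw [h3, hpW, hcl]
  rw [h2] at h1
  exact (he b).1 h1

end Groth.Agent.S3498
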