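import Groth.Statements.S3505
import Groth.Agent.Etbc.H223.SepFin

set_option autoImplicit false
universe u
open CategoryTheory CategoryTheory.Limits AlgebraicGeometry Opposite
open EtCd

namespace Groth.Agent.S3505

/-- Let k be a separably closed field, X a smooth scheme of finite type over k, and F a finite locally
constant abelian sheaf on the small etale site of X whose sections are etale-locally killed by
integers invertible in k. Then H^q(X, F) is a finite group for every q. -/
theorem result (k : Type u) [Field k] [IsSepClosed k] (X : Scheme.{u})
    (a : X ⟶ Spec (CommRingCat.of k)) [Smooth a] [LocallyOfFiniteType a] [QuasiCompact a]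
    (F : EtCoh.Ab X) (hF : EtCoh.IsFiniteLocallyConstant F)
    (hord : EtPBC.IsTorsionInvertibleOn (Spec (CommRingCat.of k)) F) (q : ℕ) :
    Finite (EtCoh.H X F q) :=
  Groth.Agent.Etbc.H223.SepFin.finite_H k X a F
    (Groth.Agent.EtpbcA.ConsExact.isConstructible_of_flc hF) hord q

end Groth.Agent.S3505
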