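import Groth.Statements.S3507
import Groth.Agent.Etbc.H225.GeomFibre
import Groth.Agent.Etbc.H225.ConnOfH0

set_option autoImplicit false
universe u
open CategoryTheory CategoryTheory.Limits AlgebraicGeometry Opposite
open EtAcyc

namespace Groth.Agent.S3507

/-- Let A be a henselian local ring with residue characteristic p, let P be the ideal of A[t] generated
by the maximal ideal of A and t, and let B = A{t} be a henselization of the local ring A[t]_P. Then
every geometric fibre of Spec A{t} → Spec A (at any separably closed field over a residue field of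
Spec A) is an n-acyclic scheme for every n and for the set L of primes different from p: it is
nonempty, connected, and H^q(-, Z/ℓ) = 0 for all ℓ ∈ L and q ≥ 1. -/
theorem result (A : Type u) [CommRing A] [HenselianLocalRing A]
    (P : Ideal (Polynomial A)) (hP : P = (IsLocalRing.maximalIdeal A).map Polynomial.C ⊔ Ideal.span {Polynomial.X})
    [P.IsPrime] (B : Type u) [CommRing B] [IsLocalRing B] [Algebra (Localization.AtPrime P) B]
    [IsLocalHom (algebraMap (Localization.AtPrime P) B)] [Hensel.IsHenselization (Localization.AtPrime P) B]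
    (φ : A →+* B) (hφ : φ = (algebraMap (Localization.AtPrime P) B).comp
      ((algebraMap (Polynomial A) (Localization.AtPrime P)).comp Polynomial.C)) (n : ℕ)
    (y : Spec (CommRingCat.of A)) (Ω : Type u) [Field Ω] [IsSepClosed Ω]
    [Algebra ((Spec (CommRingCat.of A)).residueField y) Ω] :
    EtAcyc.IsAcyclicSchemeN {ℓ | ℓ.Prime ∧ (ℓ : IsLocalRing.ResidueField A) ≠ 0} n
      (pullback (Spec.map (CommRingCat.ofHom φ)) (EtAcyc.geomPt (Spec (CommRingCat.of A)) y Ω)) := by
  have key := fun (ℓ : ℕ) (hℓ : (ℓ : IsLocalRing.ResidueField A) ≠ 0) (q : ℕ) =>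
    Groth.Agent.Etbc.H225.GeomFibre.main A P hP B φ hφ Ω
      (EtAcyc.geomPt (Spec (CommRingCat.of A)) y Ω) ℓ hℓ q
  -- one of the primes `2`, `3` is invertible
  obtain ⟨ℓ, hℓp, hℓ⟩ : ∃ ℓ : ℕ, ℓ.Prime ∧ (ℓ : IsLocalRing.ResidueField A) ≠ 0 := by
    by_cases h2 : ((2 : ℕ) : IsLocalRing.ResidueField A) = 0
    · refine ⟨3, Nat.prime_three, fun h3 => one_ne_zero (α := IsLocalRing.ResidueField A) ?_⟩
      have h4 : (1 : IsLocalRing.ResidueField A) = ((3 : ℕ) : IsLocalRing.ResidueField A) -
          ((2 : ℕ) : IsLocalRing.ResidueField A) := by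
        push_cast
        ring
      rw [h4, h2, h3, sub_zero]
    · exact ⟨2, Nat.prime_two, h2⟩
  have hfact : Fact ℓ.Prime := ⟨hℓp⟩
  obtain ⟨h1, h2⟩ := Groth.Agent.Etbc.H225.ConnOfH0.connectedSpace_of_H0 _ (ZMod ℓ)
    (key ℓ hℓ 0).2
  refine ⟨h1, h2, fun ℓ' _ hℓ' q hq _ => (key ℓ' hℓ'.2 q).1 hq⟩

end Groth.Agent.S3507
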