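import Groth.Statements.S3512
import Groth.Agent.Etbc.H230.Test
import Groth.Agent.S3473
-- import your own Groth.Agent.* helpers here

set_option autoImplicit false
universe u
open CategoryTheory CategoryTheory.Limits AlgebraicGeometry Opposite
open EtAcyc

namespace Groth.Agent.S3512

/-- Let g : X → Y be quasi-compact and quasi-separated and I any fixed set with at least two elements.
Then g is 0-acyclic (for every etale V → Y and every sheaf of sets F on V the unit F → g'_* g'^* F
is bijective, g' : X ×_Y V → V the projection) if and only if for every morphism i : Y' → Y that is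
locally quasi-finite and locally of finite type the pullback map on global sections Γ(Y', I) → Γ(X
×_Y Y', I) of the constant sheaf with value I is bijective; and g is (-1)-acyclic (the units are
monomorphisms) if and only if these maps are injective. (The published statement of this criterion
takes Y' etale over Y; it is stated here for Y' locally quasi-finite and locally of finite type over
Y, the class of base changes its published proof works with.) -/
theorem result {X Y : Scheme.{u}} (g : X ⟶ Y) [QuasiCompact g] [QuasiSeparated g]
    (I : Type u) [Nontrivial I] :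
    (EtAcyc.IsZeroAcyclic g ↔
      ∀ (Y' : Scheme.{u}) (i : Y' ⟶ Y) [LocallyQuasiFinite i] [LocallyOfFiniteType i],
        Function.Bijective (EtDesc.secPull (pullback.snd g i)
          ((constantSheaf Y'.smallEtaleTopology (Type (u + 1))).obj (ULift.{u + 1} I)))) ∧
    (EtAcyc.IsMinusOneAcyclic g ↔
      ∀ (Y' : Scheme.{u}) (i : Y' ⟶ Y) [LocallyQuasiFinite i] [LocallyOfFiniteType i],
        Function.Injective (EtDesc.secPull (pullback.snd g i)
          ((constantSheaf Y'.smallEtaleTopology (Type (u + 1))).obj (ULift.{u + 1} I)))) := by
  have hsurj : (∀ (Y' : Scheme.{u}) (i : Y' ⟶ Y) [LocallyQuasiFinite i] [LocallyOfFiniteType i],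
        Function.Injective (EtDesc.secPull (pullback.snd g i)
          ((constantSheaf Y'.smallEtaleTopology (Type (u + 1))).obj (ULift.{u + 1} I)))) →
      Surjective g := by
    intro H
    refine Groth.Agent.Etbc.H230.Test.surjective_of_comap_injective g I (fun Y' i _ => ?_)
    exact (Groth.Agent.Etbc.H230.ConstSets.secPull_injective_iff (pullback.snd g i)).1 (H Y' i)
  refine ⟨⟨fun hg Y' i _ _ => ?_, fun H => ?_⟩, ⟨fun hg Y' i _ _ => ?_, fun H => ?_⟩⟩
  · have : Surjective g := ⟨(Groth.Agent.S3473.result g).2 (fun V F => by
      have := hg V F
      infer_instance)⟩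
    exact (Groth.Agent.Etbc.H230.ConstSets.secPull_bijective_iff (pullback.snd g i)).2
      (Groth.Agent.Etbc.H230.Forth.comap_bijective_of_isZeroAcyclic g hg I i)
  · have : Surjective g := hsurj (fun Y' i _ _ => (H Y' i).1)
    refine Groth.Agent.Etbc.H230.Back.isZeroAcyclic_of_conn g
      (Groth.Agent.Etbc.H230.Test.conn_of_comap_surjective g I (fun Y' i _ _ => ?_))
    exact ((Groth.Agent.Etbc.H230.ConstSets.secPull_bijective_iff (pullback.snd g i)).1 (H Y' i)).2
  · have : Surjective g := ⟨(Groth.Agent.S3473.result g).2 hg⟩
    refine (Groth.Agent.Etbc.H230.ConstSets.secPull_injective_iff (pullback.snd g i)).2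
      (fun a b hab => ?_)
    ext y
    obtain ⟨x, rfl⟩ := (pullback.snd g i).surjective y
    exact congrArg (fun (c : LocallyConstant ↥(pullback g i) I) => c x) hab
  · exact (Groth.Agent.S3473.result g).1 (hsurj H).surj

end Groth.Agent.S3512
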