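import Groth.Statements.S3514
import Groth.Agent.Etbc.H232.AcycComp
import Groth.Agent.Etbc.H232.SHFactor

set_option autoImplicit false
universe u
open CategoryTheory CategoryTheory.Limits AlgebraicGeometry Opposite
open EtAcyc

namespace Groth.Agent.S3514

/-- Let g : X → Y and h : Y → Z be morphisms of schemes with g surjective, L a set of primes and n a
natural number. If g is locally n-acyclic for L, then h is locally n-acyclic for L if and only if g
≫ h is; if g is locally 0-acyclic, then h is locally 0-acyclic if and only if g ≫ h is. -/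
theorem result {X Y Z : Scheme.{u}} (g : X ⟶ Y) (h : Y ⟶ Z)
    (hg : Function.Surjective g.base) (L : Set ℕ) (n : ℕ) :
    (EtAcyc.IsLocAcyclicN g L n → (EtAcyc.IsLocAcyclicN h L n ↔ EtAcyc.IsLocAcyclicN (g ≫ h) L n)) ∧
      (EtAcyc.IsLocZeroAcyclic g → (EtAcyc.IsLocZeroAcyclic h ↔ EtAcyc.IsLocZeroAcyclic (g ≫ h))) := by
  refine ⟨fun h1 => ⟨fun h2 => ?_, fun h2 => ?_⟩, fun h1 => ⟨fun h2 => ?_, fun h2 => ?_⟩⟩
  · exact Etbc.H232.SHFactor.onStrictLocalizations_comp g h _ _ _
      (fun _ _ _ a b ha hb => (Etbc.H232.AcycComp.isAcyclicN_comp_iff a b ha).1 hb) h1 h2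
  · exact Etbc.H232.SHFactor.onStrictLocalizations_of_comp g h _ _ _ hg
      (fun _ _ _ a b ha hb => (Etbc.H232.AcycComp.isAcyclicN_comp_iff a b ha).2 hb) h1 h2
  · exact Etbc.H232.SHFactor.onStrictLocalizations_comp g h _ _ _
      (fun _ _ _ a b ha hb => (Etbc.H232.AcycComp.isZeroAcyclic_comp_iff a b ha).1 hb) h1 h2
  · exact Etbc.H232.SHFactor.onStrictLocalizations_of_comp g h _ _ _ hg
      (fun _ _ _ a b ha hb => (Etbc.H232.AcycComp.isZeroAcyclic_comp_iff a b ha).2 hb) h1 h2

end Groth.Agent.S3514
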