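import Groth.Statements.S3515
import Groth.Agent.Etbc.H233.Forward
import Groth.Agent.Etbc.H233.Backward
import Groth.Agent.Etbc.H185.BcRangeEt

set_option autoImplicit false
universe u
open CategoryTheory CategoryTheory.Limits AlgebraicGeometry Opposite
attribute [local instance] HasDerivedCategory.standard
open EtAcyc

namespace Groth.Agent.S3515

/-- Let g : X → Y be a morphism of schemes, L a set of primes, n a natural number. Then g is locally
n-acyclic for L (every induced morphism of strict localizations is n-acyclic for L) if and only if: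
for every locally quasi-finite i : Y' → Y (locally of finite type with discrete fibres) with base
change g' : X' = X ×_Y Y' → Y', every quasi-compact open immersion i' : Y'' → Y' with base change j'
: X'' = X' ×_{Y'} Y'' → X' and g'' : X'' → Y'', and every abelian L-torsion sheaf F on Y'', the base
change maps g'⁻¹ R^q i'_* F → R^q j'_* g''⁻¹ F (cohomology sheaves of the derived base change
morphism) are isomorphisms for q ≤ n and a monomorphism for q = n + 1. -/
theorem result {X Y : Scheme.{u}} (g : X ⟶ Y) (L : Set ℕ) (n : ℕ) :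
    EtAcyc.IsLocAcyclicN g L n ↔
      ∀ (Y' : Scheme.{u}) (i : Y' ⟶ Y) [LocallyQuasiFinite i] [LocallyOfFiniteType i]
        (Y'' : Scheme.{u}) (i' : Y'' ⟶ Y') [IsOpenImmersion i'] [QuasiCompact i']
        [PreservesFiniteLimits (EtCoh.pull (pullback.snd g i))]
        [PreservesFiniteLimits (EtCoh.pull (pullback.snd (pullback.snd g i) i'))]
        [DCoh.HasRpushEt Y'' i'] [DCoh.HasRpushEt (pullback (pullback.snd g i) i') (pullback.fst (pullback.snd g i) i')]
        [DCoh.HasRpushEt (pullback g i) (pullback.snd g i)]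
        (adj : EtBC.pullD (pullback.snd g i) ⊣ DCoh.RpushEt (pullback g i) (pullback.snd g i))
        (F : EtCoh.Ab Y''), EtAcyc.IsLTorsion L F →
        (∀ q : ℤ, q ≤ n → IsIso ((DerivedCategory.homologyFunctor (EtCoh.Ab (pullback g i)) q).map
          (EtBC.bcMap i' (pullback.snd g i) (pullback.fst (pullback.snd g i) i') (pullback.snd (pullback.snd g i) i')
            pullback.condition.symm adj (EtBC.single Y'' F)))) ∧
        Mono ((DerivedCategory.homologyFunctor (EtCoh.Ab (pullback g i)) ((n : ℤ) + 1)).map
          (EtBC.bcMap i' (pullback.snd g i) (pullback.fst (pullback.snd g i) i') (pullback.snd (pullback.snd g i) i')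
            pullback.condition.symm adj (EtBC.single Y'' F))) := by
  constructor
  · intro hg Y' i _ _ Y'' i' _ _ _ _ _ _ _ adj F hF
    have h := Groth.Agent.Etbc.H233.Forward.openBC_of_isLocAcyclicN hg Y' i Y'' i'
    exact Groth.Agent.Etbc.H185.BcRangeEt.bcMap_range i' (pullback.snd g i)
      (pullback.fst (pullback.snd g i) i') (pullback.snd (pullback.snd g i) i')
      pullback.condition.symm (Groth.Agent.Etbc.H233.Shift.isOrd_primesIn L) n
      (fun J hJ => (h J hJ).1) (fun J hJ => (h J hJ).2) adj F hF
  · intro H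
    apply Groth.Agent.Etbc.H233.Backward.isLocAcyclicN_of_openBC
    intro T i _ _ V j _ _ J hJ
    have e1 := Groth.Agent.S0101.result (pullback.snd g i)
    have e2 := Groth.Agent.S0101.result (pullback.snd (pullback.snd g i) j)
    have d1 : DCoh.HasRpushEt V j :=
      Groth.Agent.Etrest.DEtPush.hasRpushEt _
    have d2 : DCoh.HasRpushEt (pullback (pullback.snd g i) j) (pullback.fst (pullback.snd g i) j) :=
      Groth.Agent.Etrest.DEtPush.hasRpushEt _
    have d3 : DCoh.HasRpushEt (pullback g i) (pullback.snd g i) :=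
      Groth.Agent.Etrest.DEtPush.hasRpushEt _
    let adj : EtBC.pullD (pullback.snd g i) ⊣ DCoh.RpushEt (pullback g i) (pullback.snd g i) :=
      (Groth.Agent.Etrest.DEtPush.dPullPush (pullback.snd g i)).ofNatIsoRight
        (Groth.Agent.Etrest.DEtPush.rpushIso (pullback.snd g i)).symm
    have hN := Groth.Agent.Etbc.H233.Shift.isOrd_primesIn L
    have hT : Groth.Agent.Etbc.H185.LTors.IsTorInj (Groth.Agent.Etbc.H233.Shift.Ord L)
        (Groth.Agent.EtpbcB.TorsSubN.torsN (Groth.Agent.Etbc.H233.Shift.Ord L) J) :=
      ⟨J, hJ, ⟨Iso.refl _⟩⟩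
    have hM := hT.isAcyc hN j
    have h := (H T i V j adj _ (hT.torsionN hN)).1
    refine ⟨?_, fun q hq1 hq2 => ?_⟩
    · exact Groth.Agent.Etbc.H185.BcRangeEt.isIso_baseChange0_of_bcMap _ _ _ _ _ adj _ hM
        (h 0 (by positivity))
    · exact Groth.Agent.Etbc.H185.BcRangeEt.isZero_Rpush_of_bcMap _ _ _ _ _ adj _ hM q hq1
        (h q (by exact_mod_cast hq2))

end Groth.Agent.S3515
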