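import Groth.Statements.S3518
import Groth.Agent.Etbc.H236.QFMain
import Groth.Agent.Etbc.H236.NumberField

set_option autoImplicit false
universe u
open CategoryTheory CategoryTheory.Limits AlgebraicGeometry Opposite
open EtCd

namespace Groth.Agent.S3518

/-- Let X be a scheme quasi-finite over Spec Z (of finite type with discrete fibres) and ℓ a prime;
assume ℓ ≠ 2 or that every residue field of X of characteristic zero is totally imaginary (admits no
ordering). Then cd_ℓ(X) ≤ 3: the etale cohomology of every ℓ-primary torsion abelian sheaf on X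
vanishes above degree 3. -/
theorem result (X : Scheme.{u}) (f : X ⟶ Spec (CommRingCat.of (ULift.{u} ℤ)))
    [LocallyQuasiFinite f] [LocallyOfFiniteType f] [QuasiCompact f] (ℓ : ℕ) (hℓ : ℓ.Prime)
    (hord : ℓ ≠ 2 ∨ ∀ x : X, ringChar (X.residueField x) = 0 →
      ¬ ∃ _ : LinearOrder (X.residueField x), IsStrictOrderedRing (X.residueField x)) :
    Dix.CohDimLEAt X ℓ 3 := by
  refine Groth.Agent.Etbc.H236.QFMain.main f ℓ hℓ (fun K _ _ _ h => ?_) hord
  exact Groth.Agent.Etbc.H227.CdIso.cohDimLEAt_mono (by norm_num)
    (Groth.Agent.Etbc.H236.NumberField.cd_numberField K ℓ hℓ h)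

end Groth.Agent.S3518
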