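import Groth.Statements.S3529
import Groth.Agent.Htor.H247.KunnethFlat
import Groth.Agent.Htor.H249.RGammaDict
import Groth.Agent.Htor.H251.TildeDict

set_option autoImplicit false
universe u
attribute [local instance] HasDerivedCategory.standard
open HTor

namespace Groth.Agent.S3529

open CategoryTheory CategoryTheory.Limits AlgebraicGeometry in
/-- Let A be a ring, X₁, X₂ quasi-compact separated schemes over Spec A and P₁, P₂ complexes of
quasi-coherent modules on them vanishing in large degrees, every term of P₁ being flat over Spec A.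
If L₁, L₂ are complexes of projective A-modules vanishing in large degrees that compute RΓ(X₁, P₁)
and RΓ(X₂, P₂) in D(A), then L₁ ⊗_A L₂ computes RΓ(X₁ ×_A X₂, pr₁^*P₁ ⊗ pr₂^*P₂): the global
hypertor of P₁ and P₂ over Spec A is the hypercohomology of their external tensor product. (The
published statement, over a general base and pair of base schemes, gives a canonical isomorphism;
here the base is affine and equal to both, and only the existence of an isomorphism in D(A) is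
asserted.) -/
theorem result (A : Type u) [CommRing A] (X₁ X₂ : Scheme.{u})
    (f₁ : X₁ ⟶ Spec (CommRingCat.of A)) (f₂ : X₂ ⟶ Spec (CommRingCat.of A))
    [QuasiCompact f₁] [IsSeparated f₁] [QuasiCompact f₂] [IsSeparated f₂]
    [HTor.HasRΓA f₁] [HTor.HasRΓA f₂] [HTor.HasRΓA (pullback.fst f₁ f₂ ≫ f₁)]
    (P₁ : CochainComplex X₁.Modules ℤ) (P₂ : CochainComplex X₂.Modules ℤ)
    (hq₁ : ∀ i : ℤ, Coh.IsQCoh (P₁.X i)) (hq₂ : ∀ i : ℤ, Coh.IsQCoh (P₂.X i))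
    (b₁ : ∃ b : ℤ, ∀ i : ℤ, b < i → IsZero (P₁.X i)) (b₂ : ∃ b : ℤ, ∀ i : ℤ, b < i → IsZero (P₂.X i))
    (hfl : ∀ i : ℤ, FlatMod.IsFlatOver f₁ (P₁.X i))
    (L₁ L₂ : DRing.Cx A) (hL₁ : ∀ i : ℤ, Projective (L₁.X i)) (hL₂ : ∀ i : ℤ, Projective (L₂.X i))
    (c₁ : ∃ c : ℤ, DRing.VanishesAbove L₁ c) (c₂ : ∃ c : ℤ, DRing.VanishesAbove L₂ c)
    (e₁ : HTor.Computes f₁ L₁ (DCoh.toD X₁ P₁)) (e₂ : HTor.Computes f₂ L₂ (DCoh.toD X₂ P₂)) :
    HTor.Computes (pullback.fst f₁ f₂ ≫ f₁) (HTor.tensorCx L₁ L₂)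
      (DCoh.toD (pullback f₁ f₂) (HTor.extTensorCx f₁ f₂ P₁ P₂)) := by
  have h1 := Groth.Agent.Dcoh.DerSch.hasRpush f₁
  have h2 := Groth.Agent.Dcoh.DerSch.hasRpush f₂
  have h3 := Groth.Agent.Dcoh.DerSch.hasRpush (pullback.fst f₁ f₂ ≫ f₁)
  obtain ⟨a₁⟩ := (Groth.Agent.Htor.H249.RGammaDict.computes_iff f₁ _
    (Groth.Agent.PerfA.QCohD.isQCohD_Q_of_terms _ hq₁) L₁).1 e₁
  obtain ⟨a₂⟩ := (Groth.Agent.Htor.H249.RGammaDict.computes_iff f₂ _
    (Groth.Agent.PerfA.QCohD.isQCohD_Q_of_terms _ hq₂) L₂).1 e₂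
  refine (Groth.Agent.Htor.H249.RGammaDict.computes_iff _ _ (Groth.Agent.Htor.H247.KunnethFlat.isQCohD_ext
    (IsPullback.of_hasPullback f₁ f₂) P₁ P₂ hq₁ hq₂ b₁ hfl) _).2 ?_
  obtain ⟨e⟩ := Groth.Agent.Htor.H247.KunnethFlat.nonempty_iso (IsPullback.of_hasPullback f₁ f₂) P₁ P₂ hq₁ hq₂
    b₁ hfl
  exact ⟨DerivedCategory.Q.mapIso (Groth.Agent.Htor.H251.TildeDict.tildeTensorIso L₁ L₂) ≪≫
    (Groth.Agent.PerfC.DTens.κIso _ _ (Groth.Agent.Htor.H251.TildeDict.isKFlat_tilde L₁ hL₁ c₁)).symm ≪≫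
    ((Groth.Agent.PerfC.DTens.LTX _).mapIso a₁).app _ ≪≫
    ((Groth.Agent.PerfC.DTens.LTX _).obj _).mapIso a₂ ≪≫ e.symm⟩

end Groth.Agent.S3529
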