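import Groth.Statements.S3530
import Groth.Agent.Htor.H248.Assembly
import Groth.Agent.Htor.H249.RGammaDict
import Groth.Agent.Htor.H254.FlatBC
import Groth.Agent.VarietyB.PullSec
import Groth.Agent.PerfA.QCohD

set_option autoImplicit false
universe u
attribute [local instance] HasDerivedCategory.standard
open HTor

namespace Groth.Agent.S3530

open CategoryTheory CategoryTheory.Limits AlgebraicGeometry in
/-- Cohomology and base change for a complex flat over an affine base, in derived form. Let X be
quasi-compact and separated over Spec A, P a complex of quasi-coherent O_X-modules vanishing in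
large degrees with every term flat over Spec A, and A → A′ any ring map; put X′ = X ×_A A′ and let
P′ be the pulled-back complex on X′. If a complex L of projective A-modules vanishing in large
degrees computes RΓ(X, P) in D(A), then L ⊗_A A′ computes RΓ(X′, P′) in D(A′). No flatness of A′
over A is assumed. The published statement gives a canonical isomorphism; here only the existence of
an isomorphism in D(A′) is asserted. -/
theorem result (A A' : Type u) [CommRing A] [CommRing A'] (φ : A →+* A')
    (X : Scheme.{u}) (f : X ⟶ Spec (CommRingCat.of A)) [QuasiCompact f] [IsSeparated f] [HTor.HasRΓA f]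
    [HTor.HasRΓA (pullback.snd f (Spec.map (CommRingCat.ofHom φ)))]
    (P : CochainComplex X.Modules ℤ) (hq : ∀ i : ℤ, Coh.IsQCoh (P.X i))
    (bP : ∃ b : ℤ, ∀ i : ℤ, b < i → IsZero (P.X i)) (hfl : ∀ i : ℤ, FlatMod.IsFlatOver f (P.X i))
    (L : DRing.Cx A) (hL : ∀ i : ℤ, Projective (L.X i)) (c : ∃ c : ℤ, DRing.VanishesAbove L c)
    (e : HTor.Computes f L (DCoh.toD X P)) :
    HTor.Computes (pullback.snd f (Spec.map (CommRingCat.ofHom φ))) (CohIII.bcCx φ L)
      (DCoh.toD _ ((HTor.pullCx (pullback.fst f (Spec.map (CommRingCat.ofHom φ)))).obj P)) := by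
  have h1 : DCoh.HasRpush f := Groth.Agent.Dcoh.DerSch.hasRpush f
  have h2 : DCoh.HasRpush (pullback.snd f (Spec.map (CommRingCat.ofHom φ))) :=
    Groth.Agent.Dcoh.DerSch.hasRpush _
  have h3 : DCoh.HasLpull (Spec.map (CommRingCat.ofHom φ)) := Groth.Agent.Dcoh.DerPull.hasLpull _
  have hP : DCoh.IsQCohD (DCoh.toD X P) := Groth.Agent.PerfA.QCohD.isQCohD_Q_of_terms P hq
  have hP' : DCoh.IsQCohD (DCoh.toD _
      ((HTor.pullCx (pullback.fst f (Spec.map (CommRingCat.ofHom φ)))).obj P)) :=
    Groth.Agent.PerfA.QCohD.isQCohD_Q_of_terms _ fun i =>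
      Groth.Agent.VarietyB.PullSec.isQCoh_pullback _ _ (hq i)
  obtain ⟨c, hc⟩ := c
  obtain ⟨b, hb⟩ := bP
  have hbc : Nonempty ((DCoh.Lpull (Spec.map (CommRingCat.ofHom φ))).obj
        ((DCoh.Rpush f).obj (DCoh.toD X P)) ≅
      (DCoh.Rpush (pullback.snd f (Spec.map (CommRingCat.ofHom φ)))).obj
        (DCoh.toD _ ((HTor.pullCx (pullback.fst f (Spec.map (CommRingCat.ofHom φ)))).obj P))) := by
    exact Groth.Agent.Htor.H254.FlatBC.nonempty_iso
      (IsPullback.of_hasPullback f (Spec.map (CommRingCat.ofHom φ))) P hq b hb hfl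
  exact Groth.Agent.Htor.H248.Assembly.computes_bc φ f P L hL c hc
    (Groth.Agent.Htor.H249.RGammaDict.computes_iff f _ hP L).1
    (Groth.Agent.Htor.H249.RGammaDict.computes_iff _ _ hP' _).2 hbc e

end Groth.Agent.S3530
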