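import Groth.Statements.S3533
import Groth.Agent.Htor.H250.TensCohPc
import Groth.Agent.FormalB.PullCoh
import Groth.Agent.S0910

set_option autoImplicit false
universe u
attribute [local instance] HasDerivedCategory.standard
open HTor

namespace Groth.Agent.S3533

open CategoryTheory CategoryTheory.Limits AlgebraicGeometry in
/-- Let f : X ⟶ S be a flat morphism with X locally Noetherian, g : Y ⟶ S a morphism, and suppose Z = X
×_S Y is locally Noetherian. As X is flat over S, the local hypertor sheaves Tor_n^S(F, G) on Z are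
taken to be the cohomology sheaves in degree −n of L pr₁^* F ⊗^L pr₂^* G, where pr₂^* G is the plain
pullback of G viewed as a complex in degree 0 and the derived pullback L pr₁^* and the derived
tensor product are taken under their existence binders; the statement is made in that form. Then for
F a coherent O_X-module and G a coherent O_Y-module, every cohomology sheaf of L pr₁^* F ⊗^L pr₂^* G
is a coherent O_Z-module. -/
theorem result (X Y S : Scheme.{u}) (f : X ⟶ S) (g : Y ⟶ S) [Flat f]
    [IsLocallyNoetherian X] [IsLocallyNoetherian (pullback f g)] (F : X.Modules) (G : Y.Modules)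
    (hF : Coh.IsCoh F) (hG : Coh.IsCoh G) [DCoh.HasLpull (pullback.fst f g)]
    [DCoh.HasLTensorCx ((HTor.pullCx (pullback.snd f g)).obj
      ((HomologicalComplex.single Y.Modules (ComplexShape.up ℤ) 0).obj G))] (n : ℤ) :
    Coh.IsCoh (DCoh.HD ((DCoh.LTensorCx ((HTor.pullCx (pullback.snd f g)).obj
      ((HomologicalComplex.single Y.Modules (ComplexShape.up ℤ) 0).obj G))).obj
        ((DCoh.Lpull (pullback.fst f g)).obj (DCoh.inD X F))) n) := by
  have hE : ∀ m : ℤ, DCoh.IsPseudoCoherentD m (DCoh.inD X F) := fun m =>
    Groth.Agent.PerfB.PCNoeth.pc_of_isCoh (0 - m + 1).toNat (DCoh.inD X F) 0 m inferInstance (by omega)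
      (fun i _ => Groth.Agent.PerfA.CohomIn.coh_single (Groth.Agent.PerfA.CohSerre.cohp X) F hF 0 i)
  let e : DerivedCategory.Q.obj ((HTor.pullCx (pullback.snd f g)).obj
      ((HomologicalComplex.single Y.Modules (ComplexShape.up ℤ) 0).obj G)) ≅
      (DerivedCategory.singleFunctor _ 0).obj ((Scheme.Modules.pullback (pullback.snd f g)).obj G) :=
    DerivedCategory.Q.mapIso ((HomologicalComplex.singleMapHomologicalComplex
      (Scheme.Modules.pullback (pullback.snd f g)) (ComplexShape.up ℤ) 0).app G) ≪≫
      ((DerivedCategory.singleFunctorIsoCompQ _ 0).app _).symm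
  refine Groth.Agent.Htor.H250.TensCohPc.isCohD_LTensorCx _ 0 ?_ ?_ _
    (fun m => Groth.Agent.S0910.result (pullback.fst f g) m _ (hE m)) n
  · exact DerivedCategory.TStructure.t.isLE_of_iso e.symm 0
  · exact (Groth.Agent.PerfA.CohomIn.coh (Groth.Agent.PerfA.CohSerre.cohp _)).prop_of_iso e.symm
      (Groth.Agent.PerfA.CohomIn.coh_single (Groth.Agent.PerfA.CohSerre.cohp _) _
        (Groth.Agent.FormalB.PullCoh.isCoh_pullback (pullback.snd f g) hG) 0)

end Groth.Agent.S3533
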