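import Groth.Statements.S3679
import Groth.Agent.Pi1.H382.SpecEquiv
import Groth.Agent.S3678

set_option autoImplicit false
universe u
open Pi1

namespace Groth.Agent.S3679

open AlgebraicGeometry CategoryTheory CategoryTheory.Limits in
/-- Let A be a strictly henselian discrete valuation ring whose residue field has characteristic zero, Ω
an algebraically closed field containing A and algebraic over it (a geometric generic point of Spec
A), and f : X → Spec A a smooth proper morphism all of whose geometric fibres are connected. Then
restricting finite étale covers of X to the geometric generic fibre X_Ω is an equivalence of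
categories; equivalently, the specialisation homomorphism of fundamental groups is an isomorphism in
residue characteristic zero. (The published statement is in a more general situation; it is stated
here over a strictly henselian discrete valuation ring.) -/
theorem result (A : Type u) [CommRing A] [IsDomain A]
    [IsDiscreteValuationRing A] [HenselianLocalRing A] [IsSepClosed (IsLocalRing.ResidueField A)]
    [CharZero (IsLocalRing.ResidueField A)]
    (Ω : Type u) [Field Ω] [IsAlgClosed Ω] [Algebra A Ω] (hinj : Function.Injective (algebraMap A Ω))
    [Algebra.IsAlgebraic A Ω]
    {X : Scheme.{u}} (f : X ⟶ Spec (CommRingCat.of A)) [IsProper f] [Smooth f]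
    (hfib : ∀ (K : Type u) [Field K] [IsAlgClosed K] (s : Spec (CommRingCat.of K) ⟶ Spec (CommRingCat.of A)),
      ConnectedSpace ↥(pullback f s)) :
    (FEt.restrict (pullback.fst f (Spec.map (CommRingCat.ofHom (algebraMap A Ω))))).IsEquivalence := by
  have hff := Groth.Agent.S3678.result A f (fun K _ _ s => ⟨hfib K s, by
    have := hfib K s
    have := Groth.Agent.Pi1.H382.Trait.isIntegral_of_smooth (pullback.snd f s)
    infer_instance⟩) Ω (Spec.map (CommRingCat.ofHom (algebraMap A Ω)))
  exact { full := hff.1
          faithful := hff.2
          essSurj := Groth.Agent.Pi1.H382.SpecEquiv.essSurj A Ω hinj f hfib }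

end Groth.Agent.S3679
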