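import Groth.Statements.S3680
import Groth.Agent.Pi1.H383.SpecPrime

set_option autoImplicit false
universe u
open Pi1

namespace Groth.Agent.S3680

open AlgebraicGeometry CategoryTheory CategoryTheory.Limits in
/-- Let A be a strictly henselian discrete valuation ring whose residue field has characteristic p > 0,
Ω an algebraically closed field containing A and algebraic over it (a geometric generic point of
Spec A), and f : X → Spec A a smooth proper morphism all of whose geometric fibres are connected.
Then every finite étale cover of the geometric generic fibre X_Ω which is Galois with automorphism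
group of order prime to p is isomorphic to the restriction of a finite étale cover of X. (This
expresses that the specialisation homomorphism of fundamental groups is an isomorphism on maximal
prime-to-p quotients. The published statement is in a more general situation; it is stated here over
a strictly henselian discrete valuation ring.) -/
theorem result (A : Type u) [CommRing A] [IsDomain A]
    [IsDiscreteValuationRing A] [HenselianLocalRing A] [IsSepClosed (IsLocalRing.ResidueField A)]
    (p : ℕ) [Fact p.Prime] [CharP (IsLocalRing.ResidueField A) p]
    (Ω : Type u) [Field Ω] [IsAlgClosed Ω] [Algebra A Ω] (hinj : Function.Injective (algebraMap A Ω))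
    [Algebra.IsAlgebraic A Ω]
    {X : Scheme.{u}} (f : X ⟶ Spec (CommRingCat.of A)) [IsProper f] [Smooth f]
    (hfib : ∀ (K : Type u) [Field K] [IsAlgClosed K] (s : Spec (CommRingCat.of K) ⟶ Spec (CommRingCat.of A)),
      ConnectedSpace ↥(pullback f s))
    (Z : FEt.Cat (pullback f (Spec.map (CommRingCat.ofHom (algebraMap A Ω))))) (hZ : PiSp.IsGaloisCover Z)
    (hp : (Nat.card (Aut Z)).Coprime p) :
    (FEt.restrict (pullback.fst f (Spec.map (CommRingCat.ofHom (algebraMap A Ω))))).essImage Z := by
  exact Groth.Agent.Pi1.H383.SpecPrime.mem_essImage_of_isGaloisCover A p Ω hinj f hfib Z hZ hp

end Groth.Agent.S3680
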