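import Groth.Statements.S3688
-- import your own Groth.Agent.* helpers here
import Groth.Agent.Pi1.H390.KumSch
import Groth.Agent.Pi1.H390.KumConn

set_option autoImplicit false
open CategoryTheory CategoryTheory.Limits AlgebraicGeometry
universe u
open SGA1t

namespace Groth.Agent.S3688

theorem ΓSpecIso_fromSpecStalk {X : Scheme.{u}} (x : X) (s : Γ(X, ⊤)) :
    (Scheme.ΓSpecIso (X.presheaf.stalk x)).hom ((X.fromSpecStalk x).appTop s) =
      X.presheaf.germ ⊤ x trivial s := by
  have h1 : (X.fromSpecStalk x).appTop ≫ (Scheme.ΓSpecIso (X.presheaf.stalk x)).hom =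
      X.presheaf.germ ⊤ x trivial := by
    rw [Scheme.fromSpecStalk_appTop]
    simp
  exact congrArg (fun φ => φ.hom s) h1

theorem conn {X S : Scheme.{u}} (f : X ⟶ S) {r : ℕ} (φ : Fin r → Γ(X, ⊤))
    (hD : SGA1t.IsRelSNC f φ) (x : X) (hx : Nonempty (SGA1t.vanishingAt φ x))
    (n : SGA1t.vanishingAt φ x → ℕ) (hn1 : ∀ i, 1 ≤ n i) :
    letI A := X.presheaf.stalk x
    letI a : SGA1t.vanishingAt φ x → A := fun i => (X.presheaf.germ ⊤ x trivial).hom (φ i.1)
    letI π : Spec (CommRingCat.of (SGA1t.kummer A a n)) ⟶ Spec (CommRingCat.of A) :=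
      Spec.map (CommRingCat.ofHom (algebraMap A (SGA1t.kummer A a n)))
    letI φ₁ : Fin r → Γ(Spec (CommRingCat.of A), ⊤) := fun i => (X.fromSpecStalk x).appTop (φ i)
    ConnectedSpace ↥(π ⁻¹ᵁ SGA1t.compl φ₁) := by
  classical
  cases nonempty_fintype (SGA1t.vanishingAt φ x)
  let A := X.presheaf.stalk x
  let a : SGA1t.vanishingAt φ x → A := fun i => (X.presheaf.germ ⊤ x trivial).hom (φ i.1)
  have h : _root_.IsConnected (PrimeSpectrum.basicOpen (algebraMap A (SGA1t.kummer A a n)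
      (∏ᶠ i, a i)) : Set (PrimeSpectrum (SGA1t.kummer A a n))) :=
    Groth.Agent.Pi1.H390.KumConn.isConnected_stalk f φ hD x hx n hn1
  have key : ∀ q : PrimeSpectrum (SGA1t.kummer A a n),
      algebraMap A (SGA1t.kummer A a n) (∏ i, (Scheme.ΓSpecIso (X.presheaf.stalk x)).hom
        ((X.fromSpecStalk x).appTop (φ i))) ∉ q.asIdeal ↔
      algebraMap A (SGA1t.kummer A a n) (∏ᶠ i, a i) ∉ q.asIdeal := by
    intro q
    rw [finprod_eq_prod_of_fintype, map_prod, map_prod, Ideal.IsPrime.prod_mem_iff,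
      Ideal.IsPrime.prod_mem_iff, not_iff_not]
    constructor
    · rintro ⟨i, -, hi⟩
      rw [ΓSpecIso_fromSpecStalk] at hi
      have hv : x ∉ X.basicOpen (φ i) := by
        intro hv
        rw [Scheme.mem_basicOpen_top] at hv
        exact q.2.ne_top (Ideal.eq_top_of_isUnit_mem _ hi
          (hv.map (algebraMap A (SGA1t.kummer A a n))))
      exact ⟨⟨i, hv⟩, Finset.mem_univ _, hi⟩
    · rintro ⟨i, -, hi⟩
      refine ⟨i.1, Finset.mem_univ _, ?_⟩
      rw [ΓSpecIso_fromSpecStalk]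
      exact hi
  let W : (Spec (CommRingCat.of (SGA1t.kummer A a n))).Opens :=
    (Spec.map (CommRingCat.ofHom (algebraMap A (SGA1t.kummer A a n)))) ⁻¹ᵁ
      SGA1t.compl (fun i => (X.fromSpecStalk x).appTop (φ i))
  have hset : W = PrimeSpectrum.basicOpen (algebraMap A (SGA1t.kummer A a n) (∏ᶠ i, a i)) := by
    change (Spec.map (CommRingCat.ofHom (algebraMap A (SGA1t.kummer A a n)))) ⁻¹ᵁ
      SGA1t.compl (fun i => (X.fromSpecStalk x).appTop (φ i)) = _
    rw [SGA1t.compl, basicOpen_eq_of_affine', map_prod]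
    ext q
    exact key q
  have hW : _root_.IsConnected (W : Set (Spec (CommRingCat.of (SGA1t.kummer A a n)))) := by
    rw [hset]
    exact h
  exact isConnected_iff_connectedSpace.mp hW

/-- Let f : X -> S and let global sections φ_1, ..., φ_r of X cut out a strict normal crossings divisor
relative to S, with complement U. Let x be a point where some φ_i vanishes, A = O_{X,x}, X_1 = Spec
A, U_1 the inverse image of U, and for the indices i with φ_i(x) = 0 let n_i ≥ 1 be integers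
invertible in the residue field of x. Let X'_1 = Spec A[T_i]/(T_i^{n_i} - φ_i) (those i only) and
U'_1 its part over U_1. Then U'_1 -> U_1 is finite etale, U'_1 is connected, and U'_1 is tamely
ramified on X_1 along the divisor relatively to S. (The published statement also asserts smoothness
of the global Kummer scheme at the point over x; that first assertion is not stated here.) -/
theorem result {X S : Scheme.{u}} (f : X ⟶ S) {r : ℕ} (φ : Fin r → Γ(X, ⊤))
    (hD : SGA1t.IsRelSNC f φ) (x : X) (hx : Nonempty (SGA1t.vanishingAt φ x))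
    (n : SGA1t.vanishingAt φ x → ℕ) (hn1 : ∀ i, 1 ≤ n i) (hnu : ∀ i, IsUnit ((n i : ℕ) : X.residueField x)) :
    letI A := X.presheaf.stalk x
    letI a : SGA1t.vanishingAt φ x → A := fun i => (X.presheaf.germ ⊤ x trivial).hom (φ i.1)
    letI π : Spec (CommRingCat.of (SGA1t.kummer A a n)) ⟶ Spec (CommRingCat.of A) :=
      Spec.map (CommRingCat.ofHom (algebraMap A (SGA1t.kummer A a n)))
    letI φ₁ : Fin r → Γ(Spec (CommRingCat.of A), ⊤) := fun i => (X.fromSpecStalk x).appTop (φ i)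
    IsFinite (π ∣_ SGA1t.compl φ₁) ∧ Etale (π ∣_ SGA1t.compl φ₁) ∧
      ConnectedSpace ↥(π ⁻¹ᵁ SGA1t.compl φ₁) ∧
      ∀ [hF : IsFinite (π ∣_ SGA1t.compl φ₁)] [hE : Etale (π ∣_ SGA1t.compl φ₁)],
        SGA1t.IsRelTame (X.fromSpecStalk x ≫ f) φ₁ (MorphismProperty.Over.mk ⊤ (π ∣_ SGA1t.compl φ₁) ⟨hF, hE⟩) := by
  have hu : ∀ i, IsUnit ((n i : ℕ) : X.presheaf.stalk x) := fun i => by
    have h1 := hnu i
    rw [← map_natCast (X.residue x).hom] at h1
    exact (isUnit_map_iff (IsLocalRing.residue (X.presheaf.stalk x)) _).mp h1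
  have hφ : ∀ i : SGA1t.vanishingAt φ x,
      SGA1t.compl (fun i => (X.fromSpecStalk x).appTop (φ i)) ≤
        PrimeSpectrum.basicOpen ((X.presheaf.germ ⊤ x trivial).hom (φ i.1)) := by
    intro i
    rw [SGA1t.compl, basicOpen_eq_of_affine', map_prod]
    intro p hp
    have h1 : (Scheme.ΓSpecIso (X.presheaf.stalk x)).hom ((X.fromSpecStalk x).appTop (φ i.1)) ∣
        ∏ i, (Scheme.ΓSpecIso (X.presheaf.stalk x)).hom ((X.fromSpecStalk x).appTop (φ i)) :=
      Finset.dvd_prod_of_mem (fun i => (Scheme.ΓSpecIso (X.presheaf.stalk x)).hom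
        ((X.fromSpecStalk x).appTop (φ i))) (Finset.mem_univ i.1)
    rw [ΓSpecIso_fromSpecStalk] at h1
    exact PrimeSpectrum.basicOpen_le_basicOpen_iff _ _ |>.mpr
      (Ideal.le_radical (Ideal.mem_span_singleton.mpr h1)) hp
  refine ⟨Groth.Agent.Pi1.H390.KumSch.isFinite _ n hn1 _,
    Groth.Agent.Pi1.H390.KumSch.etale _ n hn1 hu _ hφ, conn f φ hD x hx n hn1, ?_⟩
  intro hF hE
  exact Groth.Agent.Pi1.H390.KumSch.isRelTame _ n hn1 hu _ hφ _ hF hE

end Groth.Agent.S3688
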