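import Groth.Statements.S3689
import Groth.Agent.Pi1.H391.SplitKum

set_option autoImplicit false
open CategoryTheory CategoryTheory.Limits AlgebraicGeometry
universe u
open SGA1t

namespace Groth.Agent.S3689

/-- Let f : X -> S and φ_1, ..., φ_r cut out a strict normal crossings divisor relative to S with
complement U; let x be a point where some φ_i vanishes, R a strict henselisation of O_{X,x}, X_1 =
Spec R, U_1 the inverse image of U, and V_1 a finite etale cover of U_1 which is tamely ramified on
X_1 relatively to S at the geometric points of S lying over maximal points of S. Then there are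
integers n_i ≥ 1 (for the i with φ_i(x) = 0), invertible in the residue field of x, such that on the
Kummer scheme X'_1 = Spec R[T_i]/(T_i^{n_i} - φ_i) the pullback of V_1 to the inverse image U'_1 of
U_1 is the restriction of a finite etale cover of X'_1. -/
theorem result {X S : Scheme.{u}} (f : X ⟶ S) {r : ℕ} (φ : Fin r → Γ(X, ⊤))
    (hD : SGA1t.IsRelSNC f φ) (x : X) (hx : Nonempty (SGA1t.vanishingAt φ x))
    (R : Type u) [CommRing R] [IsLocalRing R] [Algebra (X.presheaf.stalk x) R]
    [IsLocalHom (algebraMap (X.presheaf.stalk x) R)] [Hensel.IsStrictHenselization (X.presheaf.stalk x) R]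
    (V₁ : FEt.Cat (SGA1t.compl (fun i => (Hens2.specOf X x R).appTop (φ i)) : Scheme.{u}))
    (htame : SGA1t.IsRelTameOver (Hens2.specOf X x R ≫ f) (fun i => (Hens2.specOf X x R).appTop (φ i)) V₁
      {s : S | ∀ s' : S, s' ⤳ s → s' = s}) :
    ∃ n : SGA1t.vanishingAt φ x → ℕ, (∀ i, 1 ≤ n i) ∧ (∀ i, IsUnit ((n i : ℕ) : X.residueField x)) ∧
      letI a : SGA1t.vanishingAt φ x → R := fun i =>
        algebraMap (X.presheaf.stalk x) R ((X.presheaf.germ ⊤ x trivial).hom (φ i.1))
      letI π : Spec (CommRingCat.of (SGA1t.kummer R a n)) ⟶ Spec (CommRingCat.of R) :=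
        Spec.map (CommRingCat.ofHom (algebraMap R (SGA1t.kummer R a n)))
      letI U₁ := SGA1t.compl (fun i => (Hens2.specOf X x R).appTop (φ i))
      ∃ W : FEt.Cat (Spec (CommRingCat.of (SGA1t.kummer R a n))),
        Nonempty ((FEt.restrict (π ⁻¹ᵁ U₁).ι).obj W ≅ (FEt.restrict (π ∣_ U₁)).obj V₁) :=
  Groth.Agent.Pi1.H415.FinalC.abh_of Groth.Agent.Pi1.H391.SplitKum.splitKum f φ hD x hx R V₁ htame

end Groth.Agent.S3689
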