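import Groth.Statements.S3690
import Groth.Agent.S3689
import Groth.Agent.Pi1.H392.S3690_of
-- import your own Groth.Agent.* helpers here

set_option autoImplicit false
open CategoryTheory CategoryTheory.Limits AlgebraicGeometry
universe u
open SGA1t

namespace Groth.Agent.S3690

/-- In the situation of the relative Abhyankar lemma (f : X -> S, φ_1, ..., φ_r cutting out a strict
normal crossings divisor relative to S, x a point of the divisor, R a strict henselisation of
O_{X,x}, U_1 the complement of the divisor in Spec R): a finite etale cover of U_1 which is tamely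
ramified relatively to S at the geometric points over maximal points of S is tamely ramified
relatively to S at all geometric points of S. -/
theorem result {X S : Scheme.{u}} (f : X ⟶ S) {r : ℕ} (φ : Fin r → Γ(X, ⊤))
    (hD : SGA1t.IsRelSNC f φ) (x : X) (hx : Nonempty (SGA1t.vanishingAt φ x))
    (R : Type u) [CommRing R] [IsLocalRing R] [Algebra (X.presheaf.stalk x) R]
    [IsLocalHom (algebraMap (X.presheaf.stalk x) R)] [Hensel.IsStrictHenselization (X.presheaf.stalk x) R]
    (V₁ : FEt.Cat (SGA1t.compl (fun i => (Hens2.specOf X x R).appTop (φ i)) : Scheme.{u}))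
    (htame : SGA1t.IsRelTameOver (Hens2.specOf X x R ≫ f) (fun i => (Hens2.specOf X x R).appTop (φ i)) V₁
      {s : S | ∀ s' : S, s' ⤳ s → s' = s}) :
    SGA1t.IsRelTame (Hens2.specOf X x R ≫ f) (fun i => (Hens2.specOf X x R).appTop (φ i)) V₁ := by
  exact Groth.Agent.Pi1.H392.S3690_of.main 
    (fun {X S} f {r} φ hD x hx R _ _ _ _ _ V₁ htame =>
      Groth.Agent.S3689.result f φ hD x hx R V₁ htame) f φ hD x hx R V₁ htame

end Groth.Agent.S3690
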