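import Groth.Statements.S3691
import Groth.Agent.S3689
import Groth.Agent.Pi1.H393.S3691_of

set_option autoImplicit false
open CategoryTheory CategoryTheory.Limits AlgebraicGeometry
universe u
open SGA1t

namespace Groth.Agent.S3691

/-- The Kummer coverings are cofinal among relatively tame covers: Let f : X -> S and φ_1, ..., φ_r cut
out a strict normal crossings divisor relative to S with complement U; let x be a point of the
divisor, R a strict henselisation of O_{X,x}, U_1 the complement of the divisor in Spec R, and V_1 a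
connected finite etale cover of U_1 tamely ramified on Spec R relatively to S. Then for some
integers n_i ≥ 1 (i with φ_i(x) = 0) invertible in the residue field of x there is a surjective
U_1-morphism onto V_1 from the part over U_1 of the Kummer scheme Spec R[T_i]/(T_i^{n_i} - φ_i). -/
theorem result {X S : Scheme.{u}} (f : X ⟶ S) {r : ℕ} (φ : Fin r → Γ(X, ⊤))
    (hD : SGA1t.IsRelSNC f φ) (x : X) (hx : Nonempty (SGA1t.vanishingAt φ x))
    (R : Type u) [CommRing R] [IsLocalRing R] [Algebra (X.presheaf.stalk x) R]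
    [IsLocalHom (algebraMap (X.presheaf.stalk x) R)] [Hensel.IsStrictHenselization (X.presheaf.stalk x) R]
    (V₁ : FEt.Cat (SGA1t.compl (fun i => (Hens2.specOf X x R).appTop (φ i)) : Scheme.{u})) [ConnectedSpace V₁.left]
    (htame : SGA1t.IsRelTame (Hens2.specOf X x R ≫ f) (fun i => (Hens2.specOf X x R).appTop (φ i)) V₁) :
    ∃ n : SGA1t.vanishingAt φ x → ℕ, (∀ i, 1 ≤ n i) ∧ (∀ i, IsUnit ((n i : ℕ) : X.residueField x)) ∧
      letI a : SGA1t.vanishingAt φ x → R := fun i =>
        algebraMap (X.presheaf.stalk x) R ((X.presheaf.germ ⊤ x trivial).hom (φ i.1))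
      letI π : Spec (CommRingCat.of (SGA1t.kummer R a n)) ⟶ Spec (CommRingCat.of R) :=
        Spec.map (CommRingCat.ofHom (algebraMap R (SGA1t.kummer R a n)))
      letI U₁ := SGA1t.compl (fun i => (Hens2.specOf X x R).appTop (φ i))
      ∃ ψ : (↑(π ⁻¹ᵁ U₁) : Scheme.{u}) ⟶ V₁.left, ψ ≫ V₁.hom = π ∣_ U₁ ∧ Surjective ψ :=
  Groth.Agent.Pi1.H393.S3691_of.main (@Groth.Agent.S3689.result) f φ hD x hx R V₁ htame

end Groth.Agent.S3691
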