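import Groth.Statements.S3693
import Groth.Agent.S3689
import Groth.Agent.S3692
import Groth.Agent.Pi1.H415.S3693_of

set_option autoImplicit false
open CategoryTheory CategoryTheory.Limits AlgebraicGeometry
universe u
open SGA1t

namespace Groth.Agent.S3693

/-- Stalkwise base change for the direct image, along the inclusion of the complement of a relative
strict normal crossings divisor, of a tamely ramified locally constant sheaf of sets. Let f : X → S
be a morphism and φ_1, …, φ_r global functions on X cutting out a strict normal crossings divisor
relative to S, with complement U; let S' → S be any morphism, X' = X ×_S S', x' a point of X' with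
image x in X, R and R' strict henselisations of O_{X,x} and O_{X',x'} with a compatible local map R
→ R' (compatible also with the maps Spec R → X and Spec R' → X'), Ū the complement of the divisor in
Spec R and Ū' its inverse image in Spec R' (the complement of the pulled-back divisor). Then for
every finite étale cover V of Ū which is tamely ramified on Spec R relatively to S, pulling back
sections gives a bijection from the sections of V over Ū to the sections of its pullback over Ū'. -/
theorem result {X S S' : Scheme.{u}} (f : X ⟶ S) (h : S' ⟶ S) {r : ℕ} (φ : Fin r → Γ(X, ⊤))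
    (hD : SGA1t.IsRelSNC f φ) (x' : ↥(pullback f h))
    (R : Type u) [CommRing R] [IsLocalRing R] [Algebra (X.presheaf.stalk ((pullback.fst f h).base x')) R]
    [IsLocalHom (algebraMap (X.presheaf.stalk ((pullback.fst f h).base x')) R)]
    [Hensel.IsStrictHenselization (X.presheaf.stalk ((pullback.fst f h).base x')) R]
    (R' : Type u) [CommRing R'] [IsLocalRing R'] [Algebra ((pullback f h).presheaf.stalk x') R']
    [IsLocalHom (algebraMap ((pullback f h).presheaf.stalk x') R')]
    [Hensel.IsStrictHenselization ((pullback f h).presheaf.stalk x') R']
    [Algebra R R'] (hRR' : (algebraMap R R').comp (algebraMap (X.presheaf.stalk ((pullback.fst f h).base x')) R) =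
      (algebraMap ((pullback f h).presheaf.stalk x') R').comp ((pullback.fst f h).stalkMap x').hom)
    (hm : Spec.map (CommRingCat.ofHom (algebraMap R R')) ≫ Hens2.specOf X ((pullback.fst f h).base x') R =
      Hens2.specOf (pullback f h) x' R' ≫ pullback.fst f h) :
    letI m : Spec (CommRingCat.of R') ⟶ Spec (CommRingCat.of R) := Spec.map (CommRingCat.ofHom (algebraMap R R'))
    letI Ub := SGA1t.compl (fun i => (Hens2.specOf X ((pullback.fst f h).base x') R).appTop (φ i))
    ∀ (V : FEt.Cat (Ub : Scheme.{u})),
      SGA1t.IsRelTame (Hens2.specOf X ((pullback.fst f h).base x') R ≫ f)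
        (fun i => (Hens2.specOf X ((pullback.fst f h).base x') R).appTop (φ i)) V →
      Function.Bijective (SGA1t.secPull (m ∣_ Ub) V) :=
  Groth.Agent.Pi1.H415.S3693_of.main.{u} (@Groth.Agent.S3689.result.{u}) (@Groth.Agent.S3692.result.{u})
    f h φ hD x' R R' hRR' hm

end Groth.Agent.S3693
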