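import Groth.Statements.S3695
-- import your own Groth.Agent.* helpers here
import Groth.Agent.Pi1.H396.Core
import Groth.Agent.Pi1A.NormalFF
import Groth.Agent.VarietyA.ResMap

set_option autoImplicit false
universe u
open Pi1

namespace Groth.Agent.S3695

open AlgebraicGeometry CategoryTheory CategoryTheory.Limits in
/-- Let k be an algebraically closed field and X a proper, normal, integral k-scheme which is rational:
its function field (the local ring at the generic point) is k-isomorphic to a field of rational
functions k(t_1, ..., t_r). Then X is simply connected: every finite etale cover of X is a finite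
disjoint union of copies of X. (This contains the case of projective space.) -/
theorem result (k : Type u) [Field k] [IsAlgClosed k] (X : Scheme.{u})
    [X.Over (Spec (CommRingCat.of k))] [IsProper (X ↘ Spec (CommRingCat.of k))] [IsIntegral X] (hN : Pi1.IsNormalScheme X)
    (r : ℕ)
    (e : letI := Curv2.stalkAlgebra k X (genericPoint X)
      X.presheaf.stalk (genericPoint X) ≃ₐ[k] FractionRing (MvPolynomial (Fin r) k))
    (Y : FEt.Cat X) : Pi1.IsSplit Y := by
  letI := Curv2.stalkAlgebra k X (genericPoint X)
  let e' : (X.presheaf.stalk (genericPoint X)) ≅ CommRingCat.of (FractionRing (MvPolynomial (Fin r) k)) :=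
    e.toRingEquiv.toCommRingCatIso
  have hsep : IsSepClosed k := inferInstance
  have h1 := Groth.Agent.Pi1.H396.Core.core X (X ↘ Spec (CommRingCat.of k)) r
    (Spec.map e'.hom ≫ X.fromSpecStalk (genericPoint X)) (by
      rw [Category.assoc, ← Groth.Agent.VarietyA.ResMap.specMap_stalkMap, ← Spec.map_comp]
      congr 1
      ext c
      exact e.commutes c) Y
  have h2 : Pi1.IsSplit ((FEt.restrict (X.fromSpecStalk (genericPoint X))).obj Y) := by
    have h3 := Groth.Agent.Pi1.H396.SplitGlue.isSplit_restrict (Spec.map e'.inv) _ h1
    refine Groth.Agent.Pi1.H396.SplitGlue.isSplit_of_iso ?_ h3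
    exact (Groth.Agent.Pi1A.FEtAffine.restrictCongr (by
        rw [← Category.assoc, ← Spec.map_comp, e'.hom_inv_id, Spec.map_id, Category.id_comp])).app Y ≪≫
      (Groth.Agent.Pi1A.FEtAffine.restrictComp (Spec.map e'.inv) (Spec.map e'.hom ≫ X.fromSpecStalk (genericPoint X))).app Y
  obtain ⟨hfull, hfaith⟩ := Groth.Agent.Pi1A.NormalFF.restrict_genericPoint hN
  exact Groth.Agent.Pi1.H396.SplitGlue.isSplit_of_restrict (X ↘ Spec (CommRingCat.of k)) _ hfull hfaith Y h2

end Groth.Agent.S3695
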