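import Groth.Statements.S3697
import Groth.Agent.Pi1.H398.Triv

set_option autoImplicit false
universe u
open SGA1

namespace Groth.Agent.S3697

open AlgebraicGeometry CategoryTheory CategoryTheory.Limits in
/-- The sufficiency (the necessity of the conditions is immediate). Let f : X -> S be proper, surjective
and of finite presentation with geometrically connected fibres, and g : X' -> X proper of finite
presentation. Let s be a point of S and C a connected open and closed part of the fibre X'_s (a
connected component). Suppose that g is etale at the points of X' under C, and that C, mapped to the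
fibre X_s, is a finite etale cover which splits completely after base change to an algebraic closure
of the residue field of s. Then some open neighbourhood of C in X' is X-isomorphic to X x_S S_1 for
a scheme S_1 etale over S. -/
theorem result {X X' S : Scheme.{u}} (f : X ⟶ S) [IsProper f] [Surjective f]
    [LocallyOfFinitePresentation f]
    (hconn : ∀ (Ω : Type u) [Field Ω] [IsAlgClosed Ω] (σ : Spec (CommRingCat.of Ω) ⟶ S), ConnectedSpace ↥(pullback f σ))
    (g : X' ⟶ X) [IsProper g] [LocallyOfFinitePresentation g] (s : S)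
    (C : (pullback (g ≫ f) (S.fromSpecResidueField s)).Opens) (hCcl : IsClosed (C : Set ↥(pullback (g ≫ f) (S.fromSpecResidueField s))))
    [ConnectedSpace ↥C]
    (het : ∀ c : C, (pullback.fst (g ≫ f) (S.fromSpecResidueField s)).base c.1 ∈ Pi1X.etaleLocus g)
    [hF : IsFinite (C.ι ≫ pullback.map (g ≫ f) (S.fromSpecResidueField s) f (S.fromSpecResidueField s) g (𝟙 _) (𝟙 S)
      (Category.comp_id _) ((Category.comp_id _).trans (Category.id_comp _).symm))]
    [hE : Etale (C.ι ≫ pullback.map (g ≫ f) (S.fromSpecResidueField s) f (S.fromSpecResidueField s) g (𝟙 _) (𝟙 S)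
      (Category.comp_id _) ((Category.comp_id _).trans (Category.id_comp _).symm))]
    (hsplit : Pi1.IsSplit ((FEt.restrict (pullback.fst (pullback.snd f (S.fromSpecResidueField s))
        (Spec.map (CommRingCat.ofHom (algebraMap (S.residueField s) (AlgebraicClosure (S.residueField s))))))).obj
      (MorphismProperty.Over.mk ⊤ (C.ι ≫ pullback.map (g ≫ f) (S.fromSpecResidueField s) f (S.fromSpecResidueField s) g
        (𝟙 _) (𝟙 S) (Category.comp_id _) ((Category.comp_id _).trans (Category.id_comp _).symm)) ⟨hF, hE⟩))) :
    ∃ W : X'.Opens, (∀ c : C, (pullback.fst (g ≫ f) (S.fromSpecResidueField s)).base c.1 ∈ W) ∧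
      ∃ (S₁ : Scheme.{u}) (e : S₁ ⟶ S) (_ : Etale e) (φ : (W : Scheme.{u}) ≅ pullback f e),
        φ.hom ≫ pullback.fst f e = W.ι ≫ g := by
  let ρ : (C : Scheme.{u}) ⟶ pullback f (S.fromSpecResidueField s) :=
    C.ι ≫ pullback.map (g ≫ f) (S.fromSpecResidueField s) f (S.fromSpecResidueField s) g (𝟙 _) (𝟙 S)
      (Category.comp_id _) ((Category.comp_id _).trans (Category.id_comp _).symm)
  let Z : FEt.Cat (pullback f (S.fromSpecResidueField s)) := MorphismProperty.Over.mk ⊤ ρ ⟨hF, hE⟩
  have hconnC : ConnectedSpace ↥(C : Scheme.{u}) := inferInstanceAs (ConnectedSpace ↥C)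
  obtain ⟨W, hW, S₁, e, he, φ, hφ⟩ := Groth.Agent.Pi1.H398.Triv.main f hconn g s
    (Pi1X.etaleLocus g) (Groth.Agent.Pi1.H398.SecLift.etale_etaleLocus g)
    (Cs := (C : Scheme.{u})) (C.ι ≫ pullback.fst (g ≫ f) (S.fromSpecResidueField s)) ρ (by
      simp only [ρ, pullback.map, Category.assoc, pullback.lift_fst])
    (fun c => het c) Z (𝟙 _) (Category.id_comp _) (hconnC.toNonempty) hsplit
  exact ⟨W, fun c => hW c, S₁, e, he, φ, hφ⟩

end Groth.Agent.S3697
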