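import Groth.Statements.S3829
import Groth.Agent.Ega4late.H525.SmoothRegSeq
import Groth.Agent.Divis.CartierStalk
import Groth.Agent.UnramA.NearPoint
import Mathlib.RingTheory.Regular.Flat

set_option autoImplicit false
universe u
open CategoryTheory CategoryTheory.Limits AlgebraicGeometry TopologicalSpace
open Unram17

namespace Groth.Agent.S3829

/-- c) implies a) (case of a closed immersion): let f : X → S and h : Y → S be locally of finite
presentation, j : Y → X a closed immersion over S and y a point of Y. If h is smooth on a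
neighbourhood of y and, on some affine open neighbourhood of j(y) in X, the ideal of j is generated
by a regular sequence (j is a regular immersion near y), then f is smooth on an open neighbourhood
of j(y). -/
theorem result {X Y S : Scheme.{u}} (f : X ⟶ S) (h : Y ⟶ S)
    [LocallyOfFinitePresentation f] [LocallyOfFinitePresentation h] (j : Y ⟶ X) [IsClosedImmersion j]
    (hj : j ≫ f = h) (y : ↥Y) (hy : ∃ V : Y.Opens, y ∈ V ∧ Smooth (V.ι ≫ h))
    (hreg : ∃ (U : X.Opens) (hU : IsAffineOpen U), j y ∈ U ∧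
      ∃ rs : List Γ(X, U), RingTheory.Sequence.IsRegular Γ(X, U) rs ∧ j.ker.ideal ⟨U, hU⟩ = Ideal.ofList rs) :
    ∃ U : X.Opens, j y ∈ U ∧ Smooth (U.ι ≫ f) := by
  subst hj
  rw [UnramA.NearPoint.exists_smooth_nhd_iff] at hy ⊢
  rw [Scheme.Hom.stalkMap_comp] at hy
  obtain ⟨U₀, hU₀, hxU₀, rs, hrs, hker⟩ := hreg
  obtain ⟨_, ⟨U, hU, rfl⟩, hxU, -⟩ :=
    S.isBasis_affineOpens.exists_subset_of_mem_open (Set.mem_univ (f (j y))) isOpen_univ
  obtain ⟨_, ⟨V, hV, rfl⟩, hxV, hVU⟩ :=
    X.isBasis_affineOpens.exists_subset_of_mem_open (show j y ∈ ((f ⁻¹ᵁ U) ⊓ U₀ : X.Opens) from ⟨hxU, hxU₀⟩)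
      ((f ⁻¹ᵁ U) ⊓ U₀).2
  have hVU₀ : V ≤ U₀ := fun _ h => (hVU h).2
  replace hVU : V ≤ f ⁻¹ᵁ U := fun _ h => (hVU h).1
  have hfp := f.finitePresentation_appLE hU hV hVU
  let R := Γ(S, U)
  let R' := S.presheaf.stalk (f (j y))
  let C := Γ(X, V)
  let C₀ := Γ(X, U₀)
  let A := X.presheaf.stalk (j y)
  let B := Y.presheaf.stalk y
  let _ : Algebra R C := (f.appLE U V hVU).hom.toAlgebra
  have : Algebra.FinitePresentation R C := hfp
  let _ : Algebra R R' := (S.presheaf.germ U (f (j y)) hxU).hom.toAlgebra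
  let _ : Algebra C A := (X.presheaf.germ V (j y) hxV).hom.toAlgebra
  let _ : Algebra C₀ C := (X.presheaf.map (homOfLE hVU₀).op).hom.toAlgebra
  let _ : Algebra C₀ A := (X.presheaf.germ U₀ (j y) hxU₀).hom.toAlgebra
  let _ : Algebra R' A := (f.stalkMap (j y)).hom.toAlgebra
  let _ : Algebra A B := (j.stalkMap y).hom.toAlgebra
  let _ : Algebra R' B := (f.stalkMap (j y) ≫ j.stalkMap y).hom.toAlgebra
  let _ : Algebra R A := ((f.stalkMap (j y)).hom.comp (S.presheaf.germ U (f (j y)) hxU).hom).toAlgebra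
  let _ : Algebra R B := ((f.stalkMap (j y) ≫ j.stalkMap y).hom.comp
    (S.presheaf.germ U (f (j y)) hxU).hom).toAlgebra
  have : IsScalarTower R R' A := .of_algebraMap_eq' rfl
  have : IsScalarTower R R' B := .of_algebraMap_eq' rfl
  have : IsScalarTower R A B := .of_algebraMap_eq' rfl
  have : IsScalarTower R C A := .of_algebraMap_eq' (by
    have h0 : S.presheaf.germ U (f (j y)) hxU ≫ f.stalkMap (j y) =
        f.appLE U V hVU ≫ X.presheaf.germ V (j y) hxV := by
      rw [f.germ_stalkMap, ← X.presheaf.germ_res (homOfLE hVU) _ hxV, ← Category.assoc]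
      rfl
    exact congr($(h0).hom))
  have : IsScalarTower C₀ C A := .of_algebraMap_eq' (by
    have h0 : X.presheaf.germ U₀ (j y) hxU₀ = X.presheaf.map (homOfLE hVU₀).op ≫ X.presheaf.germ V (j y) hxV := by
      rw [X.presheaf.germ_res]
    exact congr($(h0).hom))
  have hR' : IsLocalization.AtPrime R' (hU.primeIdealOf ⟨f (j y), hxU⟩).asIdeal :=
    hU.isLocalization_stalk ⟨f (j y), hxU⟩
  have hA : IsLocalization.AtPrime A (hV.primeIdealOf ⟨j y, hxV⟩).asIdeal :=
    hV.isLocalization_stalk ⟨j y, hxV⟩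
  have hA₀ : IsLocalization.AtPrime A (hU₀.primeIdealOf ⟨j y, hxU₀⟩).asIdeal :=
    hU₀.isLocalization_stalk ⟨j y, hxU₀⟩
  have : Algebra.FormallyEtale R R' := .of_isLocalization (hU.primeIdealOf ⟨f (j y), hxU⟩).asIdeal.primeCompl
  have h1 : Algebra.FormallySmooth R' B := hy
  have h2 : Algebra.FormallySmooth R B := .comp R R' B
  have hsurj : Function.Surjective (algebraMap A B) := j.stalkMap_surjective y
  have hlist : (rs.map (algebraMap C₀ C)).map (algebraMap C A) = rs.map (algebraMap C₀ A) := by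
    rw [List.map_map]
    congr 1
    ext x
    exact (IsScalarTower.algebraMap_apply C₀ C A x).symm
  have hkerA : RingHom.ker (algebraMap A B) = Ideal.ofList (rs.map (algebraMap C₀ A)) := by
    have e1 := Divis.CartierStalk.ker_stalkMap j y
    rw [Divis.CartierBasic.stalkIdeal_eq j.ker ⟨U₀, hU₀⟩ hxU₀, hker] at e1
    rw [← Ideal.map_ofList]
    exact e1
  have hle : Ideal.ofList (rs.map (algebraMap C₀ A)) ≤ IsLocalRing.maximalIdeal A := by
    rw [← hkerA]
    exact IsLocalRing.le_maximalIdeal (RingHom.ker_ne_top _)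
  have h3 : Algebra.FormallySmooth R A := by
    refine Ega4late.H525.SmoothRegSeq.formallySmooth_of_quotient_list _ C A
      (hV.primeIdealOf ⟨j y, hxV⟩).asIdeal (rs.map (algebraMap C₀ C)) rfl ?_ ?_ ?_
    · intro x hx
      rw [← IsLocalization.AtPrime.to_map_mem_maximal_iff A (hV.primeIdealOf ⟨j y, hxV⟩).asIdeal]
      refine hle (Ideal.subset_span ?_)
      rw [← hlist]
      exact List.mem_map.mpr ⟨x, hx, rfl⟩
    · rw [hlist]
      have : Module.Flat C₀ A := IsLocalization.flat A (hU₀.primeIdealOf ⟨j y, hxU₀⟩).asIdeal.primeCompl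
      exact RingTheory.Sequence.IsWeaklyRegular.of_flat hrs.toIsWeaklyRegular
    · rw [hlist]
      let e : (A ⧸ RingHom.ker (IsScalarTower.toAlgHom R A B)) ≃ₐ[R] B :=
        Ideal.quotientKerAlgEquivOfSurjective hsurj
      have e2 : RingHom.ker (IsScalarTower.toAlgHom R A B) = Ideal.ofList (rs.map (algebraMap C₀ A)) := hkerA
      exact Algebra.FormallySmooth.of_equiv (e.symm.trans (Ideal.quotientEquivAlgOfEq R e2))
  have h4 : Algebra.FormallySmooth R' A := Algebra.FormallySmooth.of_restrictScalars R R' A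
  exact h4

end Groth.Agent.S3829
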