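import Groth.Statements.S3706
import Groth.Agent.S3097
import Groth.Agent.Etrest.ConstBasic
import Groth.Agent.Pi1.H417.ComplTop

set_option autoImplicit false
open CategoryTheory CategoryTheory.Limits AlgebraicGeometry
universe u
open SGA1t

namespace Groth.Agent.S3706

/-- Case of the constant sheaf Z/n with n invertible on S, first conclusion: let f : X -> S be proper,
smooth and of finite presentation, φ_1, ..., φ_r cut out a strict normal crossings divisor relative
to S with complement U, and q : U -> S the restriction of f. Then R^1 q_* (Z/n) is a finite locally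
constant sheaf on S. -/
theorem result {X S : Scheme.{u}} (f : X ⟶ S) [IsProper f] [Smooth f]
    [LocallyOfFinitePresentation f] {r : ℕ} (φ : Fin r → Γ(X, ⊤)) (hD : SGA1t.IsRelSNC f φ)
    (n : ℕ) (hn : IsUnit ((n : ℕ) : Γ(S, ⊤))) :
    EtCoh.IsFiniteLocallyConstant ((EtCoh.Rpush ((SGA1t.compl φ).ι ≫ f) 1).obj (EtCoh.const (SGA1t.compl φ : Scheme.{u}) (ZMod n))) := by
  by_cases h0 : n = 0
  · -- `0` is invertible on `S`, so `S` is empty
    subst h0
    have hS : ∀ x : S, False := by
      intro x
      have h1 : IsUnit ((0 : ℕ) : S.presheaf.stalk x) := by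
        simpa using hn.map (S.presheaf.germ ⊤ x trivial).hom
      rw [Nat.cast_zero, isUnit_zero_iff] at h1
      exact zero_ne_one h1
    exact ⟨PEmpty, fun i => i.elim, fun x => (hS x).elim, fun i => i.elim⟩
  · have hU : SGA1t.compl φ = ⊤ := Groth.Agent.Pi1.H417.ComplTop.compl_eq_top f φ hD
    have hiso : IsIso (SGA1t.compl φ).ι := by
      rw [hU]
      exact (inferInstance : IsIso X.topIso.hom)
    have : NeZero n := ⟨h0⟩
    have : Finite (ZMod n) := inferInstance
    exact Groth.Agent.S3097.result ((SGA1t.compl φ).ι ≫ f) n hn _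
      (Groth.Agent.Etrest.ConstBasic.isFiniteLocallyConstant_const _ _)
      (Groth.Agent.Etrest.ConstBasic.killedBy_const _ _ n (fun m => by simp)) 1

end Groth.Agent.S3706
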