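import Groth.Statements.S3714
import Groth.Agent.S3689
import Groth.Agent.S3692
import Groth.Agent.Pi1.H414.S3714_of

set_option autoImplicit false
open CategoryTheory CategoryTheory.Limits AlgebraicGeometry
universe u
open SGA1t

namespace Groth.Agent.S3714

/-- Let f : X → S be a morphism and φ_1, …, φ_r global sections of O_X cutting out a strict normal
crossings divisor relative to S, with complement U; let S′ → S be any morphism, X′ = X ×_S S′, x′ a
point of X′ with image x in X, and R and R′ strict henselizations of O_{X,x} and O_{X′,x′} together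
with a map R → R′ compatible with O_{X,x} → O_{X′,x′} and with the canonical morphisms Spec R → X,
Spec R′ → X′. Let Ū be the complement in Spec R of the divisor cut out by the images of the φ_i, and
Ū′ the complement in Spec R′ of the divisor pulled back through X′, assumed contained in the inverse
image of Ū (hypothesis hle). Then for every finite group C, every principal C-cover of Ū′ which is
tamely ramified on Spec R′ relatively to S′ is C-equivariantly isomorphic to the pullback along Ū′ →
Ū of a principal C-cover of Ū which is tamely ramified on Spec R relatively to S. (This is the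
surjectivity half of the bijectivity of the base-change map, at a geometric point, for tame
degree-one cohomology of the complement with coefficients in C.) -/
theorem result {X S S' : Scheme.{u}} (f : X ⟶ S) (h : S' ⟶ S) {r : ℕ} (φ : Fin r → Γ(X, ⊤))
    (hD : SGA1t.IsRelSNC f φ) (x' : ↥(pullback f h))
    (R : Type u) [CommRing R] [IsLocalRing R] [Algebra (X.presheaf.stalk ((pullback.fst f h).base x')) R]
    [IsLocalHom (algebraMap (X.presheaf.stalk ((pullback.fst f h).base x')) R)]
    [Hensel.IsStrictHenselization (X.presheaf.stalk ((pullback.fst f h).base x')) R]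
    (R' : Type u) [CommRing R'] [IsLocalRing R'] [Algebra ((pullback f h).presheaf.stalk x') R']
    [IsLocalHom (algebraMap ((pullback f h).presheaf.stalk x') R')]
    [Hensel.IsStrictHenselization ((pullback f h).presheaf.stalk x') R']
    [Algebra R R'] (hRR' : (algebraMap R R').comp (algebraMap (X.presheaf.stalk ((pullback.fst f h).base x')) R) =
      (algebraMap ((pullback f h).presheaf.stalk x') R').comp ((pullback.fst f h).stalkMap x').hom)
    (hm : Spec.map (CommRingCat.ofHom (algebraMap R R')) ≫ Hens2.specOf X ((pullback.fst f h).base x') R =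
      Hens2.specOf (pullback f h) x' R' ≫ pullback.fst f h)
    (C : Type) [Group C] [Finite C] :
    letI m : Spec (CommRingCat.of R') ⟶ Spec (CommRingCat.of R) := Spec.map (CommRingCat.ofHom (algebraMap R R'))
    letI φb : Fin r → Γ(Spec (CommRingCat.of R), ⊤) := fun i => (Hens2.specOf X ((pullback.fst f h).base x') R).appTop (φ i)
    letI φb' : Fin r → Γ(Spec (CommRingCat.of R'), ⊤) := fun i =>
      (Hens2.specOf (pullback f h) x' R').appTop ((pullback.fst f h).appTop (φ i))
    ∀ (hle : SGA1t.compl φb' ≤ m ⁻¹ᵁ SGA1t.compl φb)
      (P' : FEt.Cat (SGA1t.compl φb' : Scheme.{u})) (ρ' : C →* Aut P'), SGA1t.IsPrincipal C P' ρ' →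
      SGA1t.IsRelTame (Hens2.specOf (pullback f h) x' R' ≫ pullback.snd f h) φb' P' →
      ∃ (P : FEt.Cat (SGA1t.compl φb : Scheme.{u})) (ρ : C →* Aut P), SGA1t.IsPrincipal C P ρ ∧
        SGA1t.IsRelTame (Hens2.specOf X ((pullback.fst f h).base x') R ≫ f) φb P ∧
        ∃ e : (FEt.restrict (m.resLE (SGA1t.compl φb) (SGA1t.compl φb') hle)).obj P ≅ P',
          ∀ g : C, (FEt.restrict (m.resLE (SGA1t.compl φb) (SGA1t.compl φb') hle)).map (ρ g).hom ≫ e.hom =
            e.hom ≫ (ρ' g).hom := by
  exact Groth.Agent.Pi1.H414.S3714_of.main.{u} @Groth.Agent.S3689.result @Groth.Agent.S3692.result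
    f h φ hD x' R R' hRR' hm C

end Groth.Agent.S3714
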