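import Groth.Statements.S3715
import Groth.Agent.Pi1.H415.S3715_of
import Groth.Agent.S3689
import Groth.Agent.S3692

set_option autoImplicit false
open CategoryTheory CategoryTheory.Limits AlgebraicGeometry
universe u
open SGA1t

namespace Groth.Agent.S3715

/-- Let f : X → S be a morphism and φ_1, …, φ_r global functions on X cutting out a strict normal
crossings divisor relative to S, with complement U. Let S' → S be any morphism, X' = X ×_S S', x' a
point of X' with image x in X, and R and R' strict henselizations of O_{X,x} and O_{X',x'} with a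
local map R → R' compatible with the map of local rings O_{X,x} → O_{X',x'} and with the projection
X' → X; let Ū be the complement of the divisor in Spec R and Ū' the complement of the pulled-back
divisor in Spec R', and assume Ū' lies in the inverse image of Ū (hypothesis hle). Let C be a finite
group. Then two principal C-covers of Ū, each tamely ramified on Spec R relative to S, whose
pullbacks to Ū' are C-equivariantly isomorphic are already C-equivariantly isomorphic. (This is the
injectivity half of the compatibility with base change, at a geometric point, of the set of tame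
principal C-covers of the complement, for a constant finite group C.) -/
theorem result {X S S' : Scheme.{u}} (f : X ⟶ S) (h : S' ⟶ S) {r : ℕ} (φ : Fin r → Γ(X, ⊤))
    (hD : SGA1t.IsRelSNC f φ) (x' : ↥(pullback f h))
    (R : Type u) [CommRing R] [IsLocalRing R] [Algebra (X.presheaf.stalk ((pullback.fst f h).base x')) R]
    [IsLocalHom (algebraMap (X.presheaf.stalk ((pullback.fst f h).base x')) R)]
    [Hensel.IsStrictHenselization (X.presheaf.stalk ((pullback.fst f h).base x')) R]
    (R' : Type u) [CommRing R'] [IsLocalRing R'] [Algebra ((pullback f h).presheaf.stalk x') R']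
    [IsLocalHom (algebraMap ((pullback f h).presheaf.stalk x') R')]
    [Hensel.IsStrictHenselization ((pullback f h).presheaf.stalk x') R']
    [Algebra R R'] (hRR' : (algebraMap R R').comp (algebraMap (X.presheaf.stalk ((pullback.fst f h).base x')) R) =
      (algebraMap ((pullback f h).presheaf.stalk x') R').comp ((pullback.fst f h).stalkMap x').hom)
    (hm : Spec.map (CommRingCat.ofHom (algebraMap R R')) ≫ Hens2.specOf X ((pullback.fst f h).base x') R =
      Hens2.specOf (pullback f h) x' R' ≫ pullback.fst f h)
    (C : Type) [Group C] [Finite C] :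
    letI m : Spec (CommRingCat.of R') ⟶ Spec (CommRingCat.of R) := Spec.map (CommRingCat.ofHom (algebraMap R R'))
    letI φb : Fin r → Γ(Spec (CommRingCat.of R), ⊤) := fun i => (Hens2.specOf X ((pullback.fst f h).base x') R).appTop (φ i)
    letI φb' : Fin r → Γ(Spec (CommRingCat.of R'), ⊤) := fun i =>
      (Hens2.specOf (pullback f h) x' R').appTop ((pullback.fst f h).appTop (φ i))
    ∀ (hle : SGA1t.compl φb' ≤ m ⁻¹ᵁ SGA1t.compl φb)
      (P Q : FEt.Cat (SGA1t.compl φb : Scheme.{u})) (ρ : C →* Aut P) (τ : C →* Aut Q),
      SGA1t.IsPrincipal C P ρ → SGA1t.IsPrincipal C Q τ →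
      SGA1t.IsRelTame (Hens2.specOf X ((pullback.fst f h).base x') R ≫ f) φb P →
      SGA1t.IsRelTame (Hens2.specOf X ((pullback.fst f h).base x') R ≫ f) φb Q →
      (∃ e' : (FEt.restrict (m.resLE (SGA1t.compl φb) (SGA1t.compl φb') hle)).obj P ≅
          (FEt.restrict (m.resLE (SGA1t.compl φb) (SGA1t.compl φb') hle)).obj Q,
        ∀ g : C, (FEt.restrict (m.resLE (SGA1t.compl φb) (SGA1t.compl φb') hle)).map (ρ g).hom ≫ e'.hom =
          e'.hom ≫ (FEt.restrict (m.resLE (SGA1t.compl φb) (SGA1t.compl φb') hle)).map (τ g).hom) →
      ∃ e : P ≅ Q, ∀ g : C, (ρ g).hom ≫ e.hom = e.hom ≫ (τ g).hom := by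
  exact Groth.Agent.Pi1.H415.S3715_of.main.{u} (@Groth.Agent.S3689.result.{u}) (@Groth.Agent.S3692.result.{u})
    f h φ hD x' R R' hRR' hm C

end Groth.Agent.S3715
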