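import Groth.Statements.S3717
import Groth.Agent.Pi1.H417.Glue
import Groth.Agent.Pi1.H416.SHLocal
import Groth.Agent.Pi1.H416.SHProper

set_option autoImplicit false
open CategoryTheory CategoryTheory.Limits AlgebraicGeometry
universe u
open SGA1t

namespace Groth.Agent.S3717

/-- Base change in degree 1 for principal covers of the complement of a relative strict normal crossings
divisor, injectivity half. Let f : X → S be proper and of finite presentation, φ₁, …, φ_r global
functions on X cutting out a strict normal crossings divisor relative to S with complement U, q : U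
→ S the structure morphism, C a finite group whose order is invertible on S, h : S' → S any morphism
and s' a point of S'. Let R and R' be strict henselisations of O_{S,h(s')} and O_{S',s'} with a
compatible local map R → R'; let X̄ = X ×_S Spec R with the pulled-back functions and Ū their
complement (so Ū = U ×_S Spec R), and likewise X̄' = X̄ ×_R Spec R' and Ū', which lies inside the
inverse image of Ū (hypothesis hle). Then two principal C-covers of Ū whose pullbacks to Ū' are
C-equivariantly isomorphic are C-equivariantly isomorphic. (The stalks of R¹q_*C at the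
corresponding geometric points are the sets of isomorphism classes of principal C-covers of Ū and
Ū', so this is the injectivity of the base-change map on those stalks. The published statement is
more general; this is its special case for a constant finite group, with its auxiliary base equal to
S.) -/
theorem result {X S S' : Scheme.{u}} (f : X ⟶ S) [IsProper f] [LocallyOfFinitePresentation f] {r : ℕ} (φ : Fin r → Γ(X, ⊤))
    (hD : SGA1t.IsRelSNC f φ) (h : S' ⟶ S) (s' : S')
    (R : Type u) [CommRing R] [IsLocalRing R] [Algebra (S.presheaf.stalk (h.base s')) R]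
    [IsLocalHom (algebraMap (S.presheaf.stalk (h.base s')) R)] [Hensel.IsStrictHenselization (S.presheaf.stalk (h.base s')) R]
    (R' : Type u) [CommRing R'] [IsLocalRing R'] [Algebra (S'.presheaf.stalk s') R']
    [IsLocalHom (algebraMap (S'.presheaf.stalk s') R')] [Hensel.IsStrictHenselization (S'.presheaf.stalk s') R']
    [Algebra R R'] (hRR' : (algebraMap R R').comp (algebraMap (S.presheaf.stalk (h.base s')) R) =
      (algebraMap (S'.presheaf.stalk s') R').comp (h.stalkMap s').hom)
    (C : Type) [Group C] [Finite C] (hC : ∀ s : S, IsUnit ((Nat.card C : ℕ) : S.residueField s)) :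
    letI σ := Hens2.specOf S (h.base s') R
    letI m : Spec (CommRingCat.of R') ⟶ Spec (CommRingCat.of R) := Spec.map (CommRingCat.ofHom (algebraMap R R'))
    letI fb := pullback.snd f σ
    letI φbar : Fin r → Γ(pullback f σ, ⊤) := fun i => (pullback.fst f σ).appTop (φ i)
    letI kb := pullback.fst fb m
    letI φbar' : Fin r → Γ(pullback fb m, ⊤) := fun i => kb.appTop (φbar i)
    ∀ (hle : SGA1t.compl φbar' ≤ kb ⁻¹ᵁ SGA1t.compl φbar)
      (P Q : FEt.Cat (SGA1t.compl φbar : Scheme.{u})) (ρ : C →* Aut P) (τ : C →* Aut Q),
      SGA1t.IsPrincipal C P ρ → SGA1t.IsPrincipal C Q τ →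
      (∃ e' : (FEt.restrict (kb.resLE (SGA1t.compl φbar) (SGA1t.compl φbar') hle)).obj P ≅
          (FEt.restrict (kb.resLE (SGA1t.compl φbar) (SGA1t.compl φbar') hle)).obj Q,
        ∀ g : C, (FEt.restrict (kb.resLE (SGA1t.compl φbar) (SGA1t.compl φbar') hle)).map (ρ g).hom ≫ e'.hom =
          e'.hom ≫ (FEt.restrict (kb.resLE (SGA1t.compl φbar) (SGA1t.compl φbar') hle)).map (τ g).hom) →
      ∃ e : P ≅ Q, ∀ g : C, (ρ g).hom ≫ e.hom = e.hom ≫ (τ g).hom := by
  intro hle P Q ρ τ _ _ he
  have hφ := Groth.Agent.Pi1.H417.ComplTop.compl_eq_top f φ hD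
  have h1 := Groth.Agent.Pi1.H417.Glue.compl_appTop_eq_top
    (pullback.fst f (Hens2.specOf S (h.base s') R)) φ hφ
  have h2 := Groth.Agent.Pi1.H417.Glue.compl_appTop_eq_top
    (pullback.fst (pullback.snd f (Hens2.specOf S (h.base s') R))
      (Spec.map (CommRingCat.ofHom (algebraMap R R')))) _ h1
  have hh : HenselianLocalRing R :=
    (inferInstance : Hensel.IsStrictHenselization (S.presheaf.stalk (h.base s')) R).henselian
  have hh' : HenselianLocalRing R' :=
    (inferInstance : Hensel.IsStrictHenselization (S'.presheaf.stalk s') R').henselian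
  have hs : IsSepClosed (IsLocalRing.ResidueField R) :=
    Groth.Agent.Pi1.H416.SHLocal.isSepClosed_residueField (S.presheaf.stalk (h.base s')) R
  have hs' : IsSepClosed (IsLocalRing.ResidueField R') :=
    Groth.Agent.Pi1.H416.SHLocal.isSepClosed_residueField (S'.presheaf.stalk s') R'
  have hloc : IsLocalHom (algebraMap R R') :=
    Groth.Agent.Pi1.H416.SHLocal.isLocalHom (h.stalkMap s').hom (algebraMap R R') hRR'
  have : (FEt.restrict (pullback.fst (pullback.snd f (Hens2.specOf S (h.base s') R))
      (Spec.map (CommRingCat.ofHom (algebraMap R R'))))).IsEquivalence :=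
    Groth.Agent.Pi1.H416.SHProper.restrict_isEquivalence R R'
      (pullback.snd f (Hens2.specOf S (h.base s') R))
  have h3 := Groth.Agent.Pi1.H417.Glue.isEquivalence_resLE (pullback.fst (pullback.snd f (Hens2.specOf S (h.base s') R))
      (Spec.map (CommRingCat.ofHom (algebraMap R R')))) _ _ hle h1 h2
  exact Groth.Agent.Pi1.H417.Glue.exists_iso_of_restrict _ P Q ρ τ he

end Groth.Agent.S3717
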