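import Groth.Statements.S3719
import Groth.Agent.Pi1.H419.HypConn
import Groth.Agent.Pi1A.NormalEtale
-- import your own Groth.Agent.* helpers here

set_option autoImplicit false
universe u
open Pi1

namespace Groth.Agent.S3719

open AlgebraicGeometry CategoryTheory CategoryTheory.Limits in
theorem surjective_of_finite_etale {X Y : Scheme.{u}} [ConnectedSpace X] [ConnectedSpace Y] (f : Y ⟶ X)
    [IsFinite f] [Etale f] : Function.Surjective f := by
  have h1 : IsOpen (Set.range f) := f.isOpenMap.isOpen_range
  have h2 : IsClosed (Set.range f) := f.isClosedMap.isClosed_range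
  have h3 : Set.range f = Set.univ := IsClopen.eq_univ ⟨h2, h1⟩ (Set.range_nonempty _)
  exact Set.range_eq_univ.mp h3

open AlgebraicGeometry CategoryTheory CategoryTheory.Limits in
/-- Let k be algebraically closed, X a proper, irreducible, normal k-scheme, g : X -> P^r_k a k-morphism
whose image has closure of dimension at least 2, H the hyperplane where a nonzero linear form ℓ
vanishes, and X' a connected finite etale cover of X. Then the inverse image of H in X' is
connected. (For X' = X this is the connectedness of the hyperplane section Y = g⁻¹(H), and the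
general case is the surjectivity of the fundamental group of Y onto that of X.) -/
theorem result (k : Type u) [Field k] [IsAlgClosed k] (X : Scheme.{u})
    [X.Over (Spec (CommRingCat.of k))] [IsProper (X ↘ Spec (CommRingCat.of k))] [IrreducibleSpace X]
    (hN : Pi1.IsNormalScheme X) (r : ℕ) (g : X ⟶ CohB1.ProjSpace r k)
    (hg : g ≫ CohB1.ProjSpace.toSpec r k = X ↘ Spec (CommRingCat.of k))
    (hdim : 2 ≤ topologicalKrullDim ↥(closure (Set.range g.base)))
    (ℓ : MvPolynomial (Fin (r + 1)) k) (hℓ : ℓ ∈ CohB1.polyGrading r k 1) (hℓ0 : ℓ ≠ 0)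
    (X' : FEt.Cat X) [ConnectedSpace X'.left] :
    IsConnected (((X'.hom ≫ g).base ⁻¹' (Proj.basicOpen (CohB1.polyGrading r k) ℓ).carrier)ᶜ) := by
  have hred : IsReduced X := by
    have : ∀ x : X, _root_.IsReduced (X.presheaf.stalk x) := fun x => by
      have := (hN x).1
      infer_instance
    exact isReduced_of_isReduced_stalk X
  have hint : IsIntegral X := isIntegral_of_irreducibleSpace_of_isReduced X
  have hfin : IsFinite X'.hom := X'.prop.1
  have het : Etale X'.hom := X'.prop.2
  have hN' : Pi1.IsNormalScheme X'.left :=
    Groth.Agent.Pi1A.NormalEtale.isDomain_stalk_and_isIntegrallyClosed_stalk hN X'.hom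
  have hint' : IsIntegral X'.left := Groth.Agent.Pi1A.NormalEtale.isIntegral_of_connectedSpace hN X'.hom
  have hp : IsProper ((X'.hom ≫ g) ≫ CohB1.ProjSpace.toSpec r k) := by
    rw [Category.assoc, hg]
    exact MorphismProperty.comp_mem (W := @IsProper) _ _ inferInstance inferInstance
  have hsurj : Function.Surjective X'.hom :=
    surjective_of_finite_etale (X := X) (Y := X'.left) X'.hom
  have hdim' : 2 ≤ topologicalKrullDim ↥(closure (Set.range (X'.hom ≫ g))) := by
    have h4 : Set.range (X'.hom ≫ g) = Set.range g := by
      rw [Scheme.Hom.comp_base, TopCat.coe_comp]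
      exact hsurj.range_comp g
    rw [h4]
    exact hdim
  exact Groth.Agent.Pi1.H419.HypConn.isConnected_preimage_hyperplane k hN' r (X'.hom ≫ g) hp hdim' ℓ hℓ

end Groth.Agent.S3719
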