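import Groth.Statements.S3730
import Groth.Agent.Etdl.H429.Main
-- import your own Groth.Agent.* helpers here

set_option autoImplicit false
universe u
open CategoryTheory CategoryTheory.Limits MonoidalCategory CartesianMonoidalCategory MonObj GrpObj AlgebraicGeometry
open EtDl

namespace Groth.Agent.S3730

/-- Let f : X -> S be a proper flat morphism such that, after every base change g : S' -> S with f' : X'
= X x_S S' -> S', the maps O_{S'}(V) -> O_{X'}(f'^{-1} V) are bijective for all opens V of S' and
R^1 f'_* O_{X'} = 0 (first higher direct image of the underlying abelian sheaf on the underlying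
spaces). Let G be an S-group scheme of finite type. Then every S-morphism X -> G is the composite of
f with a section of G over S. -/
theorem result {X S : Scheme.{u}} (f : X ⟶ S) [IsProper f] [Flat f]
    (h0 : ∀ (S' : Scheme.{u}) (g : S' ⟶ S) (V : S'.Opens), IsIso ((pullback.snd f g).app V))
    (h1 : ∀ (S' : Scheme.{u}) (g : S' ⟶ S),
      IsZero ((Coh.RpushAb (pullback.snd f g) 1).obj (Coh.toAb (Coh.structureModule (pullback f g)))))
    (G : Over S) [GrpObj G] [LocallyOfFiniteType G.hom] [QuasiCompact G.hom]
    (φ : X ⟶ G.left) (hφ : φ ≫ G.hom = f) :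
    ∃ σ : S ⟶ G.left, σ ≫ G.hom = 𝟙 S ∧ φ = f ≫ σ := by
  exact Groth.Agent.Etdl.H429.Main.main f h0 (Groth.Agent.Etdl.H429.Main.fibH1_of_isZero f h1) G φ hφ

end Groth.Agent.S3730
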