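import Groth.Statements.S3731
import Mathlib.Algebra.Homology.DerivedCategory.TStructure
-- import your own Groth.Agent.* helpers here

set_option autoImplicit false
universe u v
open CategoryTheory CategoryTheory.Limits
attribute [local instance] HasDerivedCategory.standard
open EtDl

namespace Groth.Agent.S3731

open DerivedCategory Pretriangulated

section Aux

universe w v' u'
variable {A : Type u'} [Category.{v'} A] [Abelian A] [HasDerivedCategory.{w} A]

/-- A morphism from an object of `D^{≤ m}` to an object of `D^{≥ m}` which is zero on `H^m` is zero. -/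
lemma eq_zero_of_homology_map_eq_zero (m : ℤ) {X Y : DerivedCategory A} (f : X ⟶ Y)
    (hX : X.IsLE m) (hY : Y.IsGE m)
    (hf : (homologyFunctor A m).map f = 0) : f = 0 := by
  obtain ⟨X₁, X₂, hX₁, hX₂, i, p, d, hT⟩ :=
    (TStructure.t (C := A)).exists_triangle X (m - 1) m (by omega)
  have hX₁' : X₁.IsLE (m - 1) := ⟨hX₁⟩
  have hX₂' : X₂.IsGE m := ⟨hX₂⟩
  have hX₂'' : X₂.IsLE m := by
    rw [isLE_iff]
    intro j hj
    exact (HomologySequence.exact₃ _ hT j (j + 1) rfl).isZero_of_both_zeros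
      ((X.isZero_of_isLE m j hj).eq_of_src _ _)
      ((X₁.isZero_of_isLE (m - 1) (j + 1) (by omega)).eq_of_tgt _ _)
  obtain ⟨g, hg⟩ : ∃ g : X₂ ⟶ Y, f = p ≫ g :=
    Triangle.yoneda_exact₂ _ hT f
      (TStructure.t.zero_of_isLE_of_isGE (X := X₁) (Y := Y) _ (m - 1) m (by omega) hX₁' hY)
  have hp : Epi ((homologyFunctor A m).map p) :=
    (HomologySequence.epi_homologyMap_mor₂_iff _ hT m (m + 1) rfl).2
      ((X₁.isZero_of_isLE (m - 1) (m + 1) (by omega)).eq_of_tgt _ _)
  have hg0 : (homologyFunctor A m).map g = 0 := by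
    rw [← cancel_epi ((homologyFunctor A m).map p), ← Functor.map_comp, ← hg, hf, comp_zero]
  obtain ⟨Y₁, Y₂, hY₁, hY₂, j, q, d', hT'⟩ :=
    (TStructure.t (C := A)).exists_triangle Y m (m + 1) (by omega)
  have hY₁' : Y₁.IsLE m := ⟨hY₁⟩
  have hY₂' : Y₂.IsGE (m + 1) := ⟨hY₂⟩
  have hY₁'' : Y₁.IsGE m := by
    rw [isGE_iff]
    intro l hl
    exact (HomologySequence.exact₁ _ hT' (l - 1) l (by omega)).isZero_of_both_zeros
      ((Y₂.isZero_of_isGE (m + 1) (l - 1) (by omega)).eq_of_src _ _)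
      ((Y.isZero_of_isGE m l hl).eq_of_tgt _ _)
  obtain ⟨h, hh⟩ : ∃ h : X₂ ⟶ Y₁, g = h ≫ j :=
    Triangle.coyoneda_exact₂ _ hT' g
      (TStructure.t.zero_of_isLE_of_isGE (X := X₂) (Y := Y₂) _ m (m + 1) (by omega) hX₂'' hY₂')
  have hj : Mono ((homologyFunctor A m).map j) :=
    (HomologySequence.mono_homologyMap_mor₁_iff _ hT' (m - 1) m (by omega)).2
      ((Y₂.isZero_of_isGE (m + 1) (m - 1) (by omega)).eq_of_src _ _)
  have hh0 : (homologyFunctor A m).map h = 0 := by
    rw [← cancel_mono ((homologyFunctor A m).map j), ← Functor.map_comp, ← hh, hg0, zero_comp]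
  obtain ⟨B, ⟨e⟩⟩ := X₂.exists_iso_singleFunctor_obj_of_isGE_of_isLE m
  obtain ⟨C, ⟨e'⟩⟩ := Y₁.exists_iso_singleFunctor_obj_of_isGE_of_isLE m
  obtain ⟨θ, hθ⟩ := (singleFunctor A m).map_surjective (e.inv ≫ h ≫ e'.hom)
  have hθ0 : θ = 0 := by
    have h1 := NatIso.naturality_1 (singleFunctorCompHomologyFunctorIso A m) θ
    rw [Functor.id_map] at h1
    rw [← h1, Functor.comp_map, hθ, Functor.map_comp, Functor.map_comp, hh0]
    simp
  have hh1 : h = 0 := by
    rw [← cancel_epi e.inv, ← cancel_mono e'.hom, Category.assoc, ← hθ, hθ0]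
    simp
  rw [hg, hh, hh1]
  simp

/-- A morphism out of an object of `D^{≤ m}` which is zero on `H^m` factors through an object of
`D^{≤ m - 1}`. -/
lemma exists_factor (m m' : ℤ) (hm : m' + 1 = m) {X Y : DerivedCategory A} (f : X ⟶ Y)
    (hX : X.IsLE m) (hf : (homologyFunctor A m).map f = 0) :
    ∃ (X' : DerivedCategory A) (_ : X'.IsLE m') (a : X ⟶ X') (b : X' ⟶ Y), f = a ≫ b := by
  obtain ⟨Y₁, Y₂, hY₁, hY₂, j, q, d', hT'⟩ :=
    (TStructure.t (C := A)).exists_triangle Y m' m hm
  have hY₁' : Y₁.IsLE m' := ⟨hY₁⟩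
  have hY₂' : Y₂.IsGE m := ⟨hY₂⟩
  have h0 : f ≫ q = 0 := by
    apply eq_zero_of_homology_map_eq_zero m _ hX hY₂'
    rw [Functor.map_comp, hf, zero_comp]
  obtain ⟨h, hh⟩ : ∃ h : X ⟶ Y₁, f = h ≫ j := Triangle.coyoneda_exact₂ _ hT' f h0
  exact ⟨Y₁, hY₁', h, j, hh⟩

end Aux

/-- Let A be an abelian category, k ≥ 0, and K_0 -> K_1 -> ... -> K_{2k} a chain of 2k morphisms in the
derived category of A such that every K_i has H^p(K_i) = 0 for p outside [0, k] and every morphism
K_i -> K_{i+1} induces the zero map on H^p for all p < k. Let π : K_0 -> H^k(K_0)[-k] be the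
morphism to the top cohomology object placed in degree k that induces the identity on H^k. Then the
composite K_0 -> K_{2k} factors through π. -/
theorem result {A : Type u} [Category.{v} A] [Abelian A] (k : ℕ)
    (K : ComposableArrows (DerivedCategory A) (2 * k))
    (hK : ∀ (i : ℕ) (hi : i ≤ 2 * k) (p : ℤ), p < 0 ∨ (k : ℤ) < p →
      IsZero ((DerivedCategory.homologyFunctor A p).obj (K.obj' i)))
    (hf : ∀ (i : ℕ) (hi : i < 2 * k) (p : ℤ), p < (k : ℤ) →
      (DerivedCategory.homologyFunctor A p).map (K.map' i (i + 1)) = 0)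
    (π : K.obj' 0 ⟶ (DerivedCategory.singleFunctor A (k : ℤ)).obj
      ((DerivedCategory.homologyFunctor A (k : ℤ)).obj (K.obj' 0)))
    (hπ : (DerivedCategory.homologyFunctor A (k : ℤ)).map π ≫
      (DerivedCategory.singleFunctorCompHomologyFunctorIso A (k : ℤ)).hom.app
        ((DerivedCategory.homologyFunctor A (k : ℤ)).obj (K.obj' 0)) = 𝟙 _) :
    ∃ φ : (DerivedCategory.singleFunctor A (k : ℤ)).obj
        ((DerivedCategory.homologyFunctor A (k : ℤ)).obj (K.obj' 0)) ⟶ K.obj' (2 * k),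
      K.map' 0 (2 * k) = π ≫ φ := by
  have hK0 := hK 0 (by omega)
  have hiso : IsIso ((DerivedCategory.homologyFunctor A (k : ℤ)).map π) := by
    have h1 : (DerivedCategory.homologyFunctor A (k : ℤ)).map π =
      (DerivedCategory.singleFunctorCompHomologyFunctorIso A (k : ℤ)).inv.app
        ((DerivedCategory.homologyFunctor A (k : ℤ)).obj (K.obj' 0)) := by
      rw [← cancel_mono ((DerivedCategory.singleFunctorCompHomologyFunctorIso A (k : ℤ)).hom.app
        ((DerivedCategory.homologyFunctor A (k : ℤ)).obj (K.obj' 0))), hπ]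
      simp
    rw [h1]
    infer_instance
  obtain ⟨F, ι, d, hT⟩ := distinguished_cocone_triangle₁ π
  have hF : F.IsLE ((k : ℤ) - 1) := by
    rw [isLE_iff]
    intro p hp
    rcases eq_or_lt_of_le (show (k : ℤ) ≤ p by omega) with h | h
    · subst h
      refine (HomologySequence.exact₁ _ hT ((k : ℤ) - 1) k (by omega)).isZero_of_both_zeros
        ((isZero_of_isGE ((singleFunctor A (k : ℤ)).obj
          ((homologyFunctor A (k : ℤ)).obj (K.obj' 0))) (k : ℤ) ((k : ℤ) - 1)
          (by omega)).eq_of_src _ _) ?_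
      have h3 : ι ≫ π = 0 := comp_distTriang_mor_zero₁₂ _ hT
      have h2 : (homologyFunctor A (k : ℤ)).map ι ≫ (homologyFunctor A (k : ℤ)).map π = 0 := by
        rw [← Functor.map_comp, h3, Functor.map_zero]
      change (homologyFunctor A (k : ℤ)).map ι = 0
      rw [← cancel_mono ((homologyFunctor A (k : ℤ)).map π)]
      exact h2.trans zero_comp.symm
    · refine (HomologySequence.exact₁ _ hT (p - 1) p (by omega)).isZero_of_both_zeros ?_
        ((hK0 p (Or.inr h)).eq_of_tgt _ _)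
      by_cases h' : p - 1 = (k : ℤ)
      · refine (HomologySequence.epi_homologyMap_mor₂_iff _ hT (p - 1) p (by omega)).1 ?_
        rw [h']
        change Epi ((homologyFunctor A (k : ℤ)).map π)
        infer_instance
      · exact (isZero_of_isLE ((singleFunctor A (k : ℤ)).obj
          ((homologyFunctor A (k : ℤ)).obj (K.obj' 0))) (k : ℤ) (p - 1) (by omega)).eq_of_src _ _
  have key : ∀ (j : ℕ) (hj : j ≤ 2 * k), j ≤ k → ∃ (X' : DerivedCategory A)
      (_ : X'.IsLE ((k : ℤ) - 1 - j)) (a : F ⟶ X') (b : X' ⟶ K.obj' j),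
      ι ≫ K.map' 0 j = a ≫ b := by
    intro j
    induction j with
    | zero =>
      intro hj _
      refine ⟨F, by simpa only [Nat.cast_zero, sub_zero] using hF, 𝟙 _, ι, ?_⟩
      rw [K.map'_self 0, Category.id_comp]
      exact Category.comp_id ι
    | succ j ih =>
      intro hj hj'
      obtain ⟨X', hX', a, b, hab⟩ := ih (by omega) (by omega)
      obtain ⟨X'', hX'', a', b', hab'⟩ := exists_factor ((k : ℤ) - 1 - j)
        ((k : ℤ) - 1 - (j + 1 : ℕ)) (by push_cast; omega) (b ≫ K.map' j (j + 1)) hX' (by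
          rw [Functor.map_comp, hf j (by omega) _ (by omega), comp_zero])
      refine ⟨X'', hX'', a ≫ a', b', ?_⟩
      rw [K.map'_comp 0 j (j + 1), ← Category.assoc, hab, Category.assoc, hab', Category.assoc]
  obtain ⟨X', hX', a, b, hab⟩ := key k (by omega) le_rfl
  have hKk : (K.obj' k).IsGE 0 := by
    rw [isGE_iff]
    intro p hp
    exact hK k (by omega) p (Or.inl hp)
  have hb : b = 0 := TStructure.t.zero_of_isLE_of_isGE b ((k : ℤ) - 1 - k) 0 (by omega) hX' hKk
  have h0 : ι ≫ K.map' 0 (2 * k) = 0 := by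
    rw [K.map'_comp 0 k (2 * k), ← Category.assoc, hab, hb]
    simp
  exact Triangle.yoneda_exact₂ _ hT (K.map' 0 (2 * k)) h0

end Groth.Agent.S3731
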