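import Groth.Statements.S3733
-- import your own Groth.Agent.* helpers here
import Groth.Agent.Etdl.H562.Assemble
import Groth.Agent.Etdl.H494.Main
import Groth.Agent.Etdl.H157.Pencil
import Groth.Agent.Etdl.H118.Gen
import Groth.Agent.Etdl.H153.KumFinal
import Groth.Agent.S0779

set_option autoImplicit false
universe u
open CategoryTheory CategoryTheory.Limits AlgebraicGeometry Opposite
open EtDl

namespace Groth.Agent.S3733

/-- Weak form (existence of an isomorphism only): let k be an algebraically closed field, pbar : Xbar ->
Spec k proper, i : Y -> Xbar a closed subscheme finite over k with ideal m, j : X -> Xbar the open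
immersion of the complement, with X dense in Xbar and smooth of relative dimension 1 over k; let G
be a torsion abelian group every element of which is killed by an integer that is nonzero in k.
Write G_m(m) for the sheaf on the big fppf site of Xbar of units congruent to 1 modulo m, and R^1
pbar_* G_m(m) for its first higher direct image on the big fppf site of Spec k (the generalized
Jacobian functor). Then the group Ext^1(R^1 pbar_* G_m(m), G) of extensions of fppf abelian sheaves
on Spec k is isomorphic to H^1(X_et, G). The published statement is that the CANONICAL map, pulling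
back an extension along the Abel-Jacobi map X -> R^1 pbar_* G_m(m), is an isomorphism (indeed an
equivalence of Picard stacks); that map is not expressible over the present definitions, so only an
abstract isomorphism is asserted here. -/
theorem result (k : Type u) [Field k] [IsAlgClosed k]
    {Xbar Y X : Scheme.{u}} (pbar : Xbar ⟶ Spec (CommRingCat.of k)) [IsProper pbar]
    (i : Y ⟶ Xbar) [IsClosedImmersion i] [IsFinite (i ≫ pbar)]
    (j : X ⟶ Xbar) [IsOpenImmersion j] (hij : Set.range j.base = (Set.range i.base)ᶜ)
    (hdense : Dense (Set.range j.base)) [SmoothOfRelativeDimension 1 (j ≫ pbar)]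
    (G : Type) [AddCommGroup G] (hG : ∀ g : G, ∃ n : ℕ, (n : k) ≠ 0 ∧ n • g = 0) :
    Nonempty (Abelian.Ext.{u + 1} ((EtFppf.RpushBig pbar 1).obj (EtDl.GmMod i))
        (EtDl.constF (Spec (CommRingCat.of k)) G) 1 ≃+
      EtCoh.H X (EtCoh.const X G) 1) := by
  have : EtFppf.ACont Xbar := Groth.Agent.S0779.result Xbar
  have : EtFppf.ACont (Spec (CommRingCat.of k)) := Groth.Agent.S0779.result _
  obtain ⟨a₀, hD3, hD4, hcl⟩ := Groth.Agent.Etdl.H494.exists_alpha pbar i j hij
  refine Groth.Agent.Etdl.H562.Assemble.main k pbar i j hD3 hD4 hcl
    (Groth.Agent.Etdl.H118.Gen.genStmt k pbar i j hij hdense)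
    (Groth.Agent.Etdl.H157.Pencil.pencilStmt pbar i j hij) ?_ G hG
  intro hα n hn
  have hlft : LocallyOfFiniteType (Over.mk (j ≫ pbar)).hom := inferInstanceAs (LocallyOfFiniteType (j ≫ pbar))
  exact Groth.Agent.Etdl.H153.KumFinal.kummer' k pbar i j hij hdense (Over.mk (j ≫ pbar)) a₀ hα n hn

end Groth.Agent.S3733
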