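import Groth.Statements.S3734
import Groth.Agent.Etdl.H433.SuppVanish
import Groth.Agent.Cohder.RDLES

set_option autoImplicit false
universe u
open CategoryTheory CategoryTheory.Limits AlgebraicGeometry Opposite
open EtDl

namespace Groth.Agent.S3734

open Groth.Agent.Etcore Groth.Agent.Sga4B Groth.Agent.Etdl.H433

/-- Let f : X -> S be a morphism of quasi-compact quasi-separated schemes with a compactification c (f =
j_c followed by the proper fbar), all of whose fibres have dimension at most d; let j : U -> X be a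
quasi-compact open immersion and i : Z -> X a closed immersion onto the complement of U such that
every fibre of Z -> S has dimension less than d; and let F be a torsion abelian sheaf on X_et. Then
the canonical map R^{2d}(f j)_! j^* F -> R^{2d} f_! F is an isomorphism. Here both sides are
computed through c — R^{2d} f_! F = R^{2d} fbar_* (j_c)_! F and R^{2d}(f j)_! j^* F = R^{2d} fbar_*
(j_c)_! (j_! j^* F) — and the map is induced by the counit j_! j^* F -> F. -/
theorem result {X S U Z : Scheme.{u}} [CompactSpace ↥X] [QuasiSeparatedSpace ↥X] [CompactSpace ↥S] [QuasiSeparatedSpace ↥S]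
    {f : X ⟶ S} (c : DEt.Compactification f) (d : ℕ)
    (hdim : ∀ s : S, topologicalKrullDim ↥(f.fiber s) ≤ d)
    (j : U ⟶ X) [IsOpenImmersion j] [QuasiCompact j] (i : Z ⟶ X) [IsClosedImmersion i]
    (hij : Set.range j.base = (Set.range i.base)ᶜ)
    (hZ : ∀ s : S, topologicalKrullDim ↥((i ≫ f).fiber s) < d)
    (F : EtCoh.Ab X) (hF : EtCoh.IsTorsion F) :
    IsIso ((EtCoh.Rpush c.fbar (2 * d)).map
      ((EtShriek.extZero c.j).map ((EtShriek.extZeroAdj j).counit.app F))) := by
  have hcompl : IsCompl (Set.range i) (Set.range j) := by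
    have h : Set.range j = (Set.range i)ᶜ := hij
    rw [h]
    exact isCompl_compl
  rcases Nat.eq_zero_or_pos d with rfl | hd
  · -- `Z` is empty
    have hE : IsEmpty Z := by
      refine ⟨fun z => ?_⟩
      have h1 := hZ ((i ≫ f) z)
      let y : ↥((i ≫ f).fiber ((i ≫ f) z)) := ((i ≫ f).fiberHomeo ((i ≫ f) z)).symm ⟨z, rfl⟩
      have h2 : Nonempty (TopologicalSpace.IrreducibleCloseds ↥((i ≫ f).fiber ((i ≫ f) z))) :=
        ⟨⟨closure {y}, isIrreducible_singleton.closure, isClosed_closure⟩⟩
      have h3 : (0 : WithBot ℕ∞) ≤ topologicalKrullDim ↥((i ≫ f).fiber ((i ≫ f) z)) :=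
        Order.krullDim_nonneg
      exact absurd h1 (not_lt.2 (by simpa using h3))
    have hiso : IsIso ((EtShriek.extZeroAdj j).counit.app F) := by
      refine ShriekUnique.isIso_counit_of_isZero_stalks j F fun Ω _ _ ξ h => ?_
      have h1 := h ⟨default, rfl⟩
      have h2 := hcompl.codisjoint.top_le (Set.mem_univ (ξ default))
      rcases h2 with ⟨z, -⟩ | h2
      · exact (hE.false z).elim
      · exact absurd h2 h1
    infer_instance
  obtain ⟨e, rfl⟩ : ∃ e, d = e + 1 := ⟨d - 1, by omega⟩
  -- the compactification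
  have hqs : QuasiSeparatedSpace c.Xbar := by
    have : QuasiSeparated c.fbar := inferInstance
    exact quasiSeparatedSpace_of_quasiSeparated c.fbar
  have hqc : QuasiCompact c.j := inferInstance
  let T : ShortComplex (EtCoh.Ab X) := ShortComplex.mk _ _ (OpenClosed.counit_unit i j hcompl.disjoint F)
  have hT : T.ShortExact := OpenClosed.shortExact i j hcompl F
  have hT' : (T.map (EtShriek.extZero c.j)).ShortExact := hT.map_of_exact _
  have hG : EtCoh.IsTorsion ((EtCoh.pull i).obj F) := TorsionStalks.isTorsion_pull i hF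
  have key : ∀ q, 2 * e < q →
      IsZero ((EtCoh.Rpush c.fbar q).obj (T.map (EtShriek.extZero c.j)).X₃) := by
    intro q hq
    refine SuppVanish.isZero_Rpush_extZero_push c.j c.fbar i e (fun s => ?_) _ hG q hq
    rw [c.fac]
    have h1 := hZ s
    exact ENat.WithBot.lt_add_one_iff.1 (by exact_mod_cast h1)
  obtain ⟨-, hmid, δ, hδ⟩ := Groth.Agent.Cohder.RDLES.exists_les (EtCoh.push c.fbar) hT'
  have hn : 2 * (e + 1) = 2 * e + 1 + 1 := by ring
  rw [hn]
  obtain ⟨w₁, w₂, -, hex⟩ := hδ (2 * e + 1)
  have hmono : Mono ((EtCoh.Rpush c.fbar (2 * e + 1 + 1)).map (T.map (EtShriek.extZero c.j)).f) :=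
    hex.mono_g ((key (2 * e + 1) (by omega)).eq_of_src _ _)
  have w : (EtCoh.Rpush c.fbar (2 * e + 1 + 1)).map (T.map (EtShriek.extZero c.j)).f ≫
      (EtCoh.Rpush c.fbar (2 * e + 1 + 1)).map (T.map (EtShriek.extZero c.j)).g = 0 :=
    (key (2 * e + 1 + 1) (by omega)).eq_of_tgt _ _
  have hepi : Epi ((EtCoh.Rpush c.fbar (2 * e + 1 + 1)).map (T.map (EtShriek.extZero c.j)).f) :=
    (hmid (2 * e + 1 + 1) w).epi_f ((key (2 * e + 1 + 1) (by omega)).eq_of_tgt _ _)
  exact (isIso_of_mono_of_epi
    ((EtCoh.Rpush c.fbar (2 * e + 1 + 1)).map (T.map (EtShriek.extZero c.j)).f) :)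

end Groth.Agent.S3734
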