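import Groth.Statements.S3738
import Groth.Agent.Etdl.H437.Assemble
import Groth.Agent.Sga4B.PurityMainB
import Groth.Agent.Sga4B.PureComp
-- import your own Groth.Agent.* helpers here

set_option autoImplicit false
universe u
open CategoryTheory CategoryTheory.Limits AlgebraicGeometry Opposite
open EtDl

namespace Groth.Agent.S3738

/-- Cohomological purity, vanishing part, in characteristic zero. Let k be an algebraically closed field
of characteristic zero, A = k[[x_1, …, x_m]], X = Spec A (so Γ(X, O_X) = A), and y_1, …, y_c global
functions on X such that Γ(X, O_X)/(y_1, …, y_c) is a regular local ring of dimension m − c (so Y =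
V(y_1, …, y_c) ⊂ X is a regular pair of codimension c); let U = X − Y, the union of the basic opens
D(y_i), and n ≥ 1. Then the local cohomology groups H^q_Y(X, ℤ/n) vanish for q ≠ 2c, and H^{2c}_Y(X,
ℤ/n) is isomorphic to ℤ/n (canonically it is ℤ/n(−c); only an abstract isomorphism is asserted). X
being strictly local, these groups are the stalks of the local cohomology sheaves. The published
statement is for excellent schemes of equal characteristic under a resolution-of-singularities
hypothesis, which holds in characteristic zero; hence the statement here for a formal power series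
ring over an algebraically closed field of characteristic zero, which is excellent and strictly
local. -/
theorem result (k : Type u) [Field k] [IsAlgClosed k] [CharZero k]
    (m c : ℕ) (y : Fin c → Γ(Spec (CommRingCat.of (MvPowerSeries (Fin m) k)), ⊤))
    (hreg : IsRegularLocalRing (Γ(Spec (CommRingCat.of (MvPowerSeries (Fin m) k)), ⊤) ⧸ Ideal.span (Set.range y)))
    (hcodim : ringKrullDim (Γ(Spec (CommRingCat.of (MvPowerSeries (Fin m) k)), ⊤) ⧸ Ideal.span (Set.range y)) + c = m)
    (n : ℕ) (hn : 0 < n) :
    (∀ q : ℕ, q ≠ 2 * c → IsZero ((EtDual.HY (⨆ i : Fin c, (Spec (CommRingCat.of (MvPowerSeries (Fin m) k))).basicOpen (y i)).ι q).obj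
      (EtCoh.const (Spec (CommRingCat.of (MvPowerSeries (Fin m) k))) (ZMod n)))) ∧
    Nonempty (↑((EtDual.HY (⨆ i : Fin c, (Spec (CommRingCat.of (MvPowerSeries (Fin m) k))).basicOpen (y i)).ι (2 * c)).obj
      (EtCoh.const (Spec (CommRingCat.of (MvPowerSeries (Fin m) k))) (ZMod n))) ≃+ ZMod n) := by
  have : NeZero n := ⟨hn.ne'⟩
  have hnk : IsUnit (n : k) := isUnit_iff_ne_zero.2 (Nat.cast_ne_zero.2 hn.ne')
  exact Groth.Agent.Etdl.H437.Assemble.result k m c n y hreg hcodim
    (Groth.Agent.Sga4B.PureTower.tower (Groth.Agent.Sga4B.PurityMainB.stmtLine n)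
      (Groth.Agent.Sga4B.PureComp.stmtComp n) c k hnk) hnk

end Groth.Agent.S3738
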