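import Groth.Statements.S3740
import Groth.Agent.Etdl.H439.Asm
-- import your own Groth.Agent.* helpers here

set_option autoImplicit false
universe u
open CategoryTheory CategoryTheory.Limits AlgebraicGeometry Opposite
open TensorProduct DirectSum
open EtDl

namespace Groth.Agent.S3740

/-- Künneth formula for cohomology with proper support over an algebraically closed field k,
coefficients ℤ/ℓ for a prime ℓ nonzero in k, weak form (existence of an isomorphism only): let X ⊂
Xbar and Y ⊂ Ybar be open subschemes of proper k-schemes, and X x_k Y -> P an open immersion over k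
into a proper k-scheme; write H^m_c(-, ℤ/ℓ) for the cohomology, on the chosen compactification, of
the extension by zero of the constant sheaf ℤ/ℓ. Then for every m, H^m_c(X x_k Y, ℤ/ℓ) is isomorphic
to the direct sum over p + q = m of H^p_c(X, ℤ/ℓ) ⊗_ℤ H^q_c(Y, ℤ/ℓ). (The published statement is
that the Künneth map in the derived category, for arbitrary compactifiable morphisms, torsion
coefficient sheaves and complexes, is an isomorphism; that map is not expressible over the present
definitions, so only an abstract isomorphism is asserted here, in the field-coefficient case where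
no Tor terms occur.) -/
theorem result (k : Type u) [Field k] [IsAlgClosed k]
    {X Y Xbar Ybar P : Scheme.{u}} (a : Xbar ⟶ Spec (CommRingCat.of k)) [IsProper a]
    (jX : X ⟶ Xbar) [IsOpenImmersion jX] (b : Ybar ⟶ Spec (CommRingCat.of k)) [IsProper b]
    (jY : Y ⟶ Ybar) [IsOpenImmersion jY] (p : P ⟶ Spec (CommRingCat.of k)) [IsProper p]
    (jXY : pullback (jX ≫ a) (jY ≫ b) ⟶ P) [IsOpenImmersion jXY]
    (hp : jXY ≫ p = pullback.fst (jX ≫ a) (jY ≫ b) ≫ jX ≫ a)
    (ℓ : ℕ) [Fact ℓ.Prime] (hℓ : (ℓ : k) ≠ 0) (m : ℕ) :
    Nonempty (EtCoh.H P ((EtShriek.extZero jXY).obj (EtCoh.const (pullback (jX ≫ a) (jY ≫ b)) (ZMod ℓ))) m ≃+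
      ⨁ (i : Fin (m + 1)), (EtCoh.H Xbar ((EtShriek.extZero jX).obj (EtCoh.const X (ZMod ℓ))) i ⊗[ℤ]
        EtCoh.H Ybar ((EtShriek.extZero jY).obj (EtCoh.const Y (ZMod ℓ))) (m - i))) := by
  exact Groth.Agent.Etdl.H439.Asm.kunneth k a jX b jY p jXY hp ℓ m

end Groth.Agent.S3740
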