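import Groth.Statements.S3745
import Groth.Agent.Krr.H444.LFPerf

set_option autoImplicit false
universe v u
open CategoryTheory CategoryTheory.Limits AlgebraicGeometry
attribute [local instance] HasDerivedCategory.standard
open KRR

namespace Groth.Agent.S3745

open Groth.Agent.Cohder.KZBasic Groth.Agent.Krr.H444.LFTrunc Groth.Agent.Krr.H444.LFClass
  Groth.Agent.Krr.H444.LFPerf

theorem mapSub_cl {A B : Type*} [Category A] [Abelian A] [Category B] [Abelian B] (F : A ⥤ B) [F.Additive]
    [PreservesFiniteLimits F] [PreservesFiniteColimits F] (P : ObjectProperty A) (Q : ObjectProperty B)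
    (h : ∀ X, P X → Q (F.obj X)) {M : A} (hM : P M) :
    SGA6.mapSub F P Q h (KZero.clSub P M) = KZero.clSub Q (F.obj M) := by
  rw [clSub_of P hM, clSub_of Q (h M hM)]
  rfl

/-- Let X be a Noetherian scheme on which every coherent module is a quotient of a finite locally free
module. Then the homomorphism from K₀ of finite locally free O_X-modules to K₀ of the coherent
O_X-modules admitting a finite resolution by finite locally free modules, induced by the inclusion
of categories (the argument h records that inclusion), is bijective. (Its inverse sends the class of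
such a module to the alternating sum of the classes of the terms of any finite locally free
resolution. The source's standing connectedness assumption plays no role here and is omitted.) -/
theorem result (X : Scheme.{u}) [IsNoetherian X] (hX : KRR.HasEnoughLocFree X)
    (h : ∀ M : X.Modules, FlatMod.IsFinLocFree M → Coh.IsCoh M ∧ KRR.HasLFRes M) :
    Function.Bijective (SGA6.mapSub (𝟭 X.Modules) (KRR.vbP X) (fun M : X.Modules => Coh.IsCoh M ∧ KRR.HasLFRes M) h) := by
  let Q : ObjectProperty X.Modules := fun M : X.Modules => Coh.IsCoh M ∧ KRR.HasLFRes M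
  constructor
  · obtain ⟨χ, h₁, h₂, h₃⟩ := exists_class X hX
    let g : KZero.K0sub Q →+ SGA6.Kvb X :=
      liftSub Q (fun M => χ M.1) (fun S k₁ k₂ k₃ hS => h₂ S hS k₁.2 k₂.2 k₃.2)
    have hg : g.comp (SGA6.mapSub (𝟭 X.Modules) (KRR.vbP X) Q h) = AddMonoidHom.id _ := by
      apply hom_ext_sub
      intro E hE
      rw [AddMonoidHom.comp_apply, mapSub_cl _ _ _ _ hE]
      exact (liftSub_cl Q _ _ (h E hE)).trans (h₁ E hE)
    exact Function.LeftInverse.injective (g := g) (fun x => DFunLike.congr_fun hg x)
  · rw [← AddMonoidHom.range_eq_top, eq_top_iff, ← closure_sub Q, AddSubgroup.closure_le]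
    rintro x ⟨M, hM, rfl⟩
    obtain ⟨n, L, π, hL⟩ := hM.2
    rw [SetLike.mem_coe, clSub_eq_sum (V := KRR.vbP X) (P := Q) (fun Z hZ => ⟨Groth.Agent.Sga67.CohBasic.isCoh_of_isZero hZ,
      hasLFRes_of_isZero hZ⟩) h
      (fun n F L π hF hL => ⟨Groth.Agent.Sga67.CohBasic.isCoh_kernel _ (h _ (hL.mem 0)).1 hF.1.1,
        n, _, _, isLFRes_of_isRes (isRes_trunc hL)⟩) n M L π hM (isRes_of_isLFRes hL)]
    refine sum_mem fun k _ => zsmul_mem ?_ _
    exact ⟨KRR.cl X (L.X k), mapSub_cl _ _ _ _ (hL.finLocFree k)⟩

end Groth.Agent.S3745
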