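import Groth.Statements.S3751
import Groth.Agent.Krr.H450.Main
import Groth.Agent.Krr.H473.QProj

set_option autoImplicit false
universe v u
open CategoryTheory CategoryTheory.Limits AlgebraicGeometry
attribute [local instance] HasDerivedCategory.standard
open KRR

namespace Groth.Agent.S3751

/-- Let S be an affine Noetherian scheme, Y a connected scheme quasi-projective over S, and f : X ⟶ Y a
regular closed imbedding with X connected, whose conormal module C is finite locally free of rank d.
Let (KX, PX, φX), (KY, PY, φY) be models of the λ-rings K(X), K(Y) and h = f_K the push-forward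
(alternating sum of a finite locally free resolution of f_*F). Then for every j ≥ 1 and x ∈ K(X),
ψ^j (f_K x) = f_K (θ^j([C]) · ψ^j x), where ψ^j is the j-th Adams operation and θ^j([C]) is Bott's
cannibalistic class of the positive element [C] (the universal polynomial in the λ^i[C] whose value
on a sum of line elements u_1 + ⋯ + u_d is Π (1 + u_i + ⋯ + u_i^{j-1})). No denominators are needed. -/
theorem result (S : Scheme.{u}) [IsAffine S] [IsNoetherian S] {X Y : Scheme.{u}} [IsNoetherian Y] [ConnectedSpace ↥Y] (qY : Y ⟶ S) (hqY : KRR.IsQProjOver qY)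
    (f : X ⟶ Y) (hf : Mor2.IsRegularClosedImmersion f) [ConnectedSpace ↥X] (d : ℕ)
    (hC : FlatMod.IsFinLocFreeOfRank d (Omega.conormal f))
    (KX : Type v) [CommRing KX] [LambdaRing.LambdaOps KX] (PX : LambdaRing.PosStructure KX) (φX : SGA6.Kvb X →+ KX) (hKX : KRR.IsModel X KX PX φX)
    (KY : Type v) [CommRing KY] [LambdaRing.LambdaOps KY] (PY : LambdaRing.PosStructure KY) (φY : SGA6.Kvb Y →+ KY) (hKY : KRR.IsModel Y KY PY φY)
    (h : KX →+ KY) (hh : KRR.IsPushCl f φX φY h) (j : ℕ) (hj : 1 ≤ j) (x : KX) :
    LambdaRing.adams PY j (h x) = h (KRR.bott PX j (φX (KRR.cl X (Omega.conormal f))) * LambdaRing.adams PX j x) := by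
  exact Groth.Agent.Krr.H450.Main.adams_push (Groth.Agent.Krr.H473.QProj.exists_isAmple hqY) hf hC hKX hKY h hh hj x

end Groth.Agent.S3751
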