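import Groth.Statements.S3758
import Groth.Agent.Krr.H457.RegKoszul
import Groth.Agent.Krr.H457.RegCharts
import Groth.Agent.S3197

set_option autoImplicit false
universe v u
open CategoryTheory CategoryTheory.Limits AlgebraicGeometry
attribute [local instance] HasDerivedCategory.standard
open KRR

namespace Groth.Agent.S3758

open Groth.Agent.Sga67.TwistOver Groth.Agent.Krr.H457.RegKoszul Groth.Agent.Krr.H457.RegVan in
/-- The hypotheses of the abstract comparison theorem. -/
theorem hyp (n : ℕ) (Y : Scheme.{u}) [IsNoetherian Y] :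
    Krr.H457.K0Reg.Hyp (KRR.vbP (KRR.PY n Y)) (RegP n Y) (n + 1) (fun k : ℕ => tw n Y (k : ℤ)) where
  R_le _ h := h.1
  R_zero _ hZ := regP_isZero hZ
  R_iso e h := regP_iso e h
  V_iso e h := Dcoh.FinLocFree.isFinLocFree_of_iso e h
  T_mem k M hM := isFinLocFree_tw n Y k M hM
  T_reg k M hM := regP_tw hM k
  T_zero M := nonempty_tw_zero n Y M
  T_add i j M := by
    have := nonempty_tw_tw n Y i j M
    rwa [← Nat.cast_add] at this
  exists_reg M hM := by
    obtain ⟨m, A, inst, h, hopen, hs⟩ := S3197.exists_charts Y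
    obtain ⟨n₀, hn₀⟩ := Sga67.HypFields559.reg_mem (A := A) (h := h) hs
      (fun i => S3197.serreProp n (A i)) M hM
    exact ⟨n₀, (hn₀ n₀ le_rfl).1,
      Krr.H457.RegCharts.isRegSheaf_of_regF hs (hn₀ n₀ le_rfl)⟩
  kosV M hM := Sga67.ProjKoszul.koszul_relation n Y M hM
  kosR M hM := koszul_relation M hM

open Groth.Agent.Sga67.TwistOver in
/-- Let Y be a Noetherian scheme and P = P^n_Y. The homomorphism from K₀ of the regular (relative to P ⟶
Y) finite locally free O_P-modules to K₀ of all finite locally free O_P-modules, induced by the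
inclusion (recorded by the argument h), is bijective. -/
theorem result (n : ℕ) (Y : Scheme.{u}) [IsNoetherian Y]
    (h : ∀ M : (KRR.PY n Y).Modules, FlatMod.IsFinLocFree M ∧ KRR.IsRegSheaf n Y M → FlatMod.IsFinLocFree M) :
    Function.Bijective (SGA6.mapSub (𝟭 (KRR.PY n Y).Modules)
      (fun M : (KRR.PY n Y).Modules => FlatMod.IsFinLocFree M ∧ KRR.IsRegSheaf n Y M) (KRR.vbP (KRR.PY n Y)) h) := by
  have : ∀ i : ℕ, PreservesFiniteLimits (tw n Y (i : ℤ)) := fun i => preservesFiniteLimits_tw n Y i
  have : ∀ i : ℕ, PreservesFiniteColimits (tw n Y (i : ℤ)) := fun i => preservesFiniteColimits_tw n Y i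
  exact (hyp n Y).bijective h

end Groth.Agent.S3758
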