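import Groth.Statements.S3760
import Groth.Agent.Sga67.PushTwist
import Groth.Agent.Sga67.TwistOver
import Groth.Agent.Ega3A.PChart
import Groth.Agent.Fga.HShift
import Groth.Agent.CohqA.HDIZero
import Groth.Agent.CohqA.HOpen
import Groth.Agent.S0844

set_option autoImplicit false
universe v u
open CategoryTheory CategoryTheory.Limits AlgebraicGeometry
attribute [local instance] HasDerivedCategory.standard
open KRR

namespace Groth.Agent.S3760

open Groth.Agent.Sga67 Groth.Agent.Ega3A.PChart Groth.Agent.Ega2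

/-- `p ⁻¹(V)` is the image of the chart `P^n_A ⟶ P^n_Y` over an affine open `V = Spec A` of `Y`. -/
theorem preimage_eq_image_chart (n : ℕ) (Y : Scheme.{u}) {V : Y.Opens} (hV : IsAffineOpen V) :
    pr n Y ⁻¹ᵁ V = (chart n hV.fromSpec) ''ᵁ ⊤ := by
  have hp := isPullback_chart n hV.fromSpec
  apply SetLike.coe_injective
  ext x
  constructor
  · intro hx
    have hx' : pr n Y x ∈ Set.range hV.fromSpec := by
      rw [hV.range_fromSpec]; exact hx
    obtain ⟨z, hz⟩ := hx'
    obtain ⟨y, hy1, hy2⟩ := Scheme.exists_preimage_of_isPullback hp x z hz.symm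
    exact ⟨y, trivial, hy1⟩
  · rintro ⟨y, -, rfl⟩
    have h1 : (pr n Y) ((chart n hV.fromSpec) y) = hV.fromSpec (CohB1.ProjSpace.toSpec n Γ(Y, V) y) := by
      have := congrArg (fun g => g.base y) hp.w
      exact this
    change (pr n Y) ((chart n hV.fromSpec) y) ∈ V
    rw [h1]
    have h2 : hV.fromSpec (CohB1.ProjSpace.toSpec n Γ(Y, V) y) ∈ Set.range hV.fromSpec := ⟨_, rfl⟩
    rw [hV.range_fromSpec] at h2
    exact h2

/-- Vanishing of a higher direct image along `P^n_Y ⟶ Y` from the vanishing of the cohomology on the charts. -/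
theorem isZero_RpushAb_of_charts (n : ℕ) (Y : Scheme.{u}) (F : (PY n Y).Modules) (q : ℕ)
    (h : ∀ (V : Y.Opens) (hV : IsAffineOpen V),
      Subsingleton (Coh.HH (CohB1.ProjSpace n Γ(Y, V)) (F.restrict (chart n hV.fromSpec)) q)) :
    IsZero ((Coh.RpushAb (pr n Y) q).obj (Coh.toAb F)) := by
  refine Groth.Agent.CohqA.HDIZero.isZero_RpushAb _ _ q {V | IsAffineOpen V} Y.isBasis_affineOpens
    fun V hV => ?_
  have hV' : IsAffineOpen V := hV
  have := h V hV'
  exact (Groth.Agent.CohqA.HOpen.HHEquiv (chart n hV'.fromSpec) F (pr n Y ⁻¹ᵁ V)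
    (preimage_eq_image_chart n Y hV') q).toEquiv.subsingleton

/-- `O(m)` is regular on `P^n_Y` for `m ≥ 0`. -/
theorem isRegSheaf_twF (n : ℕ) (Y : Scheme.{u}) (m : ℕ) :
    IsRegSheaf n Y (twF n Y (m : ℤ) (Coh.structureModule (PY n Y))) := by
  intro i hi
  refine isZero_RpushAb_of_charts n Y _ i fun V hV => ?_
  obtain ⟨e⟩ := TwistOver.nonempty_tw_tw n Y (-(i : ℤ)) (m : ℤ) (Coh.structureModule (PY n Y))
  let e' : twF n Y (-(i : ℤ)) (twF n Y (m : ℤ) (Coh.structureModule (PY n Y))) ≅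
      Twist.twistOver n Y (-(i : ℤ) + (m : ℤ)) := e ≪≫ Tens.runit _
  exact Groth.Agent.Fga.HShift.subsingleton_of_iso
    ((Scheme.Modules.restrictFunctor (chart n hV.fromSpec)).mapIso e' ≪≫
      restrictTwistIso n hV.fromSpec _).symm i
    (S0844.result _ n _ i (by omega) (by omega))

/-- f_K[O(m)] = [Sym^m E] for m ≥ 0, here with E = O_Y^{n+1}: let Y be a connected Noetherian scheme, p
: P = P^n_Y ⟶ Y, with models of K(P), K(Y) and g = p_K. Then for every m ≥ 0, p_K [O_P(m)] = C(n+m,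
m) · 1 in K(Y) (the class of Sym^m of a free module of rank n+1). Here O_P(m) is written O(m) ⊗ O_P. -/
theorem result (n : ℕ) (Y : Scheme.{u}) [IsNoetherian Y] [ConnectedSpace ↥Y]
    (KP : Type v) [CommRing KP] [LambdaRing.LambdaOps KP] (PP : LambdaRing.PosStructure KP) (φP : SGA6.Kvb (KRR.PY n Y) →+ KP) (hKP : KRR.IsModel (KRR.PY n Y) KP PP φP)
    (KY : Type v) [CommRing KY] [LambdaRing.LambdaOps KY] (PY : LambdaRing.PosStructure KY) (φY : SGA6.Kvb Y →+ KY) (hKY : KRR.IsModel Y KY PY φY)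
    (g : KP →+ KY) (hg : KRR.IsPushPr n Y φP φY g) (m : ℕ) :
    g (φP (KRR.cl (KRR.PY n Y) (KRR.twF n Y (m : ℤ) (Coh.structureModule (KRR.PY n Y))))) = (Nat.choose (n + m) m : KY) := by
  have hF : FlatMod.IsFinLocFree (twF n Y (m : ℤ) (Coh.structureModule (KRR.PY n Y))) :=
    TwistOver.isFinLocFree_tw n Y m _ TensorOps.isFinLocFree_structureModule
  rw [hg _ hF (isRegSheaf_twF n Y m)]
  have e : FlatMod.freeMod Y ((m + n).choose n) ≅
      (Scheme.Modules.pushforward (pr n Y)).obj (twF n Y (m : ℤ) (Coh.structureModule (KRR.PY n Y))) :=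
    PushTwist.pushTwistIso n Y m ≪≫
      (Scheme.Modules.pushforward (pr n Y)).mapIso (Tens.runit (Twist.twistOver n Y (m : ℤ))).symm
  have h1 : KRR.cl Y ((Scheme.Modules.pushforward (pr n Y)).obj
      (twF n Y (m : ℤ) (Coh.structureModule (KRR.PY n Y)))) =
      ((m + n).choose n) • KRR.cl Y (Coh.structureModule Y) :=
    (KvbRing.c_iso e (PushTwist.isFinLocFree_freeMod Y _)).symm.trans (PushTwist.c_freeMod Y _)
  rw [h1, map_nsmul, hKY.map_one, nsmul_one, Nat.add_comm m n, Nat.choose_symm_add]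

end Groth.Agent.S3760
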