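import Groth.Statements.S3777
import Groth.Agent.Krr.H476.S3777Of
import Groth.Agent.Krr.H474.Main
import Groth.Agent.Krr.H452.QProjPn
import Groth.Agent.Krr.H452.PnConn
import Groth.Agent.Krr.H450.Main
import Groth.Agent.S3785
import Groth.Agent.S3776

set_option autoImplicit false
universe v u
open CategoryTheory CategoryTheory.Limits AlgebraicGeometry
attribute [local instance] HasDerivedCategory.standard
open KRR

namespace Groth.Agent.S3777

/-- Let S be affine Noetherian, Y connected and quasi-projective over S, f = i ≫ p with i : X ⟶ P^n_Y a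
regular closed imbedding (X connected, conormal of rank c) and p the projection, a regular morphism
of codimension c - n. With models, i_K and p_K: for every k and x ∈ F^k K(X) there is N ≥ 1 with N ·
p_K(i_K x) ∈ F^{k+c-n} K(Y) (index truncated at 0). -/
theorem result (S : Scheme.{u}) [IsAffine S] [IsNoetherian S] (n : ℕ) {X Y : Scheme.{u}} [IsNoetherian Y] [ConnectedSpace ↥Y] (qY : Y ⟶ S) (hqY : KRR.IsQProjOver qY)
    (i : X ⟶ KRR.PY n Y) (hi : Mor2.IsRegularClosedImmersion i) [ConnectedSpace ↥X] (c : ℕ)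
    (hC : FlatMod.IsFinLocFreeOfRank c (Omega.conormal i))
    (KX : Type v) [CommRing KX] [LambdaRing.LambdaOps KX] (PX : LambdaRing.PosStructure KX) (φX : SGA6.Kvb X →+ KX) (hKX : KRR.IsModel X KX PX φX)
    (KP : Type v) [CommRing KP] [LambdaRing.LambdaOps KP] (PP : LambdaRing.PosStructure KP) (φP : SGA6.Kvb (KRR.PY n Y) →+ KP) (hKP : KRR.IsModel (KRR.PY n Y) KP PP φP)
    (KY : Type v) [CommRing KY] [LambdaRing.LambdaOps KY] (PY : LambdaRing.PosStructure KY) (φY : SGA6.Kvb Y →+ KY) (hKY : KRR.IsModel Y KY PY φY)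
    (a : KX →+ KP) (ha : KRR.IsPushCl i φX φP a) (b : KP →+ KY) (hb : KRR.IsPushPr n Y φP φY b)
    (k : ℕ) (x : KX) (hx : x ∈ LambdaRing.gammaFiltration PX k) :
    ∃ N : ℕ, 1 ≤ N ∧ (N : KY) * b (a x) ∈ LambdaRing.gammaFiltration PY (k + c - n) := by
  have hYa := Groth.Agent.Krr.H473.QProj.exists_isAmple hqY
  have hPN : IsNoetherian (KRR.PY n Y) := Groth.Agent.Krr.H452.QProjPn.isNoetherian_PY n hYa
  obtain ⟨LP, hLP⟩ := Groth.Agent.Krr.H452.QProjPn.exists_isAmple_PY n hYa
  have hcl : IsClosedImmersion i := hi.1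
  have hXN : IsNoetherian X := Groth.Agent.Krr.H474.Main.isNoetherian_of_isClosedImmersion i
  exact Groth.Agent.Krr.H476.S3777Of.of PX PP PY n c a b
    (fun k x hx => Groth.Agent.Krr.H474.Main.pushCl_gammaFiltration LP hLP i
      (fun K _ _ P φ hK => Groth.Agent.S3785.result X K P φ hK)
      (fun K _ _ P φ hK => Groth.Agent.S3785.result (KRR.PY n Y) K P φ hK)
      c _ hC KX PX φX hKX KP PP φP hKP a 2 le_rfl
      (fun x => Groth.Agent.Krr.H450.Main.adams_push ⟨LP, hLP⟩ hi hC hKX hKP a ha (by norm_num) x) k x hx)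
    (fun k x hx => Groth.Agent.S3776.result n Y KP PP φP hKP KY PY φY hKY b hb k x hx) k x hx

end Groth.Agent.S3777
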