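import Groth.Statements.S3763
import Groth.Agent.S3753
import Groth.Agent.S3777
import Groth.Agent.S3744
import Groth.Agent.S3785
import Groth.Agent.S3796
import Groth.Agent.Krr.H462.Final
import Groth.Agent.Krr.H452.QProjPn
import Groth.Agent.CohqB.AmpGeneric
import Groth.Agent.Krr.H452.PnConn

set_option autoImplicit false
universe v u
open CategoryTheory CategoryTheory.Limits AlgebraicGeometry
attribute [local instance] HasDerivedCategory.standard
open KRR

namespace Groth.Agent.S3763

/-- Grothendieck–Riemann–Roch. Let S be an affine Noetherian scheme, Y a connected Noetherian scheme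
quasi-projective over S of dimension at most dY, and f = i ≫ p : X ⟶ Y with i : X ⟶ P = P^n_Y a
regular closed imbedding (X connected of dimension at most dX, conormal module C finite locally free
of rank c) and p : P ⟶ Y the projection; f has codimension c − n. Let (KX, PX, φX), (KP, PP, φP),
(KY, PY, φY) be models of the λ-rings K(X), K(P), K(Y), and f_K = p_K ∘ i_K the push-forward, i_K
being the push-forward along the closed imbedding i and p_K that along the projection. The tangent
element is T_f = [i^* T_{P/Y}] − [N_{X/P}] = ((n+1)·[i^* O_P(1)] − 1) − [C^∨] ∈ K(X). Let ℚGr denote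
the graded ring of the γ-filtration tensored with ℚ, and ch and td the Chern character and Todd
class with values in it (built from the Chern classes c^i(x) = γ^i(x − ε(x)) mod F^{i+1} by the
Hirzebruch polynomials of exp(t) and t·e^t/(e^t − 1); the truncations at dX, dY are exact because
F^{d+1} K = 0 in dimension ≤ d). Then f_K induces a homomorphism f_G : ℚGr K(X) ⟶ ℚGr K(Y) of graded
degree c − n, and for every x ∈ K(X): ch(f_K x) = f_G(td(T_f) · ch(x)). -/
theorem result (S : Scheme.{u}) [IsAffine S] [IsNoetherian S] (n : ℕ) {X Y : Scheme.{u}} [IsNoetherian Y] [ConnectedSpace ↥Y] (qY : Y ⟶ S) (hqY : KRR.IsQProjOver qY)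
    (dY : ℕ) (hdY : topologicalKrullDim ↥Y ≤ (dY : WithBot ℕ∞))
    (i : X ⟶ KRR.PY n Y) (hi : Mor2.IsRegularClosedImmersion i) [ConnectedSpace ↥X]
    (dX : ℕ) (hdX : topologicalKrullDim ↥X ≤ (dX : WithBot ℕ∞)) (c : ℕ)
    (hC : FlatMod.IsFinLocFreeOfRank c (Omega.conormal i)) [DCoh.HasSheafHom (Omega.conormal i)]
    (KX : Type v) [CommRing KX] [LambdaRing.LambdaOps KX] (PX : LambdaRing.PosStructure KX) (φX : SGA6.Kvb X →+ KX) (hKX : KRR.IsModel X KX PX φX)
    (KP : Type v) [CommRing KP] [LambdaRing.LambdaOps KP] (PP : LambdaRing.PosStructure KP) (φP : SGA6.Kvb (KRR.PY n Y) →+ KP) (hKP : KRR.IsModel (KRR.PY n Y) KP PP φP)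
    (KY : Type v) [CommRing KY] [LambdaRing.LambdaOps KY] (PY : LambdaRing.PosStructure KY) (φY : SGA6.Kvb Y →+ KY) (hKY : KRR.IsModel Y KY PY φY)
    (a : KX →+ KP) (ha : KRR.IsPushCl i φX φP a) (b : KP →+ KY) (hb : KRR.IsPushPr n Y φP φY b)
    :
    ∃ fG : KGr.Gr PX →+ KGr.Gr PY, KGr.IsGrPush PX PY (b.comp a) ((c : ℤ) - n) fG ∧
      ∀ x : KX, KGr.chK PY dY (b (a x)) =
        fG (KGr.tdK PX dX (((n + 1 : ℕ) : KX) * φX (KRR.cl X ((Scheme.Modules.pullback i).obj (Twist.twistOver n Y 1))) - 1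
              - φX (KRR.cl X ((DCoh.sheafHom (Omega.conormal i)).obj (Coh.structureModule X))))
            * KGr.chK PX dX x) := by
  have hYa := Groth.Agent.Krr.H473.QProj.exists_isAmple hqY
  obtain ⟨LY, hLY⟩ := hYa
  have hPn : IsNoetherian (KRR.PY n Y) := Groth.Agent.Krr.H452.QProjPn.isNoetherian_PY n ⟨LY, hLY⟩
  obtain ⟨LP, hLP⟩ := Groth.Agent.Krr.H452.QProjPn.exists_isAmple_PY n ⟨LY, hLY⟩
  have : IsClosedImmersion i := hi.1
  have hXn : IsNoetherian X := by
    have h1 : IsLocallyNoetherian X := LocallyOfFiniteType.isLocallyNoetherian i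
    have h2 : CompactSpace X := QuasiCompact.compactSpace_of_compactSpace i
    exact { }
  have hLX := Groth.Agent.CohqB.AmpCocycle.isAmple_pullback i hLP
  -- models in `Type (u + 1)`
  obtain ⟨KX', iX1, iX2, PX', φX', hKX'⟩ := Groth.Agent.S3796.result X
  obtain ⟨KY', iY1, iY2, PY', φY', hKY'⟩ := Groth.Agent.S3796.result Y
  have hPc : ConnectedSpace (KRR.PY n Y) := Groth.Agent.Krr.H452.PnConn.connectedSpace_PY n Y
  obtain ⟨KP', iP1, iP2, PP', φP', hKP'⟩ := Groth.Agent.S3796.result (KRR.PY n Y)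
  have pX := Groth.Agent.Krr.H442.ModelIso.posIso hKX hKX'
  have pY := Groth.Agent.Krr.H442.ModelIso.posIso hKY hKY'
  set eX := Groth.Agent.Krr.H442.ModelIso.ringIso hKX hKX' with heX
  set eY := Groth.Agent.Krr.H442.ModelIso.ringIso hKY hKY' with heY
  set eP := Groth.Agent.Krr.H442.ModelIso.ringIso hKP hKP' with heP
  have hX : ∀ x, eX (φX x) = φX' x := Groth.Agent.Krr.H442.ModelIso.ringIso_apply hKX hKX'
  have hY : ∀ x, eY (φY x) = φY' x := Groth.Agent.Krr.H442.ModelIso.ringIso_apply hKY hKY'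
  have hP : ∀ x, eP (φP x) = φP' x := Groth.Agent.Krr.H442.ModelIso.ringIso_apply hKP hKP'
  set a' := Groth.Agent.Krr.H442.ModelIso.conj eX eP a with ha'
  set b' := Groth.Agent.Krr.H442.ModelIso.conj eP eY b with hb'
  have ha1 : KRR.IsPushCl i φX' φP' a' := Groth.Agent.Krr.H442.ModelIso.isPushCl_conj hX hP ha
  have hb1 : KRR.IsPushPr n Y φP' φY' b' := Groth.Agent.Krr.H442.ModelIso.isPushPr_conj hP hY hb
  refine Groth.Agent.Krr.H462.Final.transport pX pY (f := b.comp a) (f' := b'.comp a') ?_ _ dX dY _ ?_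
  · intro x
    change b' (a' (eX x)) = eY (b (a x))
    rw [ha', Groth.Agent.Krr.H442.ModelIso.conj_apply_apply, hb',
      Groth.Agent.Krr.H442.ModelIso.conj_apply_apply]
  · have h1 := Groth.Agent.Krr.H462.Final.main_of_splitting n dY i dX c hC KX' PX' φX' hKX'
      KP' PP' φP' hKP' KY' PY' φY' hKY' a' b'
      (Groth.Agent.S3785.result X KX' PX' φX' hKX') (Groth.Agent.S3785.result Y KY' PY' φY' hKY')
      (Groth.Agent.S3744.result X _ hLX dX hdX KX' PX' φX' hKX')
      (Groth.Agent.S3744.result Y _ hLY dY hdY KY' PY' φY' hKY')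
      (fun k x hx => Groth.Agent.S3777.result S n qY hqY i hi c hC KX' PX' φX' hKX' KP' PP' φP' hKP'
        KY' PY' φY' hKY' a' ha1 b' hb1 k x hx)
      (fun gi hgi x => Groth.Agent.S3753.result S n qY hqY i hi c hC KX' PX' φX' hKX' KP' PP' φP' hKP'
        KY' PY' φY' hKY' gi hgi a' ha1 b' hb1 2 (by norm_num) x)
    rw [map_sub, map_sub, map_mul, map_natCast, map_one, hX, hX]
    exact h1

end Groth.Agent.S3763
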