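import Groth.Statements.S3764
import Groth.Agent.S3763
import Groth.Agent.Krr.H463.CondHRR

set_option autoImplicit false
universe v u
open CategoryTheory CategoryTheory.Limits AlgebraicGeometry
attribute [local instance] HasDerivedCategory.standard
open KRR

namespace Groth.Agent.S3764

/-- Let k be a field and X a connected scheme over Spec k of dimension at most dX whose structure
morphism factors as a regular closed imbedding i : X ⟶ P = P^n_k (conormal module finite locally
free of rank c) followed by the projection, so that X is a projective local complete intersection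
over k. With models of K(X), K(P), K(Spec k), f_K = p_K ∘ i_K, and the tangent element T_X =
((n+1)[i^*O_P(1)] - 1) - [C^∨]: f_K induces f_G : ℚGr K(X) ⟶ ℚGr K(Spec k) of graded degree c - n,
and for every finite locally free O_X-module E: f_G(td(T_X) · ch([E])) = χ(X, E) = Σ_{q ≤ dX} (-1)^q
dim_k H^q(X, E), as elements of ℚGr K(Spec k) (through ℚ). -/
theorem result (k : Type u) [Field k] (n : ℕ) (X : Scheme.{u}) [X.Over (Spec (CommRingCat.of k))]
    [ConnectedSpace ↥X] (dX : ℕ) (hdX : topologicalKrullDim ↥X ≤ (dX : WithBot ℕ∞))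
    (i : X ⟶ KRR.PY n (Spec (CommRingCat.of k))) (hi : Mor2.IsRegularClosedImmersion i)
    (hfac : i ≫ KRR.pr n (Spec (CommRingCat.of k)) = X ↘ Spec (CommRingCat.of k)) (c : ℕ)
    (hC : FlatMod.IsFinLocFreeOfRank c (Omega.conormal i)) [DCoh.HasSheafHom (Omega.conormal i)]
    (KX : Type v) [CommRing KX] [LambdaRing.LambdaOps KX] (PX : LambdaRing.PosStructure KX) (φX : SGA6.Kvb X →+ KX) (hKX : KRR.IsModel X KX PX φX)
    (KP : Type v) [CommRing KP] [LambdaRing.LambdaOps KP] (PP : LambdaRing.PosStructure KP) (φP : SGA6.Kvb (KRR.PY n (Spec (CommRingCat.of k))) →+ KP) (hKP : KRR.IsModel (KRR.PY n (Spec (CommRingCat.of k))) KP PP φP)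
    (KY : Type v) [CommRing KY] [LambdaRing.LambdaOps KY] (PY : LambdaRing.PosStructure KY) (φY : SGA6.Kvb (Spec (CommRingCat.of k)) →+ KY) (hKY : KRR.IsModel (Spec (CommRingCat.of k)) KY PY φY)
    (a : KX →+ KP) (ha : KRR.IsPushCl i φX φP a) (b : KP →+ KY) (hb : KRR.IsPushPr n (Spec (CommRingCat.of k)) φP φY b)
    :
    ∃ fG : KGr.Gr PX →+ KGr.Gr PY, KGr.IsGrPush PX PY (b.comp a) ((c : ℤ) - n) fG ∧
      ∀ E : X.Modules, FlatMod.IsFinLocFree E →
      fG (KGr.tdK PX dX (((n + 1 : ℕ) : KX) * φX (KRR.cl X ((Scheme.Modules.pullback i).obj (Twist.twistOver n (Spec (CommRingCat.of k)) 1))) - 1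
          - φX (KRR.cl X ((DCoh.sheafHom (Omega.conormal i)).obj (Coh.structureModule X)))) * KGr.chK PX dX (φX (KRR.cl X E))) =
      algebraMap ℚ (KGr.Gr PY) (∑ q ∈ Finset.range (dX + 1), (-1 : ℚ) ^ q * (Module.finrank k (Coh.HH X E q) : ℚ)) := by
  have : ConnectedSpace ↥(Spec (CommRingCat.of k)) := inferInstanceAs (ConnectedSpace (PrimeSpectrum k))
  exact Groth.Agent.Krr.H463.CondHRR.of_grr k n dX hdX i hi hfac PX φX φP PY φY hKY a ha b hb _ _
    (Groth.Agent.S3763.result (Spec (CommRingCat.of k)) n (𝟙 (Spec (CommRingCat.of k)))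
      (Groth.Agent.Krr.H463.EulerX.isQProjOver_id (Spec (CommRingCat.of k)) 0) 0
      (Groth.Agent.Krr.H463.SpecField.topologicalKrullDim_spec k) i hi dX hdX c hC
      KX PX φX hKX KP PP φP hKP KY PY φY hKY a ha b hb)

end Groth.Agent.S3764
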