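import Groth.Statements.S3768
import Groth.Agent.Krr.H467.Comp

set_option autoImplicit false
universe v u
open CategoryTheory CategoryTheory.Limits AlgebraicGeometry
attribute [local instance] HasDerivedCategory.standard
open KRR

namespace Groth.Agent.S3768

/-- Let Y, Z be connected Noetherian schemes such that every coherent module on Y, Z, on each P^a over
them and on each P^a over P^b over them is a quotient of a finite locally free one. Let f = i ≫ p :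
X ⟶ Y and g = j ≫ q : Y ⟶ Z be regular morphisms factored through P^n_Y and P^m_Z (i, j regular
closed imbeddings; X connected), and let f ≫ g = k ≫ r be a factorization through P^l_Z with k a
regular closed imbedding. With models and push-forwards as before: (r_K ∘ k_K) = (q_K ∘ j_K) ∘ (p_K
∘ i_K). -/
theorem result (n m l : ℕ) {X Y Z : Scheme.{u}} [IsNoetherian Y] [ConnectedSpace ↥Y] (hYe : KRR.HasEnoughLocFree Y) [IsNoetherian Z] [ConnectedSpace ↥Z] (hZe : KRR.HasEnoughLocFree Z)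
    (hstarY : ∀ a : ℕ, KRR.HasEnoughLocFree (KRR.PY a Y) ∧ ∀ b : ℕ, KRR.HasEnoughLocFree (KRR.PY a (KRR.PY b Y)))
    (hstarZ : ∀ a : ℕ, KRR.HasEnoughLocFree (KRR.PY a Z) ∧ ∀ b : ℕ, KRR.HasEnoughLocFree (KRR.PY a (KRR.PY b Z)))
    [ConnectedSpace ↥X] (f : X ⟶ Y) (g : Y ⟶ Z)
    (i : X ⟶ KRR.PY n Y) (hi : Mor2.IsRegularClosedImmersion i) (hf : i ≫ KRR.pr n Y = f)
    (j : Y ⟶ KRR.PY m Z) (hj : Mor2.IsRegularClosedImmersion j) (hg : j ≫ KRR.pr m Z = g)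
    (k : X ⟶ KRR.PY l Z) (hk : Mor2.IsRegularClosedImmersion k) (hfg : k ≫ KRR.pr l Z = f ≫ g)
    (KX : Type v) [CommRing KX] [LambdaRing.LambdaOps KX] (PX : LambdaRing.PosStructure KX) (φX : SGA6.Kvb X →+ KX) (hKX : KRR.IsModel X KX PX φX)
    (KY : Type v) [CommRing KY] [LambdaRing.LambdaOps KY] (PY : LambdaRing.PosStructure KY) (φY : SGA6.Kvb Y →+ KY) (hKY : KRR.IsModel Y KY PY φY)
    (KZ : Type v) [CommRing KZ] [LambdaRing.LambdaOps KZ] (PZ : LambdaRing.PosStructure KZ) (φZ : SGA6.Kvb Z →+ KZ) (hKZ : KRR.IsModel Z KZ PZ φZ)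
    (K₁ : Type v) [CommRing K₁] [LambdaRing.LambdaOps K₁] (P₁ : LambdaRing.PosStructure K₁) (φ₁ : SGA6.Kvb (KRR.PY n Y) →+ K₁) (hK₁ : KRR.IsModel (KRR.PY n Y) K₁ P₁ φ₁)
    (K₂ : Type v) [CommRing K₂] [LambdaRing.LambdaOps K₂] (P₂ : LambdaRing.PosStructure K₂) (φ₂ : SGA6.Kvb (KRR.PY m Z) →+ K₂) (hK₂ : KRR.IsModel (KRR.PY m Z) K₂ P₂ φ₂)
    (K₃ : Type v) [CommRing K₃] [LambdaRing.LambdaOps K₃] (P₃ : LambdaRing.PosStructure K₃) (φ₃ : SGA6.Kvb (KRR.PY l Z) →+ K₃) (hK₃ : KRR.IsModel (KRR.PY l Z) K₃ P₃ φ₃)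
    (a₁ : KX →+ K₁) (ha₁ : KRR.IsPushCl i φX φ₁ a₁) (b₁ : K₁ →+ KY) (hb₁ : KRR.IsPushPr n Y φ₁ φY b₁)
    (a₂ : KY →+ K₂) (ha₂ : KRR.IsPushCl j φY φ₂ a₂) (b₂ : K₂ →+ KZ) (hb₂ : KRR.IsPushPr m Z φ₂ φZ b₂)
    (a₃ : KX →+ K₃) (ha₃ : KRR.IsPushCl k φX φ₃ a₃) (b₃ : K₃ →+ KZ) (hb₃ : KRR.IsPushPr l Z φ₃ φZ b₃) :
    b₃.comp a₃ = (b₂.comp a₂).comp (b₁.comp a₁) := by
  have pf : Groth.Agent.Krr.H467.DerPush.PushPerf f :=
    Groth.Agent.Krr.H467.Comp.pushPerf_comp n (hstarY n).1 i hi f hf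
  have pg : Groth.Agent.Krr.H467.DerPush.PushPerf g :=
    Groth.Agent.Krr.H467.Comp.pushPerf_comp m (hstarZ m).1 j hj g hg
  have pfg : Groth.Agent.Krr.H467.DerPush.PushPerf (f ≫ g) := pf.comp pg
  ext x
  obtain ⟨z, rfl⟩ := hKX.bijective.2 x
  rw [← Groth.Agent.Krr.H467.PushCl.apply_onVb (φX := φX) (φY := φZ) (hY := hKZ.bijective)
      (a := b₃.comp a₃),
    ← Groth.Agent.Krr.H467.PushCl.apply_onVb (φX := φX) (φY := φZ) (hY := hKZ.bijective)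
      (a := (b₂.comp a₂).comp (b₁.comp a₁))]
  congr 1
  apply Groth.Agent.Krr.H467.PushCl.rho_injective hZe
  rw [Groth.Agent.Krr.H467.Comp.rho_push l (hstarZ l).1 k hk (f ≫ g) hfg pfg φX φ₃ φZ
      hK₃.bijective hKZ.bijective a₃ ha₃ b₃ hb₃ z,
    Groth.Agent.Krr.H467.PushCl.onVb_comp (φY := φY) (hY := hKY.bijective),
    Groth.Agent.Krr.H467.Comp.rho_push m (hstarZ m).1 j hj g hg pg φY φ₂ φZ
      hK₂.bijective hKZ.bijective a₂ ha₂ b₂ hb₂,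
    Groth.Agent.Krr.H467.Comp.rho_push n (hstarY n).1 i hi f hf pf φX φ₁ φY
      hK₁.bijective hKY.bijective a₁ ha₁ b₁ hb₁ z,
    Groth.Agent.Krr.H467.DerPush.pushK_comp f g pf pg pfg]
  rfl

end Groth.Agent.S3768
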