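import Groth.Statements.S3769
import Groth.Agent.Krr.H468.ExcFinal
import Groth.Agent.Krr.H500.UVanish

set_option autoImplicit false
universe v u
open CategoryTheory CategoryTheory.Limits AlgebraicGeometry
attribute [local instance] HasDerivedCategory.standard
open KRR

namespace Groth.Agent.S3769

/-- Let S be affine Noetherian and Y, Y₁ connected schemes quasi-projective over S; let f : X ⟶ Y be a
regular closed imbedding (X connected, conormal module C finite locally free of rank d), φ : Y₁ ⟶ Y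
a morphism, and X₁ = X ×_Y Y₁ with projections f₁ : X₁ ⟶ Y₁, ψ : X₁ ⟶ X; assume f₁ is again a
regular closed imbedding (X₁ connected, conormal C₁ finite locally free of rank d₁). Let e = ψ^K[C]
- [C₁] ∈ K(X₁), the class of the excess conormal module (locally free of rank d - d₁), and λ_{-1}(e)
= Σ_{i ≤ ε(e)} (-1)^i λ^i(e). Then with models and the maps φ^K, ψ^K (pull-backs), f_K, (f₁)_K
(push-forwards via resolutions): φ^K (f_K x) = (f₁)_K (λ_{-1}(e) · ψ^K x) for all x ∈ K(X). -/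
theorem result (S : Scheme.{u}) [IsAffine S] [IsNoetherian S] {X Y X₁ Y₁ : Scheme.{u}} [IsNoetherian Y] [ConnectedSpace ↥Y] (qY : Y ⟶ S) (hqY : KRR.IsQProjOver qY)
    [IsNoetherian Y₁] [ConnectedSpace ↥Y₁] (qY₁ : Y₁ ⟶ S) (hqY₁ : KRR.IsQProjOver qY₁)
    (f : X ⟶ Y) (hf : Mor2.IsRegularClosedImmersion f) [ConnectedSpace ↥X] (d : ℕ)
    (hC : FlatMod.IsFinLocFreeOfRank d (Omega.conormal f))
    (φ : Y₁ ⟶ Y) (f₁ : X₁ ⟶ Y₁) (ψ : X₁ ⟶ X) (hsq : IsPullback f₁ ψ φ f)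
    (hf₁ : Mor2.IsRegularClosedImmersion f₁) [ConnectedSpace ↥X₁] (d₁ : ℕ)
    (hC₁ : FlatMod.IsFinLocFreeOfRank d₁ (Omega.conormal f₁))
    (KX : Type v) [CommRing KX] [LambdaRing.LambdaOps KX] (PX : LambdaRing.PosStructure KX) (φX : SGA6.Kvb X →+ KX) (hKX : KRR.IsModel X KX PX φX)
    (KY : Type v) [CommRing KY] [LambdaRing.LambdaOps KY] (PY : LambdaRing.PosStructure KY) (φY : SGA6.Kvb Y →+ KY) (hKY : KRR.IsModel Y KY PY φY)
    (KX₁ : Type v) [CommRing KX₁] [LambdaRing.LambdaOps KX₁] (PX₁ : LambdaRing.PosStructure KX₁) (φX₁ : SGA6.Kvb X₁ →+ KX₁) (hKX₁ : KRR.IsModel X₁ KX₁ PX₁ φX₁)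
    (KY₁ : Type v) [CommRing KY₁] [LambdaRing.LambdaOps KY₁] (PY₁ : LambdaRing.PosStructure KY₁) (φY₁ : SGA6.Kvb Y₁ →+ KY₁) (hKY₁ : KRR.IsModel Y₁ KY₁ PY₁ φY₁)
    (gφ : KY →+ KY₁) (hgφ : KRR.IsPull φ φY φY₁ gφ) (gψ : KX →+ KX₁) (hgψ : KRR.IsPull ψ φX φX₁ gψ)
    (gf : KX →+ KY) (hgf : KRR.IsPushCl f φX φY gf) (gf₁ : KX₁ →+ KY₁) (hgf₁ : KRR.IsPushCl f₁ φX₁ φY₁ gf₁)
    (x : KX) :
    gφ (gf x) = gf₁ (KRR.lamAlt PX₁ (gψ (φX (KRR.cl X (Omega.conormal f))) - φX₁ (KRR.cl X₁ (Omega.conormal f₁))) * gψ x) := by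
  have : IsClosedImmersion f := hf.1
  have : IsClosedImmersion f₁ := hf₁.1
  have hY : KRR.HasEnoughLocFree Y := Groth.Agent.Krr.H473.QProj.hasEnoughLocFree hqY
  have hY₁ : KRR.HasEnoughLocFree Y₁ := Groth.Agent.Krr.H473.QProj.hasEnoughLocFree hqY₁
  have hCf : FlatMod.IsFinLocFree (Omega.conormal f) := Groth.Agent.Krr.H487.KerRank.isFinLocFree_of_rank hC
  -- the excess bundle
  let q : (Scheme.Modules.pullback ψ).obj (Omega.conormal f) ⟶ Omega.conormal f₁ :=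
    Groth.Agent.Grpsch.ConormalIso.conormalMap hsq.w
  have hq : Epi q := Groth.Agent.Grpsch.ConormalIso.epi_conormalMap hsq
  have hψC : FlatMod.IsFinLocFreeOfRank d ((Scheme.Modules.pullback ψ).obj (Omega.conormal f)) :=
    Groth.Agent.Krr.H482.PullLambda.isFinLocFreeOfRank_pullback ψ hC
  obtain ⟨x₀⟩ : Nonempty ↥X₁ := inferInstance
  have hle : d₁ ≤ d := Groth.Agent.Krr.H487.KerRank.rank_le
    (Groth.Agent.Krr.H487.KerRank.shortExact_kernel q) hψC hC₁ x₀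
  obtain ⟨r, rfl⟩ : ∃ r, d = r + d₁ := ⟨d - d₁, by omega⟩
  have hE : FlatMod.IsFinLocFreeOfRank r (kernel q) :=
    Groth.Agent.Krr.H487.KerRank.isFinLocFreeOfRank_kernel q hψC hC₁
  have he : gψ (φX (KRR.cl X (Omega.conormal f))) - φX₁ (KRR.cl X₁ (Omega.conormal f₁)) =
      φX₁ (KRR.cl X₁ (kernel q)) := by
    rw [sub_eq_iff_eq_add, hgψ _ hCf]
    exact Groth.Agent.Krr.H487.Taut.cl_ses (Groth.Agent.Krr.H487.KerRank.shortExact_kernel q)
      (Groth.Agent.Krr.H487.KerRank.isFinLocFree_of_rank hE)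
      (Groth.Agent.Krr.H487.KerRank.isFinLocFree_of_rank hψC)
      (Groth.Agent.Krr.H487.KerRank.isFinLocFree_of_rank hC₁)
  have haug : (PX₁.aug (φX₁ (KRR.cl X₁ (kernel q)))).toNat = r := by
    rw [hKX₁.aug_cl r _ hE]
    simp
  -- reduction to bundles
  have key : gφ.comp gf = (gf₁.comp (AddMonoidHom.mulLeft (KRR.lamAlt PX₁
      (gψ (φX (KRR.cl X (Omega.conormal f))) - φX₁ (KRR.cl X₁ (Omega.conormal f₁)))))).comp gψ := by
    refine Groth.Agent.Krr.H482.PullLambda.model_hom_ext hKX fun k F _ hF' => ?_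
    have hF : FlatMod.IsFinLocFree F := Groth.Agent.Krr.H487.KerRank.isFinLocFree_of_rank hF'
    obtain ⟨m, L, π, hL₀⟩ := Groth.Agent.Krr.H498.PushRes.hasLFRes_pushforward hY f hf hF
    have hL : KRR.IsLFRes ((Scheme.Modules.pushforward f).obj F) (m + r) L π :=
      ⟨hL₀.finLocFree, fun i hi => hL₀.isZero i (by omega), hL₀.quasiIso⟩
    have hz := fun n p : ℕ => Groth.Agent.Krr.H500.UVanish.map_incl_eq_zero hsq hf hf₁ hF hL n p
    have hH := Groth.Agent.Krr.H468.ExcFinal.hasLFRes_homology hsq hf hf₁ hC₁ hCf hF hL hY₁ hz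
    have hlf : ∀ i, FlatMod.IsFinLocFree ((Groth.Agent.Krr.H489.PullRes.pullCx φ L).X i) := fun i =>
      Groth.Agent.PerfB.FlatPull.isFinLocFree_pullback φ (hL.finLocFree i)
    have hP : ∀ i, KRR.HasLFRes ((Groth.Agent.Krr.H489.PullRes.pullCx φ L).X i) := fun i =>
      Groth.Agent.Krr.H498.LFRes.hasLFRes_of_res
        (Groth.Agent.Krr.H498.ResCat.Res.zero _ (hlf i))
    have hsum := Groth.Agent.Krr.H468.EulerCx.sum_rcl (Groth.Agent.Krr.H489.PullRes.pullCx φ L) hY₁ hP hH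
      (m + r) ((Scheme.Modules.pullback φ).map_isZero (hL.isZero _ (by omega)))
    have h1 : gφ (gf (φX (KRR.cl X F))) =
        ∑ i ∈ Finset.range (m + r + 1), (-1 : ℤ) ^ i • φY₁ (Groth.Agent.Krr.H498.ResClass.rcl hY₁
          ((Groth.Agent.Krr.H489.PullRes.pullCx φ L).X i)) := by
      rw [hgf F hF (m + r) L π hL, map_sum]
      refine Finset.sum_congr rfl fun i _ => ?_
      rw [map_zsmul, hgφ _ (hL.finLocFree i), Groth.Agent.Krr.H498.ResClass.rcl_of_isFinLocFree hY₁ (hlf i)]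
      rfl
    have h2 : gφ (gf (φX (KRR.cl X F))) =
        ∑ i ∈ Finset.range (m + r + 1), (-1 : ℤ) ^ i • φY₁ (Groth.Agent.Krr.H498.ResClass.rcl hY₁
          ((Groth.Agent.Krr.H489.PullRes.pullCx φ L).homology i)) := by
      rw [h1]
      have h3 := congrArg φY₁ hsum
      rw [map_sum, map_sum] at h3
      simpa only [map_zsmul] using h3
    have h4 : ∀ i, φY₁ (Groth.Agent.Krr.H498.ResClass.rcl hY₁
        ((Groth.Agent.Krr.H489.PullRes.pullCx φ L).homology i)) =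
        gf₁ (gψ (φX (KRR.cl X F)) * LambdaRing.LambdaOps.lam i (φX₁ (KRR.cl X₁ (kernel q)))) := fun i => by
      rw [Groth.Agent.Krr.H468.ExcFinal.phi_rcl_homology hsq hf hf₁ hC₁ hCf hF hL hY₁ hz hKX hKX₁ hgψ hgf₁ i, he]
    change gφ (gf (φX (KRR.cl X F))) = gf₁ (KRR.lamAlt PX₁ (gψ (φX (KRR.cl X (Omega.conormal f))) -
      φX₁ (KRR.cl X₁ (Omega.conormal f₁))) * gψ (φX (KRR.cl X F)))
    rw [h2, he, KRR.lamAlt, haug]
    simp only [h4]
    rw [Finset.sum_mul, map_sum]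
    symm
    have h5 : ∀ i, gf₁ ((-1 : KX₁) ^ i * LambdaRing.LambdaOps.lam i (φX₁ (KRR.cl X₁ (kernel q))) *
        gψ (φX (KRR.cl X F))) = (-1 : ℤ) ^ i •
          gf₁ (gψ (φX (KRR.cl X F)) * LambdaRing.LambdaOps.lam i (φX₁ (KRR.cl X₁ (kernel q)))) := fun i => by
      rw [← map_zsmul, zsmul_eq_mul]
      push_cast
      congr 1
      ring
    simp only [h5]
    refine Finset.sum_subset (Finset.range_mono (by omega)) fun i _ hi => ?_
    rw [Finset.mem_range, not_lt] at hi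
    rw [Groth.Agent.Krr.H487.Taut.lam_cl_eq_zero hKX₁ hE (by omega), mul_zero, map_zero, smul_zero]
  exact DFunLike.congr_fun key x

end Groth.Agent.S3769
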