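import Groth.Statements.S3771
import Groth.Agent.Krr.H470.BlowMain
import Groth.Agent.Ega1.GenPts
import Groth.Agent.CalgA.RegBasic

set_option autoImplicit false
universe v u
open CategoryTheory CategoryTheory.Limits AlgebraicGeometry
attribute [local instance] HasDerivedCategory.standard
open KRR

namespace Groth.Agent.S3771

/-- Let S be an affine Noetherian scheme, Y a connected Noetherian scheme quasi-projective over S all of
whose local rings are regular, f : X ⟶ Y a regular closed immersion of codimension d ≥ 1 (conormal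
module finite locally free of rank d) with X connected and all local rings of X regular, and φ : Y₁
⟶ Y a blowing up of Y along X (universal property with respect to the kernel ideal sheaf of f). Then
the canonical map O_Y ⟶ φ_* φ^* O_Y = φ_* O_{Y₁} is an isomorphism and R^i φ_* O_{Y₁} = 0 for every
i ≥ 1 (higher direct images of the underlying abelian sheaf). (The published statement is more
general; this is the case where X and Y are regular.) -/
theorem result (S : Scheme.{u}) [IsAffine S] [IsNoetherian S] {X Y Y₁ : Scheme.{u}} [IsNoetherian Y] [ConnectedSpace ↥Y] (qY : Y ⟶ S) (hqY : KRR.IsQProjOver qY)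
    (hYreg : ∀ y : Y, IsRegularLocalRing (Y.presheaf.stalk y))
    (f : X ⟶ Y) (hf : Mor2.IsRegularClosedImmersion f) [ConnectedSpace ↥X] (d : ℕ) (hd : 1 ≤ d)
    (hC : FlatMod.IsFinLocFreeOfRank d (Omega.conormal f)) (hXreg : ∀ x : X, IsRegularLocalRing (X.presheaf.stalk x))
    (φ : Y₁ ⟶ Y) (hφ : BlowUp.IsBlowUp φ f.ker) :
    IsIso ((Scheme.Modules.pullbackPushforwardAdjunction φ).unit.app (Coh.structureModule Y)) ∧
    ∀ i : ℕ, 1 ≤ i → IsZero ((Coh.RpushAb φ i).obj (Coh.toAb (Coh.structureModule Y₁))) := by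
  have hYint : IsIntegral Y := (Groth.Agent.Ega1.GenPts.isIntegral_iff Y).2
    ⟨inferInstance, fun y => have := hYreg y; Groth.Agent.CalgA.RegBasic.isDomain _⟩
  obtain ⟨y⟩ : Nonempty Y := inferInstance
  obtain ⟨V, hyV, -, n, a, hn, ha, ha0, -⟩ :=
    Groth.Agent.Krr.H470.BlowMain.exists_adapted f hf hd hC y ⊤ trivial
  have hI : f.ker ≠ ⊥ := by
    intro h
    rw [h] at ha
    have h1 : a ⟨0, hn⟩ ∈ Ideal.span (Set.range a) := Ideal.subset_span ⟨_, rfl⟩
    rw [← ha] at h1
    exact ha0 _ (by simpa using h1)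
  obtain ⟨hY₁int, -⟩ := Groth.Agent.S2348.result f.ker hI φ hφ
  exact ⟨Groth.Agent.Krr.H470.BlowMain.isIso_unit f hf hd hC φ hφ,
    fun i hi => Groth.Agent.Krr.H470.BlowMain.isZero_RpushAb f hf hd hC φ hφ i hi⟩

end Groth.Agent.S3771
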