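import Groth.Statements.S3773
import Groth.Agent.S3769
import Groth.Agent.S3771
import Groth.Agent.S3789
import Groth.Agent.S3788
import Groth.Agent.Krr.H472.Assemble
import Groth.Agent.Krr.H472.PullModel
import Groth.Agent.Krr.H472.SelfInt
import Groth.Agent.Krr.H472.BlowGeom
import Groth.Agent.Krr.H472.BlowPush
import Groth.Agent.Krr.H496.ExcBundle

set_option autoImplicit false
universe v u
open CategoryTheory CategoryTheory.Limits AlgebraicGeometry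
attribute [local instance] HasDerivedCategory.standard
open KRR

namespace Groth.Agent.S3773

/-- Exactness in the middle of the K-theory sequence of a blow-up: let S be an affine Noetherian scheme,
Y a connected Noetherian scheme, quasi-projective over S, all of whose local rings are regular, f :
X ⟶ Y a regular closed immersion of codimension d ≥ 1 (conormal module C finite locally free of rank
d) with X connected and all local rings of X regular, φ : Y₁ ⟶ Y the blowing up of Y along X, and X₁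
= Y₁ ×_Y X the exceptional divisor with projections f₁ : X₁ ⟶ Y₁ (a closed immersion whose conormal
module C₁ is invertible) and ψ : X₁ ⟶ X, with X₁ and Y₁ connected. Work in models K(X), K(Y), K(X₁),
K(Y₁) of the Grothendieck rings of vector bundles as λ-rings with positive structure, with pullback
maps φ^K : K(Y) → K(Y₁), ψ^K : K(X) → K(X₁) and push-forward maps f_K : K(X) → K(Y), (f₁)_K : K(X₁)
→ K(Y₁). Put c = [C] ∈ K(X), ℓ = [C₁] ∈ K(X₁), e = ψ^K c − ℓ (the class of the universal sub-bundle,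
of rank d − 1) and λ_{−1}(e) = Σ_{i ≤ ε(e)} (−1)^i λ^i(e). Define u : K(X) ⟶ K(X₁) ⊕ K(Y) by u(x) =
(−λ_{−1}(e) · ψ^K x, f_K x) and v : K(X₁) ⊕ K(Y) ⟶ K(Y₁) by v(x₁, y) = (f₁)_K x₁ + φ^K y. Then v ∘ u
= 0, that is φ^K f_K x = (f₁)_K(λ_{−1}(e) · ψ^K x) for every x, and every (x₁, y) with v(x₁, y) = 0
is of the form u(x) for some x ∈ K(X). -/
theorem result (S : Scheme.{u}) [IsAffine S] [IsNoetherian S] {X Y X₁ Y₁ : Scheme.{u}} [IsNoetherian Y] [ConnectedSpace ↥Y] (qY : Y ⟶ S) (hqY : KRR.IsQProjOver qY)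
    (hYreg : ∀ y : Y, IsRegularLocalRing (Y.presheaf.stalk y))
    (f : X ⟶ Y) (hf : Mor2.IsRegularClosedImmersion f) [ConnectedSpace ↥X] (d : ℕ) (hd : 1 ≤ d)
    (hC : FlatMod.IsFinLocFreeOfRank d (Omega.conormal f)) (hXreg : ∀ x : X, IsRegularLocalRing (X.presheaf.stalk x))
    (φ : Y₁ ⟶ Y) (hφ : BlowUp.IsBlowUp φ f.ker) (f₁ : X₁ ⟶ Y₁) (ψ : X₁ ⟶ X) (hsq : IsPullback f₁ ψ φ f)
    [IsClosedImmersion f₁] (hC₁ : FlatMod.IsFinLocFreeOfRank 1 (Omega.conormal f₁)) [ConnectedSpace ↥X₁] [ConnectedSpace ↥Y₁]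
    (KX : Type v) [CommRing KX] [LambdaRing.LambdaOps KX] (PX : LambdaRing.PosStructure KX) (φX : SGA6.Kvb X →+ KX) (hKX : KRR.IsModel X KX PX φX)
    (KY : Type v) [CommRing KY] [LambdaRing.LambdaOps KY] (PY : LambdaRing.PosStructure KY) (φY : SGA6.Kvb Y →+ KY) (hKY : KRR.IsModel Y KY PY φY)
    (KX₁ : Type v) [CommRing KX₁] [LambdaRing.LambdaOps KX₁] (PX₁ : LambdaRing.PosStructure KX₁) (φX₁ : SGA6.Kvb X₁ →+ KX₁) (hKX₁ : KRR.IsModel X₁ KX₁ PX₁ φX₁)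
    (KY₁ : Type v) [CommRing KY₁] [LambdaRing.LambdaOps KY₁] (PY₁ : LambdaRing.PosStructure KY₁) (φY₁ : SGA6.Kvb Y₁ →+ KY₁) (hKY₁ : KRR.IsModel Y₁ KY₁ PY₁ φY₁)
    (gφ : KY →+ KY₁) (hgφ : KRR.IsPull φ φY φY₁ gφ) (gψ : KX →+ KX₁) (hgψ : KRR.IsPull ψ φX φX₁ gψ)
    (gf : KX →+ KY) (hgf : KRR.IsPushCl f φX φY gf) (gf₁ : KX₁ →+ KY₁) (hgf₁ : KRR.IsPushCl f₁ φX₁ φY₁ gf₁) :
    (∀ x : KX, gf₁ (-(KRR.lamAlt PX₁ (gψ (φX (KRR.cl X (Omega.conormal f))) - φX₁ (KRR.cl X₁ (Omega.conormal f₁))) * gψ x)) + gφ (gf x) = 0) ∧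
    ∀ (x₁ : KX₁) (y : KY), gf₁ x₁ + gφ y = 0 → ∃ x : KX, -(KRR.lamAlt PX₁ (gψ (φX (KRR.cl X (Omega.conormal f))) - φX₁ (KRR.cl X₁ (Omega.conormal f₁))) * gψ x) = x₁ ∧ gf x = y := by
  have hfc : IsClosedImmersion f := hf.1
  have hNX : IsNoetherian X := Krr.H472.BlowGeom.isNoetherian_of_closed f
  have hNY₁ : IsNoetherian Y₁ := Krr.H472.BlowGeom.isNoetherian_blowUp hφ
  have hNX₁ : IsNoetherian X₁ := Krr.H472.BlowGeom.isNoetherian_of_closed f₁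
  have hφp : IsProper φ := Krr.H472.BlowGeom.isProper_blowUp hφ
  have hf₁ : Mor2.IsRegularClosedImmersion f₁ := Krr.H496.ExcBundle.isRegular_exc hf hφ hsq
  have hqY₁ : KRR.IsQProjOver (φ ≫ qY) := Krr.H472.BlowGeom.isQProjOver_blowUp hqY hφ
  have hqX₁ : KRR.IsQProjOver (f₁ ≫ φ ≫ qY) := Krr.H472.BlowGeom.isQProjOver_of_isImmersion hqY₁ f₁
  have hPB := Krr.H496.ExcBundle.isProjBundle_exc hf hφ hsq
  have hφ1 := Groth.Agent.S3771.result S qY hqY hYreg f hf d hd hC hXreg φ hφ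
  have hinj : Function.Injective gφ := by
    refine Krr.H472.PullModel.injective_of_pullK0 hKY.bijective hKY₁.bijective hgφ ?_
    exact Krr.H472.BlowPush.pullK0_injective_of φ hYreg (Krr.H473.QProj.hasResolutionProperty hqY) hφ1.1 hφ1.2
  obtain ⟨r, rfl⟩ : ∃ r, d = r + 1 := ⟨d - 1, by omega⟩
  refine Krr.H472.Assemble.exact_middle hKX hKY hKX₁ hKY₁ hsq.w hgφ hgψ (Omega.conormal f) (Omega.conormal f₁)
    (r + 1) hd hC hC₁ ?_ ?_ hinj ?_ ?_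
  · exact Groth.Agent.S3769.result S qY hqY (φ ≫ qY) hqY₁ f hf (r + 1) hC φ f₁ ψ hsq hf₁ 1 hC₁ KX PX φX hKX
      KY PY φY hKY KX₁ PX₁ φX₁ hKX₁ KY₁ PY₁ φY₁ hKY₁ gφ hgφ gψ hgψ gf hgf gf₁ hgf₁
  · intro s hs z
    refine Krr.H472.SelfInt.self_of_excess (Krr.H473.QProj.hasEnoughLocFree hqX₁) hKX₁ f₁ hC₁ s gf₁
      (fun gψ' hgψ' gf' hgf' x => ?_) z
    exact Groth.Agent.S3769.result S (φ ≫ qY) hqY₁ (f₁ ≫ φ ≫ qY) hqX₁ f₁ hf₁ 1 hC₁ f₁ (𝟙 X₁) (𝟙 X₁)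
      (IsKernelPair.id_of_mono f₁) (Krr.H472.SelfInt.isRegularClosedImmersion_id X₁) 0
      (Krr.H472.SelfInt.isFinLocFreeOfRank_conormal_id X₁) KX₁ PX₁ φX₁ hKX₁ KY₁ PY₁ φY₁ hKY₁
      KX₁ PX₁ φX₁ hKX₁ KX₁ PX₁ φX₁ hKX₁ s hs gψ' hgψ' gf₁ hgf₁ gf' hgf' x
  · exact Groth.Agent.S3789.result X X₁ r (Omega.conormal f) hC ψ (Omega.conormal f₁) _ hPB KX PX φX hKX
      KX₁ PX₁ φX₁ hKX₁ gψ hgψ
  · exact Groth.Agent.S3788.result X X₁ r (Omega.conormal f) hC ψ (Omega.conormal f₁) _ hPB KX PX φX hKX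
      KX₁ PX₁ φX₁ hKX₁ gψ hgψ

end Groth.Agent.S3773
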