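import Groth.Statements.S3779
-- import your own Groth.Agent.* helpers here
import Groth.Agent.Krr.H478.Functional

set_option autoImplicit false
universe v u
open CategoryTheory CategoryTheory.Limits AlgebraicGeometry
attribute [local instance] HasDerivedCategory.standard
open KRR

namespace Groth.Agent.S3779

/-- Let K be a λ-ring with positive structure having the splitting property, e positive with ε(e) = r +
1, K_e = K[T]/(p_e) with canonical generator ℓ (a unit), σ^i(e) the coefficients of σ_t(e) =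
λ_{-t}(e)⁻¹, and f : K_e ⟶ K a K-linear map with f(ℓ^i) = σ^i(e) for 0 ≤ i ≤ r. Then f(ℓ^i) = σ^i(e)
for all i ≥ 0, and f(ℓ^{-n}) = 0 for 1 ≤ n ≤ r (stated with any inverse linv of ℓ). -/
theorem result (K : Type v) [CommRing K] [LambdaRing.LambdaOps K] (P : LambdaRing.PosStructure K) (hK : LambdaRing.HasSplitting K P) (e : K) (he : e ∈ P.pos) (r : ℕ) (hr : P.aug e = r + 1)
    (f : AdjoinRoot (KRR.extPoly P e) →ₗ[K] K)
    (hf : ∀ i : ℕ, i ≤ r → f (AdjoinRoot.root (KRR.extPoly P e) ^ i) = KRR.sigma i e)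
    (linv : AdjoinRoot (KRR.extPoly P e)) (hlinv : linv * AdjoinRoot.root (KRR.extPoly P e) = 1) :
    (∀ i : ℕ, f (AdjoinRoot.root (KRR.extPoly P e) ^ i) = KRR.sigma i e) ∧
    ∀ n : ℕ, 1 ≤ n → n ≤ r → f (linv ^ n) = 0 := by
  have hm : (P.aug e).toNat = r + 1 := by rw [hr]; norm_cast
  have hrel := Groth.Agent.Krr.H478.Functional.root_rel P e (r + 1) hm
  have hvan : ∀ i, r + 1 < i → LambdaRing.LambdaOps.lam i e = 0 := fun i hi =>
    P.lam_eq_zero e he i (by rw [hr]; exact_mod_cast hi)
  have hunit : IsUnit (LambdaRing.LambdaOps.lam (r + 1) e) := hm ▸ P.isUnit_lam e he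
  refine ⟨fun i => ?_, fun n hn hnr => ?_⟩
  · exact Groth.Agent.Krr.H478.Functional.functional_pow e (r + 1) (by omega) hvan _ hrel f
      (fun i hi => hf i (by omega)) i
  · exact Groth.Agent.Krr.H478.Functional.functional_inv_pow e (r + 1) (by omega) hunit _ hrel f
      (fun i hi => hf i (by omega)) linv hlinv n hn (by omega)

end Groth.Agent.S3779
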