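import Groth.Statements.S3780
-- import your own Groth.Agent.* helpers here
import Groth.Agent.Krr.H478.Functional
import Groth.Agent.Krr.H501.FuncLam

set_option autoImplicit false
universe v u
open CategoryTheory CategoryTheory.Limits AlgebraicGeometry
attribute [local instance] HasDerivedCategory.standard
open KRR

namespace Groth.Agent.S3780

/-- Let K be a λ-ring with positive structure admitting a splitting, e a positive element of
augmentation ε(e) = r + 1, K_e = K[T]/(p_e(T)) the elementary extension of K with ℓ the class of T,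
and f : K_e → K a K-linear functional with f(ℓ^i) = σ^i(e) for i ≤ r. For any λ-operations on K_e
extending those of K with λ^i(ℓ) = 0 for i ≥ 2, and q = e − ℓ ∈ K_e, one has f(λ^0(q)) = 1 and
f(λ^i(q)) = 0 for all i ≥ 1; that is, f(λ_t(q)) = 1. -/
theorem result (K : Type v) [CommRing K] [LambdaRing.LambdaOps K] (P : LambdaRing.PosStructure K) (hK : LambdaRing.HasSplitting K P) (e : K) (he : e ∈ P.pos) (r : ℕ) (hr : P.aug e = r + 1)
    (inst : LambdaRing.LambdaOps (AdjoinRoot (KRR.extPoly P e)))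
    (hext : ∀ (i : ℕ) (x : K), @LambdaRing.LambdaOps.lam _ _ inst i (AdjoinRoot.of (KRR.extPoly P e) x) =
      AdjoinRoot.of (KRR.extPoly P e) (LambdaRing.LambdaOps.lam i x))
    (hroot : ∀ i : ℕ, 2 ≤ i → @LambdaRing.LambdaOps.lam _ _ inst i (AdjoinRoot.root (KRR.extPoly P e)) = 0)
    (f : AdjoinRoot (KRR.extPoly P e) →ₗ[K] K)
    (hf : ∀ i : ℕ, i ≤ r → f (AdjoinRoot.root (KRR.extPoly P e) ^ i) = KRR.sigma i e) (i : ℕ) :
    f (@LambdaRing.LambdaOps.lam _ _ inst i (AdjoinRoot.of (KRR.extPoly P e) e - AdjoinRoot.root (KRR.extPoly P e))) =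
      if i = 0 then 1 else 0 := by
  have hm : (P.aug e).toNat = r + 1 := by rw [hr]; norm_cast
  have hrel := Groth.Agent.Krr.H478.Functional.root_rel P e (r + 1) hm
  have hvan : ∀ i, r + 1 < i → LambdaRing.LambdaOps.lam i e = 0 := fun i hi =>
    P.lam_eq_zero e he i (by rw [hr]; exact_mod_cast hi)
  have hpow : ∀ k : ℕ, f (AdjoinRoot.root (KRR.extPoly P e) ^ k) = KRR.sigma k e := fun k =>
    Groth.Agent.Krr.H478.Functional.functional_pow e (r + 1) (by omega) hvan _ hrel f
      (fun i hi => hf i (by omega)) k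
  have h1 : (-1 : AdjoinRoot (KRR.extPoly P e)) ^ i * @LambdaRing.LambdaOps.lam _ _ inst i
      (AdjoinRoot.of (KRR.extPoly P e) e - AdjoinRoot.root (KRR.extPoly P e)) =
      AdjoinRoot.mk (KRR.extPoly P e) (Groth.Agent.Krr.H501.ExtPolyAlg.extPart e i) := by
    have h := @Groth.Agent.Krr.H501.FuncLam.mk_extPart K _ _ e (AdjoinRoot (KRR.extPoly P e)) _ inst
      (AdjoinRoot.of (KRR.extPoly P e)) (fun i x => (hext i x).symm)
      (AdjoinRoot.root (KRR.extPoly P e)) hroot i
    rw [← AdjoinRoot.aeval_eq, Polynomial.aeval_def, AdjoinRoot.algebraMap_eq, h]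
    rfl
  have h2 : f (AdjoinRoot.mk (KRR.extPoly P e) (Groth.Agent.Krr.H501.ExtPolyAlg.extPart e i)) =
      if i = 0 then 1 else 0 := by
    rw [← Groth.Agent.Krr.H501.ExtPolyAlg.sum_ac_mul_sigma e i,
      Groth.Agent.Krr.H501.ExtPolyAlg.extPart, map_sum, map_sum]
    refine Finset.sum_congr rfl fun j _ => ?_
    rw [map_mul, map_pow, AdjoinRoot.mk_X, AdjoinRoot.mk_C, ← AdjoinRoot.algebraMap_eq,
      ← Algebra.smul_def, map_smul, hpow (i - j), smul_eq_mul]
  have h3 : @LambdaRing.LambdaOps.lam _ _ inst i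
      (AdjoinRoot.of (KRR.extPoly P e) e - AdjoinRoot.root (KRR.extPoly P e)) =
      ((-1 : K) ^ i) • AdjoinRoot.mk (KRR.extPoly P e)
        (Groth.Agent.Krr.H501.ExtPolyAlg.extPart e i) := by
    rw [← h1, Algebra.smul_def, map_pow, map_neg, map_one, ← mul_assoc, ← mul_pow]
    simp
  rw [h3, map_smul, h2, smul_eq_mul]
  split_ifs with h0
  · subst h0; simp
  · simp

end Groth.Agent.S3780
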