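import Groth.Statements.S3781
import Groth.Agent.Krr.H480.DetLine
import Groth.Agent.S3288
import Groth.Agent.S3290

set_option autoImplicit false
universe v u
open CategoryTheory CategoryTheory.Limits AlgebraicGeometry
attribute [local instance] HasDerivedCategory.standard
open KRR

namespace Groth.Agent.S3781

open LambdaRing Finset Groth.Agent.Krr.H480.DetLine Groth.Agent.Books.Lambda1
  Groth.Agent.Books.Lambda2 Groth.Agent.Books.Lambda3

/-- `det e - 1` is congruent to `e - ε(e)` modulo the second step of the filtration -/
lemma dt_congr {K : Type v} [CommRing K] [LambdaRing.LambdaOps K]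
    (P : LambdaRing.PosStructure K) (e : K) (he : e ∈ P.pos) :
    (dt P e - 1) - (e - ((P.aug e).toNat : K)) ∈ LambdaRing.gammaFiltration P 2 := by
  have h1 := congrArg (Polynomial.eval (1 : K)) (Groth.Agent.S3290.result K P e he)
  obtain ⟨m, hm⟩ : ∃ m, (P.aug e).toNat = m + 1 := ⟨(P.aug e).toNat - 1, by
    have := P.aug_pos e he; omega⟩
  have h0 := aug_sub_toNat P e he
  rw [dt]
  rw [hm] at h1 h0 ⊢
  rw [Polynomial.eval_finsetSum, Polynomial.eval_finsetSum] at h1
  simp only [Polynomial.eval_mul, Polynomial.eval_C, Polynomial.eval_pow, Polynomial.eval_X,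
    one_pow, mul_one, Polynomial.eval_sub, Polynomial.eval_one, sub_self] at h1
  rw [Finset.sum_range_succ (fun i => LambdaOps.lam i e * 0 ^ (m + 1 - i)), Nat.sub_self, pow_zero,
    mul_one, Finset.sum_eq_zero (s := range (m + 1)) (f := fun i => LambdaOps.lam i e * 0 ^ (m + 1 - i)),
    zero_add] at h1
  · rw [← h1, Finset.sum_range_succ', Finset.sum_range_succ', gamma_zero, zero_add, gamma_one]
    have h2 : ∑ k ∈ range m, gamma (k + 1 + 1) (e - ((m + 1 : ℕ) : K)) + (e - ((m + 1 : ℕ) : K)) +
        1 - 1 - (e - ((m + 1 : ℕ) : K)) =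
        ∑ k ∈ range m, gamma (k + 1 + 1) (e - ((m + 1 : ℕ) : K)) := by ring
    rw [h2]
    apply AddSubgroup.sum_mem
    intro i _
    exact filtration_anti P (by omega) (gamma_mem_filtration P h0 _)
  · intro i hi
    have := Finset.mem_range.mp hi
    rw [zero_pow (by omega), mul_zero]

/-- Let K be a λ-ring with positive structure having the splitting property, L its group of line
elements and F^n the γ-filtration. Assume moreover that the inverse of a line element is a line
element and that for a positive e with ε(e) = r the element det e = λ^r(e) is positive (hence a line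
element); these are part of the published setting but are not implied by the axioms used here, so
they are hypotheses. Then u ↦ u − 1 induces an isomorphism L ≅ Gr^1 K = F^1/F^2: every x ∈ F^1 is
congruent modulo F^2 to u − 1 for some line element u, and line elements u, v with u − v ∈ F^2 are
equal. -/
theorem result (K : Type v) [CommRing K] [LambdaRing.LambdaOps K] (P : LambdaRing.PosStructure K) (hK : LambdaRing.HasSplitting K P)
    (hLinv : ∀ w : K, P.IsLine w → ∃ w' : K, P.IsLine w' ∧ w * w' = 1)
    (hdet : ∀ e : K, e ∈ P.pos → LambdaRing.LambdaOps.lam (P.aug e).toNat e ∈ P.pos) :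
    (∀ x : K, x ∈ LambdaRing.gammaFiltration P 1 → ∃ u : K, P.IsLine u ∧ x - (u - 1) ∈ LambdaRing.gammaFiltration P 2) ∧
    ∀ u v : K, P.IsLine u → P.IsLine v → u - v ∈ LambdaRing.gammaFiltration P 2 → u = v := by
  have hline : ∀ e : K, e ∈ P.pos → P.IsLine (dt P e) := by
    intro e he
    refine ⟨hdet e he, ?_⟩
    rw [dt, Groth.Agent.S3288.result K P hK e he, Nat.choose_self]
    simp
  constructor
  · intro x hx
    have hx0 := aug_of_mem_one P hK x hx
    obtain ⟨e, f, he, hf, rfl⟩ := P.exists_sub x
    have hef : P.aug e = P.aug f := by rw [map_sub] at hx0; omega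
    obtain ⟨b', hb', hbb⟩ := hLinv _ (hline f hf)
    refine ⟨dt P e * b', IsLine_mul P (hline e he) hb', ?_⟩
    have h1 := dt_congr P e he
    have h2 := dt_congr P f hf
    rw [hef] at h1
    have h3 : P.aug (dt P e * b' - 1) = 0 := by
      rw [map_sub, map_one, (IsLine_mul P (hline e he) hb').2, sub_self]
    have h4 : P.aug (dt P f - 1) = 0 := by
      rw [map_sub, map_one, (hline f hf).2, sub_self]
    have h5 := gamma_mem_filtration P h3 1
    have h6 := gamma_mem_filtration P h4 1
    rw [gamma_one] at h5 h6
    have h7 := mul_mem_filtration P 1 1 _ _ h5 h6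
    have h8 : e - f - (dt P e * b' - 1) =
        -((dt P e - 1) - (e - ((P.aug f).toNat : K))) + ((dt P f - 1) - (f - ((P.aug f).toNat : K)))
          + (dt P e * b' - 1) * (dt P f - 1) := by
      linear_combination (-(dt P e)) * hbb
    rw [h8]
    exact AddSubgroup.add_mem _ (AddSubgroup.add_mem _ (AddSubgroup.neg_mem _ h1) h2) h7
  · intro u v hu hv huv
    have h1 := filtration_two_le P hK _ huv
    rw [mem_detKer_iff P _ _ hu.1 hv.1, dt_line P u hu, dt_line P v hv] at h1
    exact h1

end Groth.Agent.S3781
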