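-- helper485
import Groth.Statements.S3786
import Groth.Agent.Krr.H485.PushCoh
import Groth.Agent.Krr.H485.RegGen
import Groth.Agent.Krr.H447.Syz
import Groth.Agent.Krr.H498.PushRes

set_option autoImplicit false
universe v u
open CategoryTheory CategoryTheory.Limits AlgebraicGeometry
attribute [local instance] HasDerivedCategory.standard
open KRR

namespace Groth.Agent.S3786

open Groth.Agent.Krr.H485.PushCoh Groth.Agent.Krr.H485 in
/-- Let Y be a connected Noetherian scheme in which every coherent module on Y and on P^n_Y is a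
quotient of a finite locally free one, and f = i ≫ p : X ⟶ Y with i : X ⟶ P^n_Y a regular closed
imbedding (X connected) and p the projection. Let δ_X : K₀(bundles on X) ⟶ K₀(Coh X) and δ_Y be the
maps induced by the inclusions (arguments hX, hY), f_K = p_K ∘ i_K the push-forward on K of bundles
(through models (KX, PX, φX), (KP, PP, φP), (KY, PY, φY)), and g the push-forward on K₀ of coherent
modules, g[F] = Σ_{i ≤ N} (-1)^i [R^i f_* F]. Then δ_Y ∘ f_K = g ∘ δ_X: for x ∈ K₀(bundles on X) and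
y ∈ K₀(bundles on Y) with φY y = f_K (φX x), δ_Y y = g (δ_X x). -/
theorem result (n : ℕ) {X Y : Scheme.{u}} [IsNoetherian X] [ConnectedSpace ↥X] [IsNoetherian Y] [ConnectedSpace ↥Y] (hYe : KRR.HasEnoughLocFree Y)
    (hPe : KRR.HasEnoughLocFree (KRR.PY n Y)) [HasInjectiveResolutions X.Modules]
    (i : X ⟶ KRR.PY n Y) (hi : Mor2.IsRegularClosedImmersion i)
    (hX : ∀ M : X.Modules, FlatMod.IsFinLocFree M → Coh.IsCoh M) (hY : ∀ M : Y.Modules, FlatMod.IsFinLocFree M → Coh.IsCoh M)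
    (KX : Type v) [CommRing KX] [LambdaRing.LambdaOps KX] (PX : LambdaRing.PosStructure KX) (φX : SGA6.Kvb X →+ KX) (hKX : KRR.IsModel X KX PX φX)
    (KP : Type v) [CommRing KP] [LambdaRing.LambdaOps KP] (PP : LambdaRing.PosStructure KP) (φP : SGA6.Kvb (KRR.PY n Y) →+ KP) (hKP : KRR.IsModel (KRR.PY n Y) KP PP φP)
    (KY : Type v) [CommRing KY] [LambdaRing.LambdaOps KY] (PY : LambdaRing.PosStructure KY) (φY : SGA6.Kvb Y →+ KY) (hKY : KRR.IsModel Y KY PY φY)
    (a : KX →+ KP) (ha : KRR.IsPushCl i φX φP a) (b : KP →+ KY) (hb : KRR.IsPushPr n Y φP φY b)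
    (N : ℕ) (g : SGA6.Kcoh X →+ SGA6.Kcoh Y) (hg : KRR.IsPushCoh (i ≫ KRR.pr n Y) N g)
    (x : SGA6.Kvb X) (y : SGA6.Kvb Y) (hxy : φY y = b (a (φX x))) :
    SGA6.mapSub (𝟭 Y.Modules) (KRR.vbP Y) (fun M : Y.Modules => Coh.IsCoh M) hY y =
      g (SGA6.mapSub (𝟭 X.Modules) (KRR.vbP X) (fun M : X.Modules => Coh.IsCoh M) hX x) := by
  have hproper : IsProper (KRR.pr n Y) := Ega3B.ProjProper.isProper_toBase n Y
  have hPloc : IsLocallyNoetherian (KRR.PY n Y) := LocallyOfFiniteType.isLocallyNoetherian (KRR.pr n Y)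
  have hPcpt : CompactSpace (KRR.PY n Y) := QuasiCompact.compactSpace_of_compactSpace (KRR.pr n Y)
  have hPN : IsNoetherian (KRR.PY n Y) := {}
  have hinjP := LerayCl.hasInjectiveResolutions (KRR.PY n Y)
  have hcl : IsClosedImmersion i := hi.1
  have hP : ∀ M : (KRR.PY n Y).Modules, FlatMod.IsFinLocFree M → Coh.IsCoh M :=
    fun M hM => PerfA.CohSerre.isCoh_of_isFinLocFree hM
  -- the inverse of `φY`
  let eY : SGA6.Kvb Y ≃+ KY := AddEquiv.ofBijective φY hKY.bijective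
  let δX := SGA6.mapSub (𝟭 X.Modules) (KRR.vbP X) (fun M : X.Modules => Coh.IsCoh M) hX
  let δY := SGA6.mapSub (𝟭 Y.Modules) (KRR.vbP Y) (fun M : Y.Modules => Coh.IsCoh M) hY
  let δP := SGA6.mapSub (𝟭 (KRR.PY n Y).Modules) (KRR.vbP (KRR.PY n Y))
    (fun M : (KRR.PY n Y).Modules => Coh.IsCoh M) hP
  have hδX : ∀ F : X.Modules, FlatMod.IsFinLocFree F → δX (KRR.cl X F) = KZero.clSub (cohP X) F :=
    fun F hF => Sga67.K0Map.mapSub_clSub _ _ _ _ hF
  have hδY : ∀ F : Y.Modules, FlatMod.IsFinLocFree F → δY (KRR.cl Y F) = KZero.clSub (cohP Y) F :=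
    fun F hF => Sga67.K0Map.mapSub_clSub _ _ _ _ hF
  have hδP : ∀ F : (KRR.PY n Y).Modules, FlatMod.IsFinLocFree F →
      δP (KRR.cl (KRR.PY n Y) F) = KZero.clSub (cohP (KRR.PY n Y)) F :=
    fun F hF => Sga67.K0Map.mapSub_clSub _ _ _ _ hF
  have hNP : ∀ F : (KRR.PY n Y).Modules, Coh.IsCoh F → ∀ q : ℕ, n < q →
      IsZero ((Coh.Rpush (KRR.pr n Y) q).obj F) :=
    fun F hF q hq => RegTw.isZero_Rpush_of_lt F hF.1 q hq
  let gP : SGA6.Kcoh (KRR.PY n Y) →+ SGA6.Kcoh Y := pushCoh (KRR.pr n Y) n hNP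
  -- Step 1: the projection
  have h1 : gP.comp δP = (δY.comp eY.symm.toAddMonoidHom).comp (b.comp φP) := by
    refine RegGen.hom_ext fun E hE m _ => ?_
    have hF := RegTw.isFinLocFree_twF_pull (n := n) hE (m : ℤ)
    have hpush : FlatMod.IsFinLocFree ((Scheme.Modules.pushforward (KRR.pr n Y)).obj
        (KRR.twF n Y (m : ℤ) ((Scheme.Modules.pullback (KRR.pr n Y)).obj E))) :=
      Sga67.PushTwist.isFinLocFree_push_tw_pull n Y m hE
    have h2 : b (φP (KRR.cl (KRR.PY n Y) (KRR.twF n Y (m : ℤ)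
        ((Scheme.Modules.pullback (KRR.pr n Y)).obj E)))) =
        φY (KRR.cl Y ((Scheme.Modules.pushforward (KRR.pr n Y)).obj
          (KRR.twF n Y (m : ℤ) ((Scheme.Modules.pullback (KRR.pr n Y)).obj E)))) :=
      hb _ hF (RegTw.isRegSheaf_twF_pull hE (m : ℤ) (by omega))
    have h3 : eY.symm (φY (KRR.cl Y ((Scheme.Modules.pushforward (KRR.pr n Y)).obj
          (KRR.twF n Y (m : ℤ) ((Scheme.Modules.pullback (KRR.pr n Y)).obj E))))) =
        KRR.cl Y ((Scheme.Modules.pushforward (KRR.pr n Y)).obj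
          (KRR.twF n Y (m : ℤ) ((Scheme.Modules.pullback (KRR.pr n Y)).obj E))) :=
      eY.symm_apply_apply _
    change gP (δP (KRR.cl (KRR.PY n Y) _)) = δY (eY.symm (b (φP (KRR.cl (KRR.PY n Y) _))))
    rw [hδP _ hF, h2, h3, hδY _ hpush]
    exact pushCoh_clSub_of_acyclic (KRR.pr n Y) n hNP (hP _ hF)
      (fun q hq => RegTw.isZero_Rpush_tw_pull hE (m : ℤ) (by omega) q hq)
  -- Step 2: the closed immersion
  have h2 : (δY.comp eY.symm.toAddMonoidHom).comp ((b.comp a).comp φX) = g.comp δX := by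
    refine Sga67.K0Basic.hom_ext_sub fun F hF => ?_
    obtain ⟨m, L, π, hL⟩ := Krr.H498.PushRes.hasLFRes_pushforward hPe i hi hF
    have e1 : a (φX (KRR.cl X F)) =
        φP (∑ k ∈ Finset.range (m + 1), (-1 : ℤ) ^ k • KRR.cl (KRR.PY n Y) (L.X k)) := by
      rw [ha F hF m L π hL, map_sum]
      refine Finset.sum_congr rfl fun k _ => ?_
      rw [map_zsmul]
    have e2 : Coh.IsCoh ((Scheme.Modules.pushforward i).obj F) ∧
        δP (∑ k ∈ Finset.range (m + 1), (-1 : ℤ) ^ k • KRR.cl (KRR.PY n Y) (L.X k)) =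
          KZero.clSub (cohP (KRR.PY n Y)) ((Scheme.Modules.pushforward i).obj F) := by
      refine Krr.H447.Syz.isLFRes_induction (fun M c => Coh.IsCoh M ∧
        δP c = KZero.clSub (cohP (KRR.PY n Y)) M) ?_ ?_ ?_ hL
      · rintro M M' c e ⟨h, h'⟩
        exact ⟨PerfA.CohSerre.isCoh_of_iso e h, h'.trans (clSub_coh_iso e)⟩
      · intro M hM
        exact ⟨PerfA.CohSerre.isCoh_of_isZero hM,
          (map_zero δP).trans (Cohder.KZBasic.clSub_zero _ hM).symm⟩
      · rintro T hT hT2 c ⟨h, h'⟩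
        have h3 : Coh.IsCoh T.X₃ := by
          have := hT.epi_g
          exact PerfA.CohSerre.isCoh_of_iso
            (IsColimit.coconePointUniqueUpToIso (cokernelIsCokernel T.f) hT.gIsCokernel)
            (PerfA.CohSerre.isCoh_cokernel T.f h.1 (hP _ hT2))
        refine ⟨h3, ?_⟩
        rw [map_sub, h', hδP _ hT2,
          Cohder.KZBasic.clSub_shortExact (cohP (KRR.PY n Y)) T hT h (hP _ hT2) h3]
        abel
    have e3 : gP (δP (∑ k ∈ Finset.range (m + 1), (-1 : ℤ) ^ k • KRR.cl (KRR.PY n Y) (L.X k))) =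
        δY (eY.symm (b (a (φX (KRR.cl X F))))) := by
      rw [e1]
      exact congrArg (fun f => f (∑ k ∈ Finset.range (m + 1),
        (-1 : ℤ) ^ k • KRR.cl (KRR.PY n Y) (L.X k))) h1
    change δY (eY.symm (b (a (φX (KRR.cl X F))))) = g (δX (KRR.cl X F))
    rw [← e3, e2.2, hδX F hF, hg.2 F (hX F hF), pushCoh_clSub (KRR.pr n Y) n hNP e2.1]
    exact (push_comp_closed i (KRR.pr n Y) N n F (hg.1 F (hX F hF)) (hNP _ e2.1)).symm
  have h3 : y = eY.symm (b (a (φX x))) := by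
    rw [← hxy]
    exact (eY.symm_apply_apply y).symm
  rw [h3]
  exact congrArg (fun f => f x) h2

end Groth.Agent.S3786
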