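import Groth.Statements.S3791
import Groth.Agent.Krr.H490.NilpLine
-- import your own Groth.Agent.* helpers here

set_option autoImplicit false
universe v u
open CategoryTheory CategoryTheory.Limits AlgebraicGeometry
attribute [local instance] HasDerivedCategory.standard
open KRR

namespace Groth.Agent.S3791

/-- Let K be a λ-ring with positive structure P and u an ample line element (for every x, u^n x is a
positive element minus a natural number for all large n). Then for every line element v, the element
v - 1 is nilpotent. -/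
theorem result (K : Type v) [CommRing K] [LambdaRing.LambdaOps K] (P : LambdaRing.PosStructure K)
    (u : K) (hu : KRR.IsAmpleElt P u) (w : K) (hw : P.IsLine w) : IsNilpotent (w - 1) := by
  obtain ⟨hul, ham⟩ := hu
  obtain ⟨n₁, h₁⟩ := ham (-w)
  obtain ⟨n₂, h₂⟩ := ham (-1)
  obtain ⟨e₁, m₁, he₁, hm₁⟩ := h₁ (max n₁ n₂) (le_max_left _ _)
  obtain ⟨e₂, m₂, he₂, hm₂⟩ := h₂ (max n₁ n₂) (le_max_right _ _)
  generalize max n₁ n₂ = n at hm₁ hm₂
  have hun : P.IsLine (u ^ n) := Books.Lambda1.IsLine_pow P hul n
  have a₁ : IsNilpotent (u ^ n * w - 1) :=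
    Krr.H490.NilpLine.isNilpotent_of_neg P (Books.Lambda1.IsLine_mul P hun hw) he₁
      (by rw [← hm₁]; ring)
  have a₂ : IsNilpotent (u ^ n - 1) :=
    Krr.H490.NilpLine.isNilpotent_of_neg P hun he₂ (by rw [← hm₂]; ring)
  have e : w - 1 = (u ^ n * w - 1) - (u ^ n - 1) * w := by ring
  rw [e]
  exact (Commute.all _ _).isNilpotent_sub a₁ ((Commute.all _ _).isNilpotent_mul_right a₂)

end Groth.Agent.S3791
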