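import Groth.Statements.S3797
import Groth.Agent.Krr.H496.PullK0
-- import your own Groth.Agent.* helpers here

set_option autoImplicit false
universe v u
open CategoryTheory CategoryTheory.Limits AlgebraicGeometry
attribute [local instance] HasDerivedCategory.standard
open KRR

namespace Groth.Agent.S3797

/-- For a morphism f : X ⟶ Y of connected Noetherian schemes and models (KX, PX, φX), (KY, PY, φY) of
K(X) and K(Y), there is a unique additive map g : K(Y) ⟶ K(X) with g[E] = [f^*E] for every finite
locally free O_Y-module E (the pull-back f^K). (The published treatment adds that f^K is a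
homomorphism of λ-rings; that is not asserted here.) -/
theorem result {X Y : Scheme.{u}} (f : X ⟶ Y) [IsNoetherian X] [ConnectedSpace ↥X] [IsNoetherian Y] [ConnectedSpace ↥Y]
    (KX : Type v) [CommRing KX] [LambdaRing.LambdaOps KX] (PX : LambdaRing.PosStructure KX) (φX : SGA6.Kvb X →+ KX) (hKX : KRR.IsModel X KX PX φX)
    (KY : Type v) [CommRing KY] [LambdaRing.LambdaOps KY] (PY : LambdaRing.PosStructure KY) (φY : SGA6.Kvb Y →+ KY) (hKY : KRR.IsModel Y KY PY φY) :
    ∃! g : KY →+ KX, KRR.IsPull f φY φX g := by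
  let eY : SGA6.Kvb Y ≃+ KY := AddEquiv.ofBijective φY hKY.bijective
  refine ⟨(φX.comp (Groth.Agent.Krr.H496.PullK0.pullK0 f)).comp eY.symm.toAddMonoidHom, ?_, ?_⟩
  · intro E hE
    have h1 : eY.symm (φY (KRR.cl Y E)) = KRR.cl Y E := eY.symm_apply_apply _
    change φX (Groth.Agent.Krr.H496.PullK0.pullK0 f (eY.symm (φY (KRR.cl Y E)))) = _
    rw [h1]
    exact congrArg φX (Groth.Agent.Krr.H496.PullK0.pullK0_cl f hE)
  · intro g hg
    refine AddMonoidHom.ext fun y => ?_
    obtain ⟨x, rfl⟩ := hKY.bijective.2 y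
    have h2 : g.comp φY = φX.comp (Groth.Agent.Krr.H496.PullK0.pullK0 f) := by
      apply Groth.Agent.Sga67.K0Basic.hom_ext_sub
      intro E hE
      have h3 := hg E hE
      have h4 := congrArg φX (Groth.Agent.Krr.H496.PullK0.pullK0_cl f hE)
      exact h3.trans h4.symm
    have h5 : eY.symm (φY x) = x := eY.symm_apply_apply x
    change g (φY x) = φX (Groth.Agent.Krr.H496.PullK0.pullK0 f (eY.symm (φY x)))
    rw [h5]
    exact DFunLike.congr_fun h2 x

end Groth.Agent.S3797
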