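import Groth.Statements.S3798
import Groth.Agent.Krr.H497.PushK

set_option autoImplicit false
universe v u
open CategoryTheory CategoryTheory.Limits AlgebraicGeometry
attribute [local instance] HasDerivedCategory.standard
open KRR

namespace Groth.Agent.S3798

/-- Let Y be a connected Noetherian scheme, p : P^n_Y ⟶ Y, and (KP, PP, φP), (KY, PY, φY) models of
K(P^n_Y), K(Y). Then there is a unique additive map g : K(P^n_Y) ⟶ K(Y) with g[F] = [p_* F] for
every finite locally free F which is regular relative to p (the push-forward p_K). -/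
theorem result (n : ℕ) (Y : Scheme.{u}) [IsNoetherian Y] [ConnectedSpace ↥Y]
    (KP : Type v) [CommRing KP] [LambdaRing.LambdaOps KP] (PP : LambdaRing.PosStructure KP) (φP : SGA6.Kvb (KRR.PY n Y) →+ KP) (hKP : KRR.IsModel (KRR.PY n Y) KP PP φP)
    (KY : Type v) [CommRing KY] [LambdaRing.LambdaOps KY] (PY : LambdaRing.PosStructure KY) (φY : SGA6.Kvb Y →+ KY) (hKY : KRR.IsModel Y KY PY φY) :
    ∃! g : KP →+ KY, KRR.IsPushPr n Y φP φY g := by
  let eP : SGA6.Kvb (KRR.PY n Y) ≃+ KP := AddEquiv.ofBijective φP hKP.bijective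
  refine ⟨(φY.comp (Groth.Agent.Krr.H497.PushK.push n Y)).comp eP.symm.toAddMonoidHom,
    fun F hF hreg => ?_, fun g hg => ?_⟩
  · have h1 : eP.symm (φP (cl (KRR.PY n Y) F)) = cl (KRR.PY n Y) F := eP.symm_apply_apply _
    change φY (Groth.Agent.Krr.H497.PushK.push n Y (eP.symm (φP (cl (KRR.PY n Y) F)))) = _
    rw [h1, Groth.Agent.Krr.H497.PushK.push_cl hF hreg]
  · have h1 : g.comp φP = φY.comp (Groth.Agent.Krr.H497.PushK.push n Y) := by
      refine Groth.Agent.Krr.H497.PushK.hom_ext_reg fun F hF hreg => ?_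
      rw [AddMonoidHom.comp_apply, AddMonoidHom.comp_apply,
        Groth.Agent.Krr.H497.PushK.push_cl hF hreg]
      exact hg F hF hreg
    refine AddMonoidHom.ext fun x => ?_
    obtain ⟨y, rfl⟩ := hKP.bijective.2 x
    have h2 : eP.symm (φP y) = y := eP.symm_apply_apply _
    change g (φP y) = φY (Groth.Agent.Krr.H497.PushK.push n Y (eP.symm (φP y)))
    rw [h2]
    exact DFunLike.congr_fun h1 y

end Groth.Agent.S3798
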