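import Groth.Statements.S3800
import Groth.Agent.Krr.H499.Gen
import Groth.Agent.Krr.H499.PullTw
import Groth.Agent.Krr.H499.RegTw
import Groth.Agent.Sga67.PushTwist
import Groth.Agent.Sga67.K0Basic

set_option autoImplicit false
universe v u
open CategoryTheory CategoryTheory.Limits AlgebraicGeometry
attribute [local instance] HasDerivedCategory.standard
open KRR

namespace Groth.Agent.S3800

/-- Case of a projection (excess dimension 0), for the trivial bundle: let Y, Y₁ be connected Noetherian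
schemes, φ : Y₁ ⟶ Y, p : P^n_Y ⟶ Y and p₁ : P^n_{Y₁} ⟶ Y₁ the projections and ψ : P^n_{Y₁} ⟶ P^n_Y
the induced morphism. With models of the four K-rings, pull-backs φ^K, ψ^K and push-forwards p_K,
(p₁)_K (via regular sheaves): φ^K (p_K z) = (p₁)_K (ψ^K z) for every z ∈ K(P^n_Y). -/
theorem result (n : ℕ) {Y Y₁ : Scheme.{u}} [IsNoetherian Y] [ConnectedSpace ↥Y] [IsNoetherian Y₁] [ConnectedSpace ↥Y₁]
    (φ : Y₁ ⟶ Y)
    (KP : Type v) [CommRing KP] [LambdaRing.LambdaOps KP] (PP : LambdaRing.PosStructure KP) (φP : SGA6.Kvb (KRR.PY n Y) →+ KP) (hKP : KRR.IsModel (KRR.PY n Y) KP PP φP)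
    (KY : Type v) [CommRing KY] [LambdaRing.LambdaOps KY] (PY : LambdaRing.PosStructure KY) (φY : SGA6.Kvb Y →+ KY) (hKY : KRR.IsModel Y KY PY φY)
    (KP₁ : Type v) [CommRing KP₁] [LambdaRing.LambdaOps KP₁] (PP₁ : LambdaRing.PosStructure KP₁) (φP₁ : SGA6.Kvb (KRR.PY n Y₁) →+ KP₁) (hKP₁ : KRR.IsModel (KRR.PY n Y₁) KP₁ PP₁ φP₁)
    (KY₁ : Type v) [CommRing KY₁] [LambdaRing.LambdaOps KY₁] (PY₁ : LambdaRing.PosStructure KY₁) (φY₁ : SGA6.Kvb Y₁ →+ KY₁) (hKY₁ : KRR.IsModel Y₁ KY₁ PY₁ φY₁)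
    (gφ : KY →+ KY₁) (hgφ : KRR.IsPull φ φY φY₁ gφ)
    (gψ : KP →+ KP₁) (hgψ : KRR.IsPull (KRR.projSpaceMap n φ) φP φP₁ gψ)
    (b : KP →+ KY) (hb : KRR.IsPushPr n Y φP φY b) (b₁ : KP₁ →+ KY₁) (hb₁ : KRR.IsPushPr n Y₁ φP₁ φY₁ b₁)
    (z : KP) : gφ (b z) = b₁ (gψ z) := by
  obtain ⟨w, rfl⟩ := hKP.bijective.2 z
  have key : (gφ.comp b).comp φP = (b₁.comp gψ).comp φP := by
    refine Groth.Agent.Krr.H499.Gen.hom_ext n Y fun i _ E hE => ?_
    have hf : FlatMod.IsFinLocFree ((Scheme.Modules.pullback (KRR.pr n Y)).obj E) :=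
      PerfB.FlatPull.isFinLocFree_pullback _ hE
    have hF : FlatMod.IsFinLocFree
        (KRR.twF n Y (i : ℤ) ((Scheme.Modules.pullback (KRR.pr n Y)).obj E)) :=
      Sga67.TwistOver.isFinLocFree_tw n Y i _ hf
    have hE₁ : FlatMod.IsFinLocFree ((Scheme.Modules.pullback φ).obj E) :=
      PerfB.FlatPull.isFinLocFree_pullback _ hE
    have hf₁ : FlatMod.IsFinLocFree ((Scheme.Modules.pullback (KRR.pr n Y₁)).obj
        ((Scheme.Modules.pullback φ).obj E)) := PerfB.FlatPull.isFinLocFree_pullback _ hE₁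
    have hF₁ : FlatMod.IsFinLocFree (KRR.twF n Y₁ (i : ℤ)
        ((Scheme.Modules.pullback (KRR.pr n Y₁)).obj ((Scheme.Modules.pullback φ).obj E))) :=
      Sga67.TwistOver.isFinLocFree_tw n Y₁ i _ hf₁
    have h1 : b (φP (KRR.cl (KRR.PY n Y)
        (KRR.twF n Y (i : ℤ) ((Scheme.Modules.pullback (KRR.pr n Y)).obj E)))) =
        (i + n).choose n • φY (KRR.cl Y E) := by
      rw [hb _ hF (Krr.H499.RegTw.isRegSheaf_twF_pull n E hE i (by positivity)), ← map_nsmul]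
      exact congrArg φY (Sga67.PushTwist.clSub_push_tw_pull n Y i hE)
    have h2 : b₁ (φP₁ (KRR.cl (KRR.PY n Y₁) (KRR.twF n Y₁ (i : ℤ)
        ((Scheme.Modules.pullback (KRR.pr n Y₁)).obj ((Scheme.Modules.pullback φ).obj E))))) =
        (i + n).choose n • φY₁ (KRR.cl Y₁ ((Scheme.Modules.pullback φ).obj E)) := by
      rw [hb₁ _ hF₁ (Krr.H499.RegTw.isRegSheaf_twF_pull n _ hE₁ i (by positivity)), ← map_nsmul]
      exact congrArg φY₁ (Sga67.PushTwist.clSub_push_tw_pull n Y₁ i hE₁)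
    have h3 : KRR.cl (KRR.PY n Y₁) ((Scheme.Modules.pullback (KRR.projSpaceMap n φ)).obj
        (KRR.twF n Y (i : ℤ) ((Scheme.Modules.pullback (KRR.pr n Y)).obj E))) =
        KRR.cl (KRR.PY n Y₁) (KRR.twF n Y₁ (i : ℤ)
          ((Scheme.Modules.pullback (KRR.pr n Y₁)).obj ((Scheme.Modules.pullback φ).obj E))) :=
      Sga67.K0Basic.clSub_iso' (Krr.H499.PullTw.pullTwFPrIso n φ i E)
        (PerfB.FlatPull.isFinLocFree_pullback _ hF) hF₁ (isZero_zero _)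
        (Dcoh.FinLocFree.isFinLocFree_of_isZero (isZero_zero _))
    change gφ (b (φP _)) = b₁ (gψ (φP _))
    rw [hgψ _ hF, h3, h2, h1, map_nsmul, hgφ E hE]
  exact DFunLike.congr_fun key w

end Groth.Agent.S3800
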