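import Groth.Statements.S3834
import Groth.Agent.Ega4late.H521.SchDenseAffine

set_option autoImplicit false
universe u
open CategoryTheory CategoryTheory.Limits AlgebraicGeometry TopologicalSpace
open Rat20

namespace Groth.Agent.S3834

/-- Let X = Spec A be an affine scheme, with A Noetherian, or A reduced with finitely many minimal
primes. Then an open subset U of X is schematically dense if and only if it contains an open subset
of the form X_t with t a regular element of A = Γ(X, O_X). -/
theorem result (X : Scheme.{u}) [IsAffine X]
    (hX : IsNoetherian X ∨ (IsReduced X ∧ (irreducibleComponents ↥X).Finite)) (U : X.Opens) :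
    CInt.IsSchematicallyDense U ↔ ∃ t : Γ(X, ⊤), t ∈ nonZeroDivisors Γ(X, ⊤) ∧ X.basicOpen t ≤ U := by
  constructor
  · intro hU
    rcases hX with hX | ⟨hr, hf⟩
    · exact Groth.Agent.Ega4late.H521.SchDenseAffine.exists_basicOpen_le_of_isNoetherian hU
    · exact Groth.Agent.Ega4late.H521.SchDenseAffine.exists_basicOpen_le_of_isReduced hf hU
  · rintro ⟨t, ht, hle⟩
    exact Groth.Agent.Ega4late.H521.SchDenseAffine.isSchematicallyDense_of_basicOpen_le ht hle

end Groth.Agent.S3834
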