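import Groth.Statements.S3840
import Groth.Agent.Ega4late.H534.LocalGen
-- import your own Groth.Agent.* helpers here

set_option autoImplicit false
universe u
open CategoryTheory CategoryTheory.Limits AlgebraicGeometry TopologicalSpace
open Div21

namespace Groth.Agent.S3840

/-- Let X and Y be locally Noetherian schemes and f : X → Y a faithfully flat morphism which is
quasi-compact or open; suppose Y is normal and that for every point y of Y whose local ring has
dimension 1 the fibre X_y is integral. Then every invertible O_X-module L whose restriction to the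
fibre X_η is isomorphic to O_{X_η} for every maximal point η of Y is isomorphic to f^*(M) for some
invertible O_Y-module M. -/
theorem result {X Y : Scheme.{u}} [IsLocallyNoetherian X]
    [IsLocallyNoetherian Y] (f : X ⟶ Y) [Flat f] [Surjective f] (hf : QuasiCompact f ∨ IsOpenMap f)
    (hY : Pi1.IsNormalScheme Y)
    (hfib : ∀ y : ↥Y, ringKrullDim ↑(Y.presheaf.stalk y) = 1 → IsIntegral (f.fiber y))
    (L : X.Modules) (hL : PicF.IsInvertible L)
    (htriv : ∀ η : ↥Y, (∀ z : ↥Y, z ⤳ η → z = η) →
      Nonempty ((Scheme.Modules.pullback (f.fiberι η)).obj L ≅ Coh.structureModule (f.fiber η))) :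
    ∃ M : Y.Modules, PicF.IsInvertible M ∧ Nonempty ((Scheme.Modules.pullback f).obj M ≅ L) := by
  classical
  have hq : Topology.IsQuotientMap f := by
    rcases hf with h | h
    · exact Flat.isQuotientMap_of_surjective f
    · exact h.isQuotientMap f.continuous f.surjective
  let t : ∀ η : Y, (∀ z : Y, z ⤳ η → z = η) → Γ((Scheme.Modules.pullback (f.fiberι η)).obj L, ⊤) :=
    fun η h => Fdesc.LocGen.sec (htriv η h).some.inv ⊤
  have ht : ∀ η h, Fdesc.LocGen.IsGen (t η h) := fun η h =>
    (Fdesc.LocGen.isIso_iff_isGen (htriv η h).some.inv).mp inferInstance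
  choose V m hyV hm hloc using Ega4late.H534.LocalGen.exists_local hY hfib hq hL ht
  choose g hg using fun i j : Y => Ega4late.H534.LocalGen.exists_transition (hm j) (hloc i) (hloc j)
  have hV : ⨆ i, V i = ⊤ := by
    rw [eq_top_iff]
    intro y _
    exact Opens.mem_iSup.mpr ⟨y, hyV y⟩
  obtain ⟨M, n, φ, hn, -, -⟩ := Picfga.LineDescent.exists_descent f V hV m hm
    (PerfB.UnitMono.app_injective f) g hg
  exact ⟨M, Picfga.LineDescent.isInvertible_of_gens hV hn, ⟨φ⟩⟩

end Groth.Agent.S3840
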