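import Groth.Statements.S3846

set_option autoImplicit false
universe u
open CategoryTheory CategoryTheory.Limits AlgebraicGeometry TopologicalSpace
open Unram17

namespace Groth.Agent.S3846

/-- A morphism `t` whose composite with an unramified morphism `h` (formally unramified and locally
of finite type) is an open immersion is an open immersion. -/
theorem isOpenImmersion_of_postcomp {A B C : Scheme.{u}} (t : A ⟶ B) (h : B ⟶ C)
    [FormallyUnramified h] [LocallyOfFiniteType h] [IsOpenImmersion (t ≫ h)] :
    IsOpenImmersion t := by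
  let gr : A ⟶ pullback (t ≫ h) h := pullback.lift (𝟙 A) t (by simp)
  have e : gr ≫ pullback.snd (t ≫ h) h = t := pullback.lift_snd _ _ _
  have h1 : IsOpenImmersion gr :=
    MorphismProperty.of_isPullback (P := @IsOpenImmersion)
      (pullback_lift_diagonal_isPullback t h)
      (inferInstanceAs (IsOpenImmersion (pullback.diagonal h)))
  have h2 : IsOpenImmersion (gr ≫ pullback.snd (t ≫ h) h) := inferInstance
  rwa [e] at h2

/-- If `t ≫ g` is an open immersion and `g` is an open immersion, then so is `t`. -/
theorem isOpenImmersion_of_comp_open {A B C : Scheme.{u}} (t : A ⟶ B) (g : B ⟶ C)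
    [IsOpenImmersion g] [IsOpenImmersion (t ≫ g)] : IsOpenImmersion t :=
  IsOpenImmersion.of_comp t g

/-- a) iff b''): let f : X → Y be locally of finite presentation and x a point of X. Then f is
unramified on some open neighbourhood of x if and only if, for every base change g : Y' → Y and
every section s' of X ×_Y Y' → Y', s' is a local isomorphism at every point y' of Y' such that
s'(y') lies over x. -/
theorem result {X Y : Scheme.{u}} (f : X ⟶ Y) [LocallyOfFinitePresentation f]
    (x : ↥X) :
    (∃ U : X.Opens, x ∈ U ∧ FormallyUnramified (U.ι ≫ f)) ↔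
      ∀ (Y' : Scheme.{u}) (g : Y' ⟶ Y) (s' : Y' ⟶ pullback f g), s' ≫ pullback.snd f g = 𝟙 Y' →
        ∀ y' : ↥Y', pullback.fst f g (s' y') = x → SchLoc.IsLocalIsoAt s' y' := by
  constructor
  · rintro ⟨U, hxU, hU⟩ Y' g s' hs y' hy
    let U' : (pullback f g).Opens := (pullback.fst f g) ⁻¹ᵁ U
    have sq : IsPullback (pullback.fst f g ∣_ U) (U'.ι ≫ pullback.snd f g) (U.ι ≫ f) g :=
      (isPullback_morphismRestrict (pullback.fst f g) U).paste_vert (IsPullback.of_hasPullback f g)
    have hfu : FormallyUnramified (U'.ι ≫ pullback.snd f g) :=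
      MorphismProperty.of_isPullback (P := @FormallyUnramified) sq hU
    have hlft : LocallyOfFiniteType (U'.ι ≫ pullback.snd f g) := inferInstance
    have ht : (s' ∣_ U') ≫ U'.ι = (s' ⁻¹ᵁ U').ι ≫ s' := morphismRestrict_ι s' U'
    have h1 : (s' ∣_ U') ≫ (U'.ι ≫ pullback.snd f g) = (s' ⁻¹ᵁ U').ι := by
      rw [← Category.assoc, ht, Category.assoc, hs, Category.comp_id]
    have h2 : IsOpenImmersion ((s' ∣_ U') ≫ (U'.ι ≫ pullback.snd f g)) := by
      rw [h1]; infer_instance
    have h3 : IsOpenImmersion (s' ∣_ U') :=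
      isOpenImmersion_of_postcomp (s' ∣_ U') (U'.ι ≫ pullback.snd f g)
    refine ⟨s' ⁻¹ᵁ U', ?_, ?_⟩
    · change pullback.fst f g (s' y') ∈ U
      rw [hy]; exact hxU
    · rw [← ht]; infer_instance
  · intro H
    obtain ⟨U, hxU, hU⟩ := H X f (pullback.diagonal f) (by simp) x (by
      rw [← Scheme.Hom.comp_apply, pullback.diagonal_fst]; rfl)
    refine ⟨U, hxU, ?_⟩
    have e : pullback.diagonal (U.ι ≫ f) ≫
        pullback.map (U.ι ≫ f) (U.ι ≫ f) f f U.ι U.ι (𝟙 Y) (by simp) (by simp) =
        U.ι ≫ pullback.diagonal f := by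
      apply pullback.hom_ext
      · rw [Category.assoc, pullback.lift_fst, ← Category.assoc, pullback.diagonal_fst,
          Category.id_comp, Category.assoc, pullback.diagonal_fst, Category.comp_id]
      · rw [Category.assoc, pullback.lift_snd, ← Category.assoc, pullback.diagonal_snd,
          Category.id_comp, Category.assoc, pullback.diagonal_snd, Category.comp_id]
    have h1 : IsOpenImmersion (pullback.diagonal (U.ι ≫ f) ≫
        pullback.map (U.ι ≫ f) (U.ι ≫ f) f f U.ι U.ι (𝟙 Y) (by simp) (by simp)) := by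
      rw [e]; exact hU
    have h2 : IsOpenImmersion (pullback.map (U.ι ≫ f) (U.ι ≫ f) f f U.ι U.ι (𝟙 Y)
        (by simp) (by simp)) := inferInstance
    have h3 : IsOpenImmersion (pullback.diagonal (U.ι ≫ f)) :=
      isOpenImmersion_of_comp_open _ (pullback.map (U.ι ≫ f) (U.ι ≫ f) f f U.ι U.ι (𝟙 Y) _ _)
    infer_instance

end Groth.Agent.S3846
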