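import Groth.Statements.S3875
import Groth.Agent.S3862
import Groth.Agent.Fcompl.H561.SysPullback

set_option autoImplicit false
universe u
open FCompl

namespace Groth.Agent.S3875

open AlgebraicGeometry in
open CategoryTheory in
open CategoryTheory.Limits in
/-- Let g : X → S and h : Y → S be morphisms of schemes, R an ideal sheaf on X and J an ideal sheaf on
S, and consider the completions of S along J, of X along R, of Y along the inverse image of J under
h, and of X x_S Y along the inverse image of R under the first projection (completions presented by
the subschemes of the powers of these ideal sheaves); this is the case where the closed subset of Y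
is the full preimage of that of S. The four compatibility hypotheses between the powers of the ideal
sheaves (for g, for h, and for the two projections of X x_S Y): for each n, the inverse image of the
(n+1)-st power of the target ideal sheaf is contained in the (n+1)-st power of the source ideal
sheaf. These are hypotheses, carried as data for the completed morphisms; the published statement
assumes the schemes locally Noetherian, which this identity does not need. Then the square of
completed morphisms from the completion of X x_S Y along the preimage of the closed subset of X, to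
the completions of X and of Y, over the completion of S, is cartesian in the category of systems. -/
theorem result {X Y S : Scheme.{u}} (g : X ⟶ S) (h : Y ⟶ S)
    (𝓡 : X.IdealSheafData) (𝓙 : S.IdealSheafData)
    (hg : FSch.PowCompat g 𝓡 𝓙) (hh : FSch.PowCompat h (𝓙.comap h) 𝓙)
    (hp : FSch.PowCompat (pullback.fst g h) (𝓡.comap (pullback.fst g h)) 𝓡)
    (hq : FSch.PowCompat (pullback.snd g h) (𝓡.comap (pullback.fst g h)) (𝓙.comap h)) :
    IsPullback (FSch.completionMap (pullback.fst g h) (𝓡.comap (pullback.fst g h)) 𝓡 hp)
      (FSch.completionMap (pullback.snd g h) (𝓡.comap (pullback.fst g h)) (𝓙.comap h) hq)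
      (FSch.completionMap g 𝓡 𝓙 hg) (FSch.completionMap h (𝓙.comap h) 𝓙 hh) := by
  refine Groth.Agent.Fcompl.H561.SysPullback.isPullback_of_levelwise _ _ _ _ fun n => ?_
  have h1 := (Groth.Agent.S3862.result (pullback.fst g h) 𝓡 hp).1 n
  have h2 := (Groth.Agent.S3862.result h 𝓙 hh).1 n
  -- `W_n = X_n ×_X (X ×_S Y) = X_n ×_S Y`
  have h4 := h1.paste_horiz (IsPullback.of_hasPullback g h).flip
  have e1 : ((FSch.completionMap (pullback.snd g h) (𝓡.comap (pullback.fst g h)) (𝓙.comap h) hq :
      FSch.Hom _ _).app n) ≫ FSch.completionToX Y (𝓙.comap h) n =
      FSch.completionToX (pullback g h) (𝓡.comap (pullback.fst g h)) n ≫ pullback.snd g h :=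
    Scheme.IdealSheafData.subschemeMap_subschemeι _ _ _ (Scheme.IdealSheafData.le_map_iff_comap_le.mpr (hq n))
  have e2 : ((FSch.completionMap g 𝓡 𝓙 hg : FSch.Hom _ _).app n) ≫ FSch.completionToX S 𝓙 n =
      FSch.completionToX X 𝓡 n ≫ g :=
    Scheme.IdealSheafData.subschemeMap_subschemeι _ _ _ (Scheme.IdealSheafData.le_map_iff_comap_le.mpr (hg n))
  have e3 : ((FSch.completionMap (pullback.fst g h) (𝓡.comap (pullback.fst g h)) 𝓡 hp :
      FSch.Hom _ _).app n) ≫ FSch.completionToX X 𝓡 n =
      FSch.completionToX (pullback g h) (𝓡.comap (pullback.fst g h)) n ≫ pullback.fst g h :=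
    Scheme.IdealSheafData.subschemeMap_subschemeι _ _ _ (Scheme.IdealSheafData.le_map_iff_comap_le.mpr (hp n))
  rw [← e1, ← e2] at h4
  refine (IsPullback.of_right h4 ?_ h2).flip
  have : Mono (FSch.completionToX S 𝓙 n) := inferInstanceAs (Mono (𝓙 ^ (n + 1)).subschemeι)
  rw [← cancel_mono (FSch.completionToX S 𝓙 n), Category.assoc, Category.assoc, ← h2.w,
    reassoc_of% e1, e2, reassoc_of% e3, pullback.condition]

end Groth.Agent.S3875
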