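import Groth.Statements.S3877
import Groth.Agent.S0948
import Groth.Agent.Topos.H563.AlgTopos

set_option autoImplicit false
open CategoryTheory CategoryTheory.Limits Opposite
universe u
open ToposFin

namespace Groth.Agent.S3877

attribute [local instance 10000] Groth.Agent.Topos.H563.ShColim.hasColimits_sh

open Groth.Agent.Topos.H563.AlgTopos

/-- Let E be the topos of sheaves on a small site and assume E is coherent, i.e. an algebraic topos
whose final object is coherent. Then for every q the functor F ↦ H^q(E, F) on abelian sheaves (Ext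
groups out of the constant sheaf Z) preserves colimits indexed by any small filtered category. -/
theorem result {C : Type u} [SmallCategory C]
    {J : GrothendieckTopology C} (hE : ToposFin.IsAlgebraic J) (hT : ToposFin.IsCoherent (⊤_ (ToposFin.Sh J)))
    (Λ : Type u) [SmallCategory Λ] [IsFiltered Λ] (q : ℕ) :
    PreservesColimitsOfShape Λ (Sheaf.functorH J q : Sheaf J AddCommGrpCat.{u} ⥤ AddCommGrpCat.{u}) := by
  have hE' := hE
  obtain ⟨S, hqc, hgen, hpb, heq⟩ := hE'
  refine Groth.Agent.S0948.result {K : Sheaf J (Type u) | ToposFin.IsCoherent K} ?_ ?_ ?_ ?_ ?_ Λ q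
  · refine ⟨⊤_ (ToposFin.Sh J), hT, ?_⟩
    rw [show terminal.from (⊤_ (ToposFin.Sh J)) = 𝟙 _ from Subsingleton.elim _ _]
    infer_instance
  · intro F K g hK hg
    exact exists_coherent_cover_of_epi hqc hgen hpb g hK.1
  · intro K hK K' hK'
    have h : IsPullback (Limits.prod.fst : K ⨯ K' ⟶ K) Limits.prod.snd (terminal.from K) (terminal.from K') :=
      IsPullback.of_isLimit_binaryFan_of_isTerminal (prodIsProd K K') terminalIsTerminal
    exact exists_coherent_cover hqc hgen hpb
      (Groth.Agent.Sga4A.QS.isQC_of_isPullback_of_isQS hT.2 h hK.1 hK'.1)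
  · intro K hK K' hK' a b
    exact exists_coherent_cover hqc hgen hpb (isQC_equalizer hE a b hK.1 hK'.2)
  · intro K hK
    exact (Groth.Agent.Sga4A.QC.isQC_iff_js K).1 hK.1

end Groth.Agent.S3877
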