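import Groth.Statements.S3878
import Groth.Agent.S3876
import Groth.Agent.CohtopB.RPushExt
import Groth.Agent.CohtopB.ColimCover

set_option autoImplicit false
open CategoryTheory CategoryTheory.Limits Opposite
universe u
open ToposFin

namespace Groth.Agent.S3878

/-- The free abelian sheaf on the sheaf attached to an object of the site. -/
noncomputable def freeEpsIso {C : Type u} [SmallCategory C] (J : GrothendieckTopology C) (V : C) :
    (presheafToSheaf J AddCommGrpCat.{u}).obj ((ToposFin.eps J V).obj ⋙ AddCommGrpCat.free.{u}) ≅
      CohCx.freeSheaf J V :=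
  (presheafToSheafCompComposeAndSheafifyIso J AddCommGrpCat.free.{u}).app (yoneda.obj V)

/-- Let (C, J) and (D, K) be small sites and u : D ⥤ C a continuous functor, giving a morphism of topoi
whose direct image on sheaves is F ↦ F ∘ u, with right derived functors R^q on abelian sheaves.
Assume that the topos of sheaves on (C, J) is algebraic and that for every object V of D the sheaf
on C attached to u(V), which is the inverse image of the sheaf attached to V, is coherent. Then for
every q the higher direct image functor R^q on abelian sheaves preserves colimits indexed by any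
small filtered category. The published hypotheses (a coherent morphism from an algebraic topos to a
locally coherent topos) give this situation with D the site of coherent algebraic objects of the
target. -/
theorem result {C D : Type u} [SmallCategory C]
    [SmallCategory D] (J : GrothendieckTopology C) (K : GrothendieckTopology D) (hE : ToposFin.IsAlgebraic J)
    (u : D ⥤ C) [u.IsContinuous K J] (hu : ∀ V : D, ToposFin.IsCoherent (ToposFin.eps J (u.obj V)))
    (Λ : Type u) [SmallCategory Λ] [IsFiltered Λ] (q : ℕ) :
    PreservesColimitsOfShape Λ (CohSite.Rpush J K u q) := by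
  have : (u.sheafPushforwardContinuous AddCommGrpCat.{u} K J).Additive :=
    inferInstanceAs (CohSite.push J K u).Additive
  refine ⟨fun {F} => ?_⟩
  have h1 : PreservesColimit F ((Sheaf.cohomologyPresheafFunctor.{u} J q ⋙
      (Functor.whiskeringLeft Dᵒᵖ Cᵒᵖ AddCommGrpCat.{u}).obj u.op) ⋙
        presheafToSheaf K AddCommGrpCat.{u}) := by
    refine Groth.Agent.CohtopB.ColimCover.preservesColimit_of_isCovering K F _ Set.univ ?_ ?_
    · intro V
      refine ⟨PUnit, fun _ => V, fun _ => 𝟙 V, K.superset_covering ?_ (K.top_mem V), fun _ => Set.mem_univ _⟩
      intro W f _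
      exact ⟨V, f, 𝟙 V, ⟨PUnit.unit⟩, Category.comp_id _⟩
    · intro V _
      have h2 := Groth.Agent.S3876.result hE _ (hu V) Λ q
      have h3 : PreservesColimitsOfShape Λ ((Abelian.extFunctor.{u} q).obj (op (CohCx.freeSheaf J (u.obj V)))) :=
        preservesColimitsOfShape_of_natIso
          ((Abelian.extFunctor.{u} q).mapIso (freeEpsIso J (u.obj V)).op).symm
      have h4 : PreservesColimit F ((Abelian.extFunctor.{u} q).obj (op (CohCx.freeSheaf J (u.obj V)))) :=
        inferInstance
      exact preservesColimit_of_natIso F (NatIso.ofComponents (fun _ => Iso.refl _) :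
        (Abelian.extFunctor.{u} q).obj (op (CohCx.freeSheaf J (u.obj V))) ≅
        (Sheaf.cohomologyPresheafFunctor.{u} J q ⋙
          (Functor.whiskeringLeft Dᵒᵖ Cᵒᵖ AddCommGrpCat.{u}).obj u.op) ⋙
            (evaluation _ _).obj (op V))
  exact preservesColimit_of_natIso F
    (Groth.Agent.CohtopB.RPushExt.siteIso J K u q ≪≫ (Functor.associator _ _ _).symm).symm

end Groth.Agent.S3878
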