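import Groth.Statements.S3896
import Mathlib.CategoryTheory.Sites.Limits
import Mathlib.AlgebraicGeometry.Sites.Etale
import Mathlib.AlgebraicGeometry.Morphisms.UniversallyOpen

set_option autoImplicit false
open CategoryTheory CategoryTheory.Limits AlgebraicGeometry Opposite
universe u
open EtDesc

namespace Groth.Agent.S3896

section general

universe w v' u'

variable {C : Type u'} [Category.{v'} C] {J : GrothendieckTopology C}

/-- A presheaf of subsingletons is a sheaf once nonemptiness is local. -/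
lemma isSheaf_of_subsingleton (P : Cᵒᵖ ⥤ Type w) (hs : ∀ V, Subsingleton (P.obj V))
    (hloc : ∀ (V : C) (S : Sieve V), S ∈ J V →
      (∀ ⦃W : C⦄ (f : W ⟶ V), S f → Nonempty (P.obj (op W))) → Nonempty (P.obj (op V))) :
    Presheaf.IsSheaf J P := by
  rw [isSheaf_iff_isSheaf_of_type]
  intro V S hS x _
  obtain ⟨t⟩ := hloc V S hS (fun W f hf => ⟨x f hf⟩)
  refine ⟨t, fun W f hf => (hs _).elim _ _, fun y _ => (hs _).elim _ _⟩

/-- A map between presheaves of subsingletons. -/
noncomputable def homOfSubsingleton (P Q : Cᵒᵖ ⥤ Type w) (hs : ∀ V, Subsingleton (Q.obj V))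
    (h : ∀ V, Nonempty (P.obj V) → Nonempty (Q.obj V)) : P ⟶ Q where
  app V := ↾(fun x => Classical.choice (h V ⟨x⟩))
  naturality V W f := by
    ext x
    exact (hs W).elim _ _

lemma nonempty_iso_of_subsingleton (P Q : Cᵒᵖ ⥤ Type w) (hP : ∀ V, Subsingleton (P.obj V))
    (hQ : ∀ V, Subsingleton (Q.obj V))
    (h : ∀ V, Nonempty (P.obj V) ↔ Nonempty (Q.obj V)) : Nonempty (P ≅ Q) :=
  ⟨{ hom := homOfSubsingleton P Q hQ (fun V => (h V).1)
     inv := homOfSubsingleton Q P hP (fun V => (h V).2)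
     hom_inv_id := by
       ext V x
       exact (hP V).elim _ _
     inv_hom_id := by
       ext V x
       exact (hQ V).elim _ _ }⟩

lemma mono_terminal_of_subsingleton [HasTerminal (Sheaf J (Type w))] (F : Sheaf J (Type w))
    (hF : ∀ V, Subsingleton (F.obj.obj V)) : Mono (terminal.from F) := by
  constructor
  intro G a b _
  ext V x
  exact (hF V).elim _ _

lemma subsingleton_of_mono_terminal [HasSheafify J (Type w)] (F : Sheaf J (Type w))
    (hF : Mono (terminal.from F)) (V : Cᵒᵖ) : Subsingleton (F.obj.obj V) := by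
  have h : Mono ((sheafToPresheaf J (Type w) ⋙ (evaluation Cᵒᵖ (Type w)).obj V).map
    (terminal.from F)) := inferInstance
  rw [mono_iff_injective] at h
  have h' : IsTerminal ((sheafToPresheaf J (Type w) ⋙ (evaluation Cᵒᵖ (Type w)).obj V).obj
      (⊤_ (Sheaf J (Type w)))) :=
    IsTerminal.isTerminalObj (sheafToPresheaf J (Type w) ⋙ (evaluation Cᵒᵖ (Type w)).obj V) _
      terminalIsTerminal
  have := (Types.isTerminalEquivUnique _ h')
  exact ⟨fun a b => h (Subsingleton.elim _ _)⟩

end general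

/-- A Zariski open over `X`: nonemptiness of the sections of the representable presheaf. -/
lemma hom_ofOpen_nonempty_iff {X : Scheme.{u}} (U : X.Opens) (V : X.Etale) :
    Nonempty (V ⟶ ofOpen U) ↔ Set.range V.hom ⊆ (U : Set X) := by
  constructor
  · rintro ⟨f⟩
    have h : f.left ≫ U.ι = V.hom := Over.w f.hom
    rintro _ ⟨v, rfl⟩
    rw [← h]
    simp only [Scheme.Hom.comp_apply]
    exact (f.left v).2
  · intro h
    have h' : Set.range V.hom ⊆ Set.range U.ι := by
      rw [Scheme.Opens.range_ι]; exact h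
    let g : V.left ⟶ (U : Scheme.{u}) := IsOpenImmersion.lift U.ι V.hom h'
    have hg : g ≫ U.ι = V.hom := IsOpenImmersion.lift_fac U.ι V.hom h'
    exact ⟨MorphismProperty.Over.homMk g hg⟩

/-- A Zariski open over `X`: uniqueness of maps. -/
lemma hom_ofOpen_subsingleton {X : Scheme.{u}} (U : X.Opens) (V : X.Etale) :
    Subsingleton (V ⟶ ofOpen U) := by
  constructor
  intro f g
  have hf : f.left ≫ U.ι = V.hom := Over.w f.hom
  have hg : g.left ≫ U.ι = V.hom := Over.w g.hom
  have h : f.left = g.left := (cancel_mono U.ι).1 (hf.trans hg.symm)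
  exact MorphismProperty.Over.Hom.ext h

/-- The presheaf represented by a Zariski open. -/
noncomputable abbrev repP {X : Scheme.{u}} (U : X.Opens) : X.Etaleᵒᵖ ⥤ Type (u + 1) :=
  yoneda.obj (ofOpen U) ⋙ uliftFunctor.{u + 1, u}

lemma repP_subsingleton {X : Scheme.{u}} (U : X.Opens) (V : X.Etaleᵒᵖ) :
    Subsingleton ((repP U).obj V) := by
  have := hom_ofOpen_subsingleton U V.unop
  exact inferInstanceAs (Subsingleton (ULift.{u + 1} (V.unop ⟶ ofOpen U)))

lemma repP_nonempty_iff {X : Scheme.{u}} (U : X.Opens) (V : X.Etaleᵒᵖ) :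
    Nonempty ((repP U).obj V) ↔ Set.range V.unop.hom ⊆ (U : Set X) := by
  rw [← hom_ofOpen_nonempty_iff]
  exact ⟨fun ⟨x⟩ => ⟨x.down⟩, fun ⟨x⟩ => ⟨⟨x⟩⟩⟩

lemma exists_of_mem {X : Scheme.{u}} {V : X.Etale} {S : Sieve V} (hS : S ∈ X.smallEtaleTopology V)
    (v : V.left) : ∃ (W : X.Etale) (f : W ⟶ V) (w : W.left), S f ∧ f.left w = v := by
  have eX : X.smallEtaleTopology =
      (X.smallPretopology (P := @Etale) (Q := @Etale)).toGrothendieck :=
    Scheme.smallGrothendieckTopology_eq_toGrothendieck_smallPretopology X le_rfl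
  rw [eX] at hS
  obtain ⟨W, f, w, hf, -, hw⟩ := (Scheme.mem_toGrothendieck_smallPretopology V S).1 hS v
  exact ⟨W, f, w, hf, hw⟩

lemma repP_isSheaf {X : Scheme.{u}} (U : X.Opens) :
    Presheaf.IsSheaf X.smallEtaleTopology (repP U) := by
  refine isSheaf_of_subsingleton _ (repP_subsingleton U) ?_
  intro V S hS h
  rw [repP_nonempty_iff]
  rintro _ ⟨v, rfl⟩
  obtain ⟨W, f, w, hf, rfl⟩ := exists_of_mem hS v
  have h1 := (repP_nonempty_iff U (op W)).1 (h f hf)
  have h2 : f.left ≫ V.hom = W.hom := Over.w f.hom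
  apply h1
  refine ⟨w, ?_⟩
  change W.hom w = _
  rw [← h2]
  rfl

/-- The sheaf represented by a Zariski open. -/
noncomputable abbrev repS {X : Scheme.{u}} (U : X.Opens) : EtDesc.Sh X := ⟨repP U, repP_isSheaf U⟩

/-- The sheafification in `repSh` does nothing for an open. -/
noncomputable def repIso {X : Scheme.{u}} (U : X.Opens) : repSh (ofOpen U) ≅ repS U :=
  asIso ((sheafificationAdjunction X.smallEtaleTopology (Type (u + 1))).counit.app (repS U))

/-- The open attached to a sheaf: the union of the images of all étale `V` with `F(V)` nonempty. -/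
def openOf {X : Scheme.{u}} (F : EtDesc.Sh X) : X.Opens :=
  ⟨⋃ V : {V : X.Etale // Nonempty (F.obj.obj (op V))}, Set.range V.1.hom,
    isOpen_iUnion fun V => V.1.hom.isOpenMap.isOpen_range⟩

lemma subset_openOf {X : Scheme.{u}} (F : EtDesc.Sh X) (V : X.Etale)
    (h : Nonempty (F.obj.obj (op V))) : Set.range V.hom ⊆ (openOf F : Set X) := by
  rintro _ ⟨v, rfl⟩
  exact ⟨_, ⟨⟨V, h⟩, rfl⟩, ⟨v, rfl⟩⟩

lemma mem_openOf {X : Scheme.{u}} (F : EtDesc.Sh X) (x : X) (hx : x ∈ (openOf F : Set X)) :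
    ∃ (V : X.Etale) (v : V.left), Nonempty (F.obj.obj (op V)) ∧ V.hom v = x := by
  obtain ⟨_, ⟨⟨V, hV⟩, rfl⟩, ⟨v, hv⟩⟩ := hx
  exact ⟨V, v, hV, hv⟩

lemma nonempty_of_subset {X : Scheme.{u}} (F : EtDesc.Sh X)
    (hF : ∀ V, Subsingleton (F.obj.obj V)) (V : X.Etale)
    (h : Set.range V.hom ⊆ (openOf F : Set X)) : Nonempty (F.obj.obj (op V)) := by
  choose W w hW hw using fun v : V.left => mem_openOf F (V.hom v) (h ⟨v, rfl⟩)
  let Z : V.left → X.Etale := fun v => Scheme.Etale.mk (pullback.fst V.hom (W v).hom ≫ V.hom)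
  let p : ∀ v, Z v ⟶ V := fun v => MorphismProperty.Over.homMk (pullback.fst V.hom (W v).hom) rfl
  let q : ∀ v, Z v ⟶ W v := fun v => MorphismProperty.Over.homMk (pullback.snd V.hom (W v).hom)
    pullback.condition.symm
  have hcov : Sieve.ofArrows _ p ∈ X.smallEtaleTopology V := by
    rw [Scheme.ofArrows_mem_smallEtaleTopology_iff]
    refine Set.eq_univ_of_forall fun v => ?_
    obtain ⟨z, hz, -⟩ := Scheme.Pullback.exists_preimage_pullback
      (f := V.hom) (g := (W v).hom) v (w v) (hw v).symm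
    exact Set.mem_iUnion.2 ⟨v, z, hz⟩
  have hsh := F.property
  rw [isSheaf_iff_isSheaf_of_type] at hsh
  let x : Presieve.FamilyOfElements F.obj (Sieve.ofArrows _ p).arrows := fun T f hf =>
    Classical.choice (by
      obtain ⟨_, a, _, ⟨v⟩, -⟩ := hf
      obtain ⟨y⟩ := hW v
      exact ⟨F.obj.map (a ≫ q v).op y⟩)
  obtain ⟨t, -, -⟩ := hsh _ hcov x (fun _ _ _ _ _ _ _ _ _ _ => (hF _).elim _ _)
  exact ⟨t⟩

/-- Let X be a scheme. Sending a Zariski open U of X to the etale sheaf of sets attached to the open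
immersion U -> X gives an isomorphism of ordered sets from the opens of X onto the subobjects of the
final object of the etale topos of X: (a) each such sheaf is a subobject of the final sheaf; (b) U ≤
V if and only if there is a morphism between the attached sheaves; (c) every subobject of the final
sheaf is isomorphic to the sheaf attached to some open. -/
theorem result (X : Scheme.{u}) :
    (∀ U : X.Opens, Mono (terminal.from (EtDesc.repSh (EtDesc.ofOpen U)))) ∧
    (∀ U V : X.Opens, U ≤ V ↔ Nonempty (EtDesc.repSh (EtDesc.ofOpen U) ⟶ EtDesc.repSh (EtDesc.ofOpen V))) ∧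
    (∀ F : EtDesc.Sh X, Mono (terminal.from F) → ∃ U : X.Opens, Nonempty (F ≅ EtDesc.repSh (EtDesc.ofOpen U))) := by
  refine ⟨fun U => ?_, fun U V => ⟨fun h => ?_, ?_⟩, fun F hF => ?_⟩
  · have h := mono_terminal_of_subsingleton (repS U) (repP_subsingleton U)
    have e : terminal.from (repSh (ofOpen U)) = (repIso U).hom ≫ terminal.from (repS U) :=
      Subsingleton.elim _ _
    rw [e]
    infer_instance
  · refine ⟨(repIso U).hom ≫ ?_ ≫ (repIso V).inv⟩
    exact ⟨homOfSubsingleton _ _ (repP_subsingleton V) (fun W hW => by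
      rw [repP_nonempty_iff] at hW ⊢
      exact hW.trans h)⟩
  · rintro ⟨f⟩
    have g : repS U ⟶ repS V := (repIso U).inv ≫ f ≫ (repIso V).hom
    have h1 : Nonempty ((repP V).obj (op (ofOpen U))) :=
      ⟨g.hom.app (op (ofOpen U)) ⟨𝟙 _⟩⟩
    rw [repP_nonempty_iff] at h1
    intro x hx
    exact h1 ⟨⟨x, hx⟩, rfl⟩
  · have hs := subsingleton_of_mono_terminal F hF
    refine ⟨openOf F, ?_⟩
    obtain ⟨e⟩ := nonempty_iso_of_subsingleton F.obj (repP (openOf F)) hs
      (repP_subsingleton _) (fun V => by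
        rw [repP_nonempty_iff]
        exact ⟨subset_openOf F V.unop, nonempty_of_subset F hs V.unop⟩)
    exact ⟨(fullyFaithfulSheafToPresheaf _ _).preimageIso
      (X := F) (Y := repS (openOf F)) e ≪≫ (repIso _).symm⟩

end Groth.Agent.S3896
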