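import Groth.Statements.S3948
import Groth.Agent.RedSub.H368.Assembly
import Groth.Agent.Redsub.H632.X3Final

set_option autoImplicit false
open CategoryTheory MonoidalCategory CartesianMonoidalCategory MonObj GrpObj AlgebraicGeometry
universe u
open RedSub

namespace Groth.Agent.S3948

/-- Let R be a reduced root datum: a root pairing over the integers whose weight lattice M is a finitely
generated free abelian group, with finitely many roots, and reduced. Then there is a reductive group
scheme G over Spec Z which is split of type R: it has a splitting (a maximal torus identified with
D(M'), root homomorphisms from the additive group for every root on which the torus acts through the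
root, integral points realising every reflection, and geometric fibres of dimension rank + number of
roots) whose root datum is isomorphic to R. -/
theorem result {idx M N : Type} [Finite idx] [AddCommGroup M] [AddCommGroup N]
    [Module.Finite ℤ M] [Module.Free ℤ M] (R : RootPairing idx ℤ M N) [R.IsReduced] :
    ∃ (G : Over (Spec (CommRingCat.of (ULift.{u} ℤ)))) (_ : GrpObj G),
      Red.IsReductive G ∧ Red.IsSplitOfType R G := by
  refine Groth.Agent.RedSub.H368.Assembly.main ?_ R
  intro idx M _ _ _ _ P b _ hP S
  have h1 : IsDomain (ULift.{u} ℤ) := (ULift.ringEquiv (R := ℤ)).isDomain
  have h2 : IsPrincipalIdealRing (ULift.{u} ℤ) :=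
    IsPrincipalIdealRing.of_surjective (ULift.ringEquiv (R := ℤ)).symm.toRingHom
      (ULift.ringEquiv (R := ℤ)).symm.surjective
  exact Groth.Agent.Redsub.H632.X3Final.exists_matGrp S (ULift.{u} ℤ)

end Groth.Agent.S3948
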