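import Groth.Statements.S3949
import Groth.Agent.Redsub.H631.Red3949
import Groth.Agent.RedSub.H368.Assembly
import Groth.Agent.Redsub.H632.X3Final

set_option autoImplicit false
open CategoryTheory MonoidalCategory CartesianMonoidalCategory MonObj GrpObj AlgebraicGeometry
universe u
open RedSub

namespace Groth.Agent.S3949

/-- Let k be a field and G_k a reductive k-group which is split (it admits a splitting in the sense of
Red.SplitRed). Then there is a reductive group scheme G over Spec ℤ whose base change to k is
isomorphic to G_k as a k-group scheme. -/
theorem result (k : Type u) [Field k] (Gk : Over (Spec (CommRingCat.of k))) [GrpObj Gk]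
    (D : Red.SplitRed Gk) :
    ∃ (G : Over (Spec (CommRingCat.of (ULift.{u} ℤ)))) (_ : GrpObj G), Red.IsReductive G ∧
      Nonempty (Grp.mk (Red.bc (Limits.IsTerminal.from specULiftZIsTerminal (Spec (CommRingCat.of k))) G) ≅ Grp.mk Gk) := by
  exact Redsub.H631.Red3949.main (fun R => RedSub.H368.Assembly.main
    (fun _ S => Redsub.H632.X3Final.exists_matGrp S _) R) k Gk D

end Groth.Agent.S3949
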