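import Groth.Statements.S3950
import Groth.Agent.Redsub.H632.Reduce
import Groth.Agent.S3948

set_option autoImplicit false
open CategoryTheory MonoidalCategory CartesianMonoidalCategory MonObj GrpObj AlgebraicGeometry
universe u
open RedSub

namespace Groth.Agent.S3950

/-- Let S be a non-empty scheme and (R, b) a reduced root datum with a system of simple roots. Then
there is a reductive S-group G with a pinning (the prelude's Red.Pinning: a splitting plus a base of
its root datum) and an isomorphism of root data from that of G to R carrying the simple roots of the
pinning exactly onto b. (This is the essential-surjectivity half of the equivalence between pinned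
reductive S-groups and pinned reduced root data.) -/
theorem result (S : Scheme.{u}) [Nonempty S] {idx M N : Type} [Finite idx]
    [AddCommGroup M] [AddCommGroup N] [Module.Finite ℤ M] [Module.Free ℤ M] (R : RootPairing idx ℤ M N) [R.IsReduced]
    (b : R.Base) :
    ∃ (G : Over S) (_ : GrpObj G) (D : Red.Pinning G) (h : RootPairing.Equiv D.P R),
      ∀ a : D.idx, a ∈ D.base.support ↔ h.indexEquiv a ∈ b.support := by
  obtain ⟨G, hG, -, h⟩ := Groth.Agent.S3948.result.{u} R
  exact Groth.Agent.Redsub.H632.Reduce.exists_pinned S R b ⟨G, hG, h⟩

end Groth.Agent.S3950
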