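import Groth.Statements.S3953
import Groth.Agent.RedSub.H635.Uniq
import Groth.Agent.RedSub.H636.TypeRExist

set_option autoImplicit false
open CategoryTheory MonoidalCategory CartesianMonoidalCategory MonObj GrpObj AlgebraicGeometry
universe u
open RedSub

namespace Groth.Agent.S3953

/-- Let S be a connected scheme, G a split reductive S-group (splitting D, with torus T) and R' a closed
set of roots (if a, b ∈ R' and a + b is a root then a + b ∈ R'). Then there is a subgroup H of G of
type (R) (an immersed sub-group-scheme, smooth and finitely presented over S with connected fibres,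
whose geometric fibres contain maximal tori of those of G) containing T and such that, for every
root a, the root homomorphism u_a factors through H if and only if a ∈ R'; and H is unique: any two
subgroups of type (R) containing T with this property are isomorphic compatibly with their morphisms
to G. (The published statement is over an arbitrary base and singles H out by the condition Lie H =
𝔤_{R'}, which is local on S; over a connected base the condition that u_a factors through H exactly
when a ∈ R' determines the same subgroup, and it is stated here in that form, for connected S.) -/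
theorem result {S : Scheme.{u}} [ConnectedSpace S] {G : Over S} [GrpObj G] (D : Red.SplitRed G)
    (R' : Set D.idx)
    (hcl : ∀ a b c : D.idx, a ∈ R' → b ∈ R' → D.P.root a + D.P.root b = D.P.root c → c ∈ R') :
    (∃ (H : Over S) (_ : GrpObj H) (h : H ⟶ G) (t : D.T ⟶ H), RedSub.IsTypeR h ∧ t ≫ h = D.i ∧
      ∀ a : D.idx, (∃ v : Red.Ga S ⟶ H, v ≫ h = D.u a) ↔ a ∈ R') ∧
    ∀ (H₁ H₂ : Over S) [GrpObj H₁] [GrpObj H₂] (h₁ : H₁ ⟶ G) (h₂ : H₂ ⟶ G) (t₁ : D.T ⟶ H₁) (t₂ : D.T ⟶ H₂),
      RedSub.IsTypeR h₁ → RedSub.IsTypeR h₂ → t₁ ≫ h₁ = D.i → t₂ ≫ h₂ = D.i →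
      (∀ a : D.idx, (∃ v : Red.Ga S ⟶ H₁, v ≫ h₁ = D.u a) ↔ a ∈ R') →
      (∀ a : D.idx, (∃ v : Red.Ga S ⟶ H₂, v ≫ h₂ = D.u a) ↔ a ∈ R') →
      ∃ e : H₁ ≅ H₂, e.hom ≫ h₂ = h₁ := by
  refine ⟨Groth.Agent.RedSub.H636.TypeRExist.exists_typeR D R' hcl, ?_⟩
  intro H₁ H₂ _ _ h₁ h₂ t₁ t₂ hR₁ hR₂ ht₁ ht₂ hu₁ hu₂
  exact Groth.Agent.RedSub.H635.Uniq.exists_iso D h₁ h₂ t₁ t₂ hR₁ hR₂ ht₁ ht₂
    (fun a => (hu₁ a).trans (hu₂ a).symm)

end Groth.Agent.S3953
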