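import Groth.Statements.S3957
import Groth.Agent.RedSub.H633.CorootGen
import Groth.Agent.RedSub.H638.PinFull

set_option autoImplicit false
open CategoryTheory MonoidalCategory CartesianMonoidalCategory MonObj GrpObj AlgebraicGeometry
universe u
open RedSub

namespace Groth.Agent.S3957

open Groth.Agent.Sga3B Groth.Agent.Sga3B.Cell Groth.Agent.Sga3B.PinMod Groth.Agent.Sga3B.PinFinal
open Groth.Agent.RedSub.H638 Groth.Agent.RedSub.H638.WeylBase Groth.Agent.RedSub.H638.WeylCover
open Groth.Agent.RedSub.H633.CorootGen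

/-- Let A be a local ring, S = Spec A, and G a split reductive S-group with a pinning D which is simply
connected (the coroots span the coweight lattice). Then G(S) is generated by the sections of the
root groups u_a(G_a(S)) for a a simple root or the negative of a simple root. -/
theorem result {A : Type u} [CommRing A] [IsLocalRing A]
    {G : Over (Spec (CommRingCat.of A))} [GrpObj G] (D : Red.Pinning G)
    (hsc : Submodule.span ℤ (Set.range D.P.coroot) = ⊤) :
    Subgroup.closure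
        {g : 𝟙_ (Over (Spec (CommRingCat.of A))) ⟶ G | ∃ a : D.idx, (a ∈ D.base.support ∨ D.P.reflectionPerm a a ∈ D.base.support) ∧
            ∃ x : 𝟙_ _ ⟶ Red.Ga (Spec (CommRingCat.of A)), g = x ≫ D.u a} = ⊤ := by
  obtain ⟨m, ε, -, hu⟩ := PinFull.exists_pinModel_full D A (𝟙 (Spec (CommRingCat.of A)))
  set H := Subgroup.closure
        {g : 𝟙_ (Over (Spec (CommRingCat.of A))) ⟶ G | ∃ a : D.idx, (a ∈ D.base.support ∨ D.P.reflectionPerm a a ∈ D.base.support) ∧
            ∃ x : 𝟙_ _ ⟶ Red.Ga (Spec (CommRingCat.of A)), g = x ≫ D.u a} with hH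
  have hst : (tB (𝟙 (Spec (CommRingCat.of A))) A).hom = 𝟙 _ := by
    change Spec.map (CommRingCat.ofHom (algebraMap A A)) ≫ 𝟙 _ = 𝟙 _
    rw [Category.comp_id]
    exact Spec.map_id _
  let e : 𝟙_ (Over (Spec (CommRingCat.of A))) ⟶ tB (𝟙 (Spec (CommRingCat.of A))) A :=
    Over.homMk (𝟙 _) (by rw [hst]; rfl)
  let e' : tB (𝟙 (Spec (CommRingCat.of A))) A ⟶ 𝟙_ (Over (Spec (CommRingCat.of A))) :=
    Over.homMk (𝟙 _) (by rw [hst]; rfl)
  have hee : e ≫ e' = 𝟙 _ := by
    ext1
    exact Category.comp_id _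
  let Ψ : Pt A m.A A →* (𝟙_ (Over (Spec (CommRingCat.of A))) ⟶ G) :=
    MonoidHom.mk' (fun p => e ≫ m.pts A p) (fun p q => by
      rw [_root_.map_mul, MonObj.comp_mul])
  have hle : simpleGen m.E A ≤ H.comap Ψ := by
    unfold simpleGen
    rw [Subgroup.closure_le]
    rintro g ⟨a, ha, x, rfl | rfl⟩
    · change e ≫ m.pts A (m.E.uu a A x) ∈ H
      rw [hu]
      refine Subgroup.subset_closure ⟨a, Or.inl ha, e ≫ GaPts.gaPt (tB (𝟙 _) A)
        (fnOf (𝟙 _) (algebraMap A A (ε a) * x)), ?_⟩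
      simp only [Category.assoc]
    · change e ≫ m.pts A (m.E.uu (D.P.reflectionPerm a a) A x) ∈ H
      rw [hu]
      refine Subgroup.subset_closure ⟨D.P.reflectionPerm a a, Or.inr ?_,
        e ≫ GaPts.gaPt (tB (𝟙 _) A)
        (fnOf (𝟙 _) (algebraMap A A (ε (D.P.reflectionPerm a a)) * x)), ?_⟩
      · rw [neg_neg_perm]; exact ha
      · simp only [Category.assoc]
  rw [eq_top_iff]
  intro g _
  obtain ⟨p, hp⟩ := (m.pts A).surjective (e' ≫ g)
  have h1 : p ∈ H.comap Ψ := hle (by rw [simpleGen_eq_top_local m.E hsc]; trivial)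
  have h2 : Ψ p = g := by
    change e ≫ m.pts A p = g
    rw [hp, ← Category.assoc, hee, Category.id_comp]
  rw [← h2]
  exact h1

end Groth.Agent.S3957
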