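import Groth.Statements.S3959
import Groth.Agent.RedSub.H641.Final2
import Groth.Agent.RedSub.H641.UniqGlue
import Groth.Agent.RedSub.H643.TypeRTorus

set_option autoImplicit false
open CategoryTheory MonoidalCategory CartesianMonoidalCategory MonObj GrpObj AlgebraicGeometry
universe u
open RedSub

namespace Groth.Agent.S3959

/-- Let G be a reductive S-group and H, H' two subgroups of G of type (R). Then the strict transporter
of H into H' (the subfunctor of G of points g with int(g) H = H' after base change) is representable
by a closed subscheme of G which is smooth over S. -/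
theorem result {S : Scheme.{u}} {G H H' : Over S} [GrpObj G] [GrpObj H] [GrpObj H']
    (hG : Red.IsReductive G) (i : H ⟶ G) (i' : H' ⟶ G) (hH : RedSub.IsTypeR i) (hH' : RedSub.IsTypeR i') :
    ∃ (C : Over S) (c : C ⟶ G), RedSub.IsStrictTransporter i i' c ∧ IsClosedImmersion c.left ∧ Smooth C.hom :=
  Groth.Agent.RedSub.H641.Final2.main Groth.Agent.RedSub.H641.UniqGlue.uniqStmt
    (fun hG i hi s => Groth.Agent.RedSub.H643.TypeRTorus.exists_splitRed_into hG i hi s) hG i i' hH hH'

end Groth.Agent.S3959
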