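import Groth.Statements.S3960
import Groth.Agent.S3959
import Groth.Agent.RedSub.H642.NormOfTransp

set_option autoImplicit false
open CategoryTheory MonoidalCategory CartesianMonoidalCategory MonObj GrpObj AlgebraicGeometry
universe u
open RedSub

namespace Groth.Agent.S3960

/-- For a reductive S-group G. Let H be a subgroup of G of type (R). Then the normaliser of H in G is
representable by a closed subgroup scheme of G which is smooth over S. -/
theorem result {S : Scheme.{u}} {G H : Over S} [GrpObj G] [GrpObj H]
    (hG : Red.IsReductive G) (i : H ⟶ G) (hH : RedSub.IsTypeR i) :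
    ∃ (N : Over S) (_ : GrpObj N) (n : N ⟶ G), Red.IsNormalizerOf i n ∧ IsClosedImmersion n.left ∧ Smooth N.hom := by
  obtain ⟨C, c, hc, hcl, hsm⟩ := Groth.Agent.S3959.result hG i i hH hH
  haveI := hH.1
  obtain ⟨iC, hN⟩ := Groth.Agent.RedSub.H642.NormOfTransp.exists_isNormalizerOf i c hc
  exact ⟨C, iC, c, hN, hcl, hsm⟩

end Groth.Agent.S3960
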