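import Groth.Statements.S3962
import Groth.Agent.Redsub.H644.BorelClosed

set_option autoImplicit false
open CategoryTheory MonoidalCategory CartesianMonoidalCategory MonObj GrpObj AlgebraicGeometry
universe u
open RedSub

namespace Groth.Agent.S3962

/-- Let G be a reductive S-group and B ⟶ G a Borel subgroup in the following sense: a sub-group-scheme
of type (R) whose geometric fibres are Borel subgroups (closedness is not assumed). Then B is closed
in G and B is its own normaliser: a point of G normalises B (after every base change) if and only if
it lies in B. -/
theorem result {S : Scheme.{u}} {G B : Over S} [GrpObj G] [GrpObj B]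
    (hG : Red.IsReductive G) (i : B ⟶ G) (hB : RedSub.IsBorelSub i) :
    IsClosedImmersion i.left ∧ Red.IsNormalizerOf i i := by
  have h1 := Groth.Agent.Redsub.H644.BorelClosed.isBorel_of_isBorelSub hG hB
  exact ⟨h1.2.1, Groth.Agent.Redsub.H644.BorelClosed.isNormalizerOf_of_isParabolic hG
    (Groth.Agent.Redsub.H644.BorelClosed.isParabolic_of_isBorel h1)⟩

end Groth.Agent.S3962
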