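import Groth.Statements.S3963
import Groth.Agent.RedSub.H645.ClosedBor

set_option autoImplicit false
open CategoryTheory MonoidalCategory CartesianMonoidalCategory MonObj GrpObj AlgebraicGeometry
universe u
open RedSub

namespace Groth.Agent.S3963

/-- Last assertion, for a reductive S-group G. Two Borel subgroups B, B' of G (in the sense of the
source) are conjugate locally for the etale topology on S. -/
theorem result {S : Scheme.{u}} {G B B' : Over S} [GrpObj G] [GrpObj B] [GrpObj B']
    (hG : Red.IsReductive G) (i : B ⟶ G) (i' : B' ⟶ G) (hB : RedSub.IsBorelSub i) (hB' : RedSub.IsBorelSub i') (s : S) :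
    ∃ (U : Scheme.{u}) (f : U ⟶ S) (_ : Etale f), s ∈ Set.range f.base ∧
      ∃ g : 𝟙_ _ ⟶ Red.bc f G, RedSub.ConjEq ((Over.pullback f).map i) ((Over.pullback f).map i') g := by
  exact Groth.Agent.RedSub.H645.BorelEt.exists_etale_conjEq_of_isBorel hG i i'
    (Groth.Agent.RedSub.H645.BorelEt.isBorel_of_isBorelSub hB
      (Groth.Agent.RedSub.H645.ClosedBor.isClosedImmersion_and_isNormalizerOf hG i hB).1)
    (Groth.Agent.RedSub.H645.BorelEt.isBorel_of_isBorelSub hB'
      (Groth.Agent.RedSub.H645.ClosedBor.isClosedImmersion_and_isNormalizerOf hG i' hB').1) s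

end Groth.Agent.S3963
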