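import Groth.Statements.S3964
import Groth.Agent.RedSub.H646.Final

set_option autoImplicit false
open CategoryTheory MonoidalCategory CartesianMonoidalCategory MonObj GrpObj AlgebraicGeometry
universe u
open RedSub

namespace Groth.Agent.S3964

/-- Let G be a reductive S-group. The functor S' ↦ {Borel subgroups of G_{S'}} is representable: there
are an S-scheme M and a Borel subgroup of G_M such that every Borel subgroup of every base change
G_{S'} is its pullback along a unique S-morphism S' ⟶ M (same points in G). Moreover M is smooth and
projective over S, stated as: proper, and Zariski-locally on S a closed subscheme of a projective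
space over the base; and M has integral geometric fibres. -/
theorem result {S : Scheme.{u}} (G : Over S) [GrpObj G] (hG : Red.IsReductive G) :
    ∃ (M : Over S) (H : Over M.left) (_ : GrpObj H) (h : H ⟶ Red.bc M.hom G),
      RedSub.RepresentsBor G M H h ∧ Smooth M.hom ∧ IsProper M.hom ∧ RedSub.IsLocallyProjective M ∧
        ∀ s : S, IsIntegral (Red.geomFibre s M).left := by
  exact Groth.Agent.RedSub.H646.Final.main hG

end Groth.Agent.S3964
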