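import Groth.Statements.S3965
import Groth.Agent.RedSub.H647.RepTor
import Groth.Agent.RedSub.H642.GeomInt

set_option autoImplicit false
open CategoryTheory MonoidalCategory CartesianMonoidalCategory MonObj GrpObj AlgebraicGeometry
universe u
open RedSub

namespace Groth.Agent.S3965

/-- Let G be a reductive S-group. The functor S' ↦ {maximal tori of G_{S'}} is representable: there are
an S-scheme M and a maximal torus of G_M such that every maximal torus of every base change G_{S'}
is its pullback along a unique S-morphism S' ⟶ M (same points in G). Moreover M is smooth and affine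
over S with integral geometric fibres. -/
theorem result {S : Scheme.{u}} (G : Over S) [GrpObj G] (hG : Red.IsReductive G) :
    ∃ (M : Over S) (H : Over M.left) (_ : GrpObj H) (h : H ⟶ Red.bc M.hom G),
      RedSub.RepresentsTor G M H h ∧ Smooth M.hom ∧ IsAffineHom M.hom ∧
        ∀ s : S, IsIntegral (Red.geomFibre s M).left := by
  obtain ⟨M, H, hH, h, hM, h1, h2, h3⟩ := Groth.Agent.RedSub.H647.RepTor.exists_representsTor hG
  refine ⟨M, H, hH, h, hM, h1, h2, fun s => ?_⟩
  exact Groth.Agent.RedSub.H642.GeomInt.isIntegral_geomFibre G hG M h1 (fun s => by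
    obtain ⟨V, v, hv, hs, q, -, hq⟩ := h3 s
    exact ⟨V, v, hv, hs, q, hq⟩) s

end Groth.Agent.S3965
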