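import Groth.Statements.S3966
import Groth.Agent.RedSub.H648.TypeR
import Groth.Agent.RedSub.H648.ClosedBor
import Groth.Agent.RedSub.H645.BorelEt
import Groth.Agent.Redsub.H649.ConjLoc
import Groth.Agent.Sga3B.RedBcAny636

set_option autoImplicit false
open CategoryTheory MonoidalCategory CartesianMonoidalCategory MonObj GrpObj AlgebraicGeometry
universe u
open RedSub

namespace Groth.Agent.S3966

open Groth.Agent.Sga3B Groth.Agent.Redsub.H649 Groth.Agent.RedSub.H648

section aux

variable {S : Scheme.{u}} {G B : Over S} [GrpObj G] [GrpObj B]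

/-- Conjugates of a Borel sub-group-scheme are Borel sub-group-schemes. -/
theorem isBorelSub_comp_cj {S' : Scheme.{u}} {f : S' ⟶ S} {B' : Over S'} [GrpObj B']
    (b : B' ⟶ Red.bc f G) (hb : RedSub.IsBorelSub b) (g₀ : Over.mk f ⟶ G) :
    RedSub.IsBorelSub (b ≫ MT.cj g₀) := by
  have : IsMonHom (MT.cjIso g₀).hom := MT.isMonHom_cj g₀
  exact TypeR.isBorelSub_of_arrow (Iso.refl _) (Grp.mkIso' (MT.cjIso g₀)) (Category.id_comp _).symm hb

/-- The conjugates of a Borel sub-group-scheme over any base are classified by `M`. -/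
theorem classifies (hG : Red.IsReductive G) (M : Over S) (H : Over M.left) [GrpObj H]
    (h : H ⟶ Red.bc M.hom G) (hM : RedSub.RepresentsBor G M H h) (i : B ⟶ G)
    (hB : RedSub.IsBorelSub i) : QuotCrit.Classifies i M h := by
  intro S' f g₀
  have h1 := BorBc.isBorelSub_bc f hG hB
  exact hM.2 S' f (Red.bc f B) (ConjPts.fam i g₀) (isBorelSub_comp_cj _ h1 g₀)

/-- The universal Borel subgroup is étale-locally conjugate to a given one. -/
theorem locConj (hG : Red.IsReductive G) (M : Over S) (H : Over M.left) [GrpObj H]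
    (h : H ⟶ Red.bc M.hom G) (hh : RedSub.IsBorelSub h) (i : B ⟶ G)
    (hB : RedSub.IsBorelSub i) : QuotCrit.LocConj i M h := by
  refine ConjLoc.locConj_of_conjEq fun m => ?_
  have hGM := RedBcAny636.isReductive_bc M.hom hG
  have h1 := BorBc.isBorelSub_bc M.hom hG hB
  have h2 := TypeR.isBorel_of_isBorelSub h1 (ClosedBor.closed_and_selfNorm hGM _ h1).1
  have h3 := TypeR.isBorel_of_isBorelSub hh (ClosedBor.closed_and_selfNorm hGM _ hh).1
  obtain ⟨U, f, hf, hm, g, hg⟩ :=
    Groth.Agent.RedSub.H645.BorelEt.exists_etale_conjEq_of_isBorel hGM _ _ h2 h3 m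
  exact ⟨U, f, inferInstance, inferInstance, hm, g, hg⟩

end aux

/-- Let G be a reductive S-group, (M, h) the scheme of Borel subgroups of G with its universal Borel
subgroup, and B a Borel subgroup of G (in the sense of the source). Then the S-morphism q : G ⟶ M
classifying the family of conjugates int(g)B (g a point of G) presents M as the fppf quotient G/B: q
is an fppf covering and G x_S B ≅ G x_M G. -/
theorem result {S : Scheme.{u}} {G B : Over S} [GrpObj G] [GrpObj B] (hG : Red.IsReductive G)
    (M : Over S) (H : Over M.left) [GrpObj H] (h : H ⟶ Red.bc M.hom G) (hM : RedSub.RepresentsBor G M H h)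
    (i : B ⟶ G) (hB : RedSub.IsBorelSub i) :
    ∃ q : G ⟶ M, RedSub.SamePoints G G.hom (RedSub.conjFamily i) M h q.left ∧ RedSub.IsQuotient i q := by
  obtain ⟨q, hq1, hq2, -⟩ := QuotCrit.exists_quotient
    (ClosedBor.closed_and_selfNorm hG i hB).2 hB.1.2.1 (classifies hG M H h hM i hB)
    (locConj hG M H h hM.1 i hB)
  exact ⟨q, hq1, hq2⟩

end Groth.Agent.S3966
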