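import Groth.Statements.S3967
import Groth.Agent.Redsub.H649.TorConjLoc
import Groth.Agent.Sga3B.TorClosed636
import Groth.Agent.S3006

set_option autoImplicit false
open CategoryTheory MonoidalCategory CartesianMonoidalCategory MonObj GrpObj AlgebraicGeometry
universe u
open RedSub

namespace Groth.Agent.S3967

/-- Let G be a reductive S-group, (M, h) the scheme of maximal tori of G with its universal maximal
torus, T a maximal torus of G and N ⟶ G its normaliser. Then the S-morphism q : G ⟶ M classifying
the family of conjugates int(g)T presents M as the fppf quotient G/N. -/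
theorem result {S : Scheme.{u}} {G T N : Over S} [GrpObj G] [GrpObj T] [GrpObj N]
    (hG : Red.IsReductive G) (M : Over S) (H : Over M.left) [GrpObj H] (h : H ⟶ Red.bc M.hom G)
    (hM : RedSub.RepresentsTor G M H h) (i : T ⟶ G) (hT : Red.IsMaximalTorus i) (n : N ⟶ G)
    (hN : Red.IsNormalizerOf i n) :
    ∃ q : G ⟶ M, RedSub.SamePoints G G.hom (RedSub.conjFamily i) M h q.left ∧ RedSub.IsQuotient n q := by
  have h1 : IsAffineHom G.hom := hG.1
  have h2 : Smooth G.hom := hG.2.1
  have h3 : IsMonHom i := hT.1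
  have h4 : IsClosedImmersion i.left := Sga3B.TorClosed636.isClosedImmersion_of_isMaximalTorus hG hT
  have hNs : Smooth N.hom := by
    obtain ⟨-, N', _, n', hN', -, hN's⟩ := S3006.result S G T i h4 hT.2.2.1
    have hm : Mono n := hN.2.1
    have hm' : Mono n' := hN'.2.1
    obtain ⟨a, ha⟩ := (hN.2.2 N' n').2 ((hN'.2.2 N' n').1 ⟨𝟙 _, Category.id_comp _⟩)
    obtain ⟨b, hb⟩ := (hN'.2.2 N n).2 ((hN.2.2 N n).1 ⟨𝟙 _, Category.id_comp _⟩)
    have hab : a ≫ b = 𝟙 _ := by
      rw [← cancel_mono n', Category.assoc, hb, ha, Category.id_comp]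
    have hba : b ≫ a = 𝟙 _ := by
      rw [← cancel_mono n, Category.assoc, ha, hb, Category.id_comp]
    have hiso : IsIso b := ⟨a, hba, hab⟩
    have hiso' : IsIso b.left := inferInstanceAs (IsIso ((Over.forget _).map b))
    rw [← Over.w b]
    exact (MorphismProperty.cancel_left_of_respectsIso @Smooth b.left N'.hom).2 hN's
  obtain ⟨q, hq1, hq2, -⟩ := Redsub.H649.QuotCrit.exists_quotient hN hNs
    (Redsub.H649.TorConjLoc.classifies_of_representsTor hG i hT M H h hM)
    (Redsub.H649.TorConjLoc.locConj_of_representsTor hG i hT M H h hM)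
  exact ⟨q, hq1, hq2⟩

end Groth.Agent.S3967
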