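import Groth.Statements.S3968
import Groth.Agent.RedSub.H650.ParClosed
import Groth.Agent.RedSub.H650.ParVal
import Groth.Agent.RedSub.H672.NormQuot

set_option autoImplicit false
open CategoryTheory MonoidalCategory CartesianMonoidalCategory MonObj GrpObj AlgebraicGeometry
universe u
open RedSub

namespace Groth.Agent.S3968

/-- Let G be a reductive S-group and P ⟶ G a parabolic subgroup in the sense of the source: a
sub-group-scheme, smooth over S, whose geometric fibres contain Borel subgroups of those of G
(closedness not assumed). Then P is closed in G, has connected fibres, equals its own normaliser,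
and the fppf quotient sheaf G/P is representable by an S-scheme which is smooth and projective over
S (stated as: proper, and Zariski-locally on S a closed subscheme of a projective space over the
base). -/
theorem result {S : Scheme.{u}} {G P : Over S} [GrpObj G] [GrpObj P]
    (hG : Red.IsReductive G) (i : P ⟶ G) (hP : RedSub.IsParabolicSub i) :
    IsClosedImmersion i.left ∧ RedSub.HasConnectedFibres P ∧ Red.IsNormalizerOf i i ∧
      ∃ (Q : Over S) (q : G ⟶ Q), RedSub.IsQuotient i q ∧ Smooth Q.hom ∧ IsProper Q.hom ∧
        RedSub.IsLocallyProjective Q := by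
  have hp := RedSub.H650.ParClosed.isParabolic hG i hP
  have hc := RedSub.H650.ParClosed.hasConnectedFibres hG i hP
  have hN := Redsub.H644.BorelClosed.isNormalizerOf_of_isParabolic hG hp
  refine ⟨hp.2.1, hc, hN, ?_⟩
  have h1 : IsMonHom i := hp.1
  have h2 : IsClosedImmersion i.left := hp.2.1
  have h3 : Mono i := Over.mono_of_mono_left i
  have h4 : IsAffineHom G.hom := hG.1
  have h5 : Smooth G.hom := hG.2.1
  have h6 : Smooth P.hom := hp.2.2.1
  have h7 : IsAffineHom P.hom := by
    have := Over.w i
    rw [← this]
    infer_instance
  obtain ⟨Q, q, hq, hs, hqc, hsep, hlqp⟩ := RedSub.H672.NormQuot.exists_quotient i i hc hN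
  have huc := RedSub.H650.ParVal.universallyClosed hG i hp q hq
  have hprop : IsProper Q.hom := ⟨⟩
  refine ⟨Q, q, hq, hs, hprop, fun s => ?_⟩
  obtain ⟨V, hsV, n, e, he, hen⟩ := hlqp s
  refine ⟨V, hsV, n, e, ?_, hen⟩
  have h8 : IsProper (Red.bc V.ι Q).hom := inferInstanceAs (IsProper (Limits.pullback.snd Q.hom V.ι))
  have h9 : UniversallyClosed e := by
    have : UniversallyClosed (e ≫ CohB1.ProjSpaceOver.toBase n (V : Scheme.{u})) := by
      rw [hen]
      infer_instance
    have := Dix.ProjProper.isProper_toBase n (V : Scheme.{u})
    exact UniversallyClosed.of_comp_of_isSeparated e (CohB1.ProjSpaceOver.toBase n (V : Scheme.{u}))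
  exact IsClosedImmersion.of_isPreimmersion e e.isClosedMap.isClosed_range

end Groth.Agent.S3968
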