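import Groth.Statements.S3969
import Groth.Agent.RedSub.H651.BorLevi
import Groth.Agent.S2999

set_option autoImplicit false
open CategoryTheory MonoidalCategory CartesianMonoidalCategory MonObj GrpObj AlgebraicGeometry
universe u
open RedSub

namespace Groth.Agent.S3969

/-- Let G be a reductive S-group, B a Borel subgroup of G and T a maximal torus of G contained in B.
Then there is a Borel subgroup B' of G containing T and opposite to B relative to T, i.e. with B x_G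
B' = T, and B' is unique: two such Borel subgroups coincide as subgroups of G. -/
theorem result {S : Scheme.{u}} {G B T : Over S} [GrpObj G] [GrpObj B] [GrpObj T]
    (hG : Red.IsReductive G) (i : B ⟶ G) (hB : Red.IsBorel i) (t : T ⟶ B) [IsMonHom t]
    (hT : Red.IsMaximalTorus (t ≫ i)) :
    (∃ (B' : Over S) (_ : GrpObj B') (i' : B' ⟶ G) (t' : T ⟶ B'),
        Red.IsBorel i' ∧ t' ≫ i' = t ≫ i ∧ IsPullback t t' i i') ∧
      ∀ (B₁ B₂ : Over S) [GrpObj B₁] [GrpObj B₂] (i₁ : B₁ ⟶ G) (i₂ : B₂ ⟶ G) (t₁ : T ⟶ B₁) (t₂ : T ⟶ B₂),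
        Red.IsBorel i₁ → Red.IsBorel i₂ → t₁ ≫ i₁ = t ≫ i → t₂ ≫ i₂ = t ≫ i → IsPullback t t₁ i i₁ → IsPullback t t₂ i i₂ →
        ∃ e : B₁ ≅ B₂, e.hom ≫ i₂ = i₁ := by
  have hpar := Groth.Agent.RedSub.H651.BorLevi.isParabolic_of_isBorel hB
  have hlevi := Groth.Agent.RedSub.H651.BorLevi.isLevi hG i hB t hT
  obtain ⟨⟨P', _, p', m, hp', hpb⟩, huniq⟩ := Groth.Agent.S2999.result G B T hG i hpar t hlevi
  refine ⟨⟨P', inferInstance, p', m,
    Groth.Agent.RedSub.H651.BorLevi.isBorel_of_isPullback hG i hB t hT hp' hpb, hpb.w.symm, hpb⟩, ?_⟩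
  intro B₁ B₂ _ _ i₁ i₂ t₁ t₂ h1 h2 _ _ h3 h4
  exact huniq B₁ B₂ i₁ i₂ t₁ t₂ (Groth.Agent.RedSub.H651.BorLevi.isParabolic_of_isBorel h1)
    (Groth.Agent.RedSub.H651.BorLevi.isParabolic_of_isBorel h2) h3 h4

end Groth.Agent.S3969
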