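import Groth.Statements.S3970
import Groth.Agent.RedSub.H652.GenPosMain

set_option autoImplicit false
open CategoryTheory MonoidalCategory CartesianMonoidalCategory MonObj GrpObj AlgebraicGeometry
universe u
open RedSub

namespace Groth.Agent.S3970

/-- Let G be a reductive S-group, B, B' two Borel subgroups with unipotent radicals U and U'. Then: (a)
B and B' are in general position, i.e. B x_G B' is a maximal torus of G, if and only if (c) the
morphism U' x_S B ⟶ G, (u, b) ↦ u b, is an open immersion; (a) holds if and only if (b') U' x_G B is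
trivial (a point of U' whose image in G lies in B is the unit); and (a) holds if and only if (b) U'
x_G U is trivial. -/
theorem result {S : Scheme.{u}} {G B B' U U' : Over S} [GrpObj G] [GrpObj B] [GrpObj B']
    [GrpObj U] [GrpObj U'] (hG : Red.IsReductive G) (i : B ⟶ G) (i' : B' ⟶ G) (hB : Red.IsBorel i) (hB' : Red.IsBorel i')
    (u : U ⟶ B) (hU : Par.IsUnipotentRadical u) (u' : U' ⟶ B') (hU' : Par.IsUnipotentRadical u') :
    ((∃ (T : Over S) (_ : GrpObj T) (t : T ⟶ B) (t' : T ⟶ B'), IsMonHom t ∧ IsPullback t t' i i' ∧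
        Red.IsMaximalTorus (t ≫ i)) ↔ IsOpenImmersion (((u' ≫ i') ⊗ₘ i) ≫ μ[G]).left) ∧
    ((∃ (T : Over S) (_ : GrpObj T) (t : T ⟶ B) (t' : T ⟶ B'), IsMonHom t ∧ IsPullback t t' i i' ∧
        Red.IsMaximalTorus (t ≫ i)) ↔
      ∀ (X : Over S) (x : X ⟶ U') (y : X ⟶ B), x ≫ u' ≫ i' = y ≫ i → x = 1) ∧
    ((∃ (T : Over S) (_ : GrpObj T) (t : T ⟶ B) (t' : T ⟶ B'), IsMonHom t ∧ IsPullback t t' i i' ∧
        Red.IsMaximalTorus (t ≫ i)) ↔
      ∀ (X : Over S) (x : X ⟶ U') (y : X ⟶ U), x ≫ u' ≫ i' = y ≫ u ≫ i → x = 1) := by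
  refine ⟨⟨fun h => Groth.Agent.RedSub.H652.GenPosMain.isOpenImmersion_of_genPos hG hB hB' hU' h,
    fun h => Groth.Agent.RedSub.H652.GenPosMain.genPos_of_isOpenImmersion hG hB hB' hU' h⟩,
    ⟨fun h => Groth.Agent.RedSub.H652.GenPosMain.eq_one_of_genPos hG hB hB' hU' h, fun h =>
      Groth.Agent.RedSub.H652.GenPosMain.genPos_of_eq_one hG hB hB' hU hU' fun X x y hxy =>
        h X x (y ≫ u) (by rw [Category.assoc, hxy])⟩,
    ⟨fun h X x y hxy => Groth.Agent.RedSub.H652.GenPosMain.eq_one_of_genPos hG hB hB' hU' h X x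
      (y ≫ u) (by rw [Category.assoc, hxy]),
    fun h => Groth.Agent.RedSub.H652.GenPosMain.genPos_of_eq_one hG hB hB' hU hU' h⟩⟩

end Groth.Agent.S3970
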