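import Groth.Statements.S3971
import Groth.Agent.RedSub.H653.BorelZ
import Groth.Agent.Sga3B.Par.LevFin622
import Groth.Agent.Sga3B.SplitFin885

set_option autoImplicit false
open CategoryTheory MonoidalCategory CartesianMonoidalCategory MonObj GrpObj AlgebraicGeometry
universe u
open RedSub

namespace Groth.Agent.S3971

/-- Let S = Spec A be affine, G a reductive S-group and B a Borel subgroup of G. Then B contains a
maximal torus of G. -/
theorem result {A : Type u} [CommRing A] {G B : Over (Spec (CommRingCat.of A))}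
    [GrpObj G] [GrpObj B] (hG : Red.IsReductive G) (i : B ⟶ G) (hB : Red.IsBorel i) :
    ∃ (T : Over (Spec (CommRingCat.of A))) (_ : GrpObj T) (t : T ⟶ B), IsMonHom t ∧ Red.IsMaximalTorus (t ≫ i) := by
  have hP : Red.IsParabolic i := by
    refine ⟨hB.1, hB.2.1, hB.2.2.1, fun s => ?_⟩
    have h := hB.2.2.2 s
    refine ⟨h.1, h.2.1, h.2.2.1, _, inferInstance, 𝟙 _, ?_⟩
    rw [Category.id_comp]
    exact h
  obtain ⟨lam, hlam, hdyn⟩ := Groth.Agent.Sga3B.Par.LevFin622.exists_cochar
    Groth.Agent.Sga3B.SplitFin885.splitTStmt hG i hP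
  have hGa := hG.1
  obtain ⟨Z, _, z, hz, -⟩ := Groth.Agent.Sga3B.Parab.DynExist998.exists_isDynZ lam
  have hmax := Groth.Agent.RedSub.H653.BorelZ.isMaximalTorus_of_isDynZ hG i hB lam hdyn z hz
  obtain ⟨z', rfl⟩ := Groth.Agent.Sga3B.Parab.DynLevi998.exists_zP hdyn hz
  exact ⟨Z, inferInstance, z', Groth.Agent.Sga3B.Parab.DynLevi998.isMonHom_zP hdyn hz, hmax⟩

end Groth.Agent.S3971
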