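import Groth.Statements.S3972
-- import your own Groth.Agent.* helpers here
import Groth.Agent.RedSub.H654.Coradical

set_option autoImplicit false
open CategoryTheory MonoidalCategory CartesianMonoidalCategory MonObj GrpObj AlgebraicGeometry
universe u
open RedSub

namespace Groth.Agent.S3972

/-- Let G be a reductive S-group. Then there are an S-torus C (the coradical), a homomorphism f₀ : G ⟶ C
which is smooth and surjective, and its kernel D = der(G) ⟶ G, a closed subgroup scheme which is a
semisimple S-group, such that every homomorphism from G to a commutative S-group scheme kills D and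
factors uniquely through f₀. If G is semisimple then D = G (its inclusion is an isomorphism). -/
theorem result {S : Scheme.{u}} (G : Over S) [GrpObj G] (hG : Red.IsReductive G) :
    ∃ (C : Over S) (_ : GrpObj C) (f₀ : G ⟶ C) (D : Over S) (_ : GrpObj D) (d : D ⟶ G),
      IsMonHom f₀ ∧ Red.IsTorus C ∧ Smooth f₀.left ∧ Surjective f₀.left ∧
      IsMonHom d ∧ IsClosedImmersion d.left ∧ AlgGrp.IsKernel d f₀ ∧ Red.IsSemisimple D ∧
      RedSub.KilledByCommutative d ∧
      (∀ (A : Over S) [GrpObj A] (f : G ⟶ A) [IsMonHom f], (∀ (X : Over S) (a b : X ⟶ A), a * b = b * a) →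
        ∃! f' : C ⟶ A, f₀ ≫ f' = f) ∧
      (Red.IsSemisimple G → IsIso d) := by
  obtain ⟨C, hC, q, hq, ⟨L⟩⟩ := RedSub.H654.Coradical.exists_LQ hG
  obtain ⟨hK, hk⟩ := Sga3B.KerGrp.exists_grpObj q
  have hCaff := L.isAffineHom
  refine ⟨C, hC, q, Sga3B.KerGrp.kerObj q, hK, Sga3B.KerGrp.kerι q, hq, L.isTorus, L.smooth hG,
    L.surjective, hk, inferInstance, Sga3B.KerGrp.isPullback_ker q, L.isSemisimple_ker hG, ?_, ?_,
    fun h => L.isIso_ker h⟩
  · intro A _ f _ hA
    exact L.kill A hA f _ (Sga3B.KerGrp.kerι_comp q)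
  · intro A _ f _ hA
    exact L.existsUnique hG A hA f

end Groth.Agent.S3972
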