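import Groth.Statements.S3973
import Groth.Agent.RedSub.H655.RadQuot

set_option autoImplicit false
open CategoryTheory MonoidalCategory CartesianMonoidalCategory MonObj GrpObj AlgebraicGeometry
universe u
open RedSub

namespace Groth.Agent.S3973

/-- For a parabolic subgroup (the source states it for subgroups of type (RC)). Let G be a reductive
S-group and P a parabolic subgroup of G. Then P has a unipotent radical U = rad^u(P) (a largest
normal closed subgroup scheme, smooth and finitely presented over S, with connected geometric fibres
containing no non-trivial subtorus), and the fppf quotient sheaf P/U is representable by a reductive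
S-group: there are a reductive S-group L and a homomorphism q : P ⟶ L which is an fppf covering
identifying P x_S U with P x_L P. -/
theorem result {S : Scheme.{u}} {G P : Over S} [GrpObj G] [GrpObj P]
    (hG : Red.IsReductive G) (p : P ⟶ G) (hP : Red.IsParabolic p) :
    ∃ (U : Over S) (_ : GrpObj U) (u : U ⟶ P), Par.IsUnipotentRadical u ∧
      ∃ (L : Over S) (_ : GrpObj L) (q : P ⟶ L), IsMonHom q ∧ RedSub.IsQuotient u q ∧ Red.IsReductive L :=
  Groth.Agent.RedSub.H655.RadQuot.exists_rad_quotient hG p hP

end Groth.Agent.S3973
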