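import Groth.Statements.S3975
import Groth.Agent.RedSub.H657.TrBorel

set_option autoImplicit false
open CategoryTheory MonoidalCategory CartesianMonoidalCategory MonObj GrpObj AlgebraicGeometry
universe u
open RedSub

namespace Groth.Agent.S3975

/-- Let G be a reductive S-group, P and P' two parabolic subgroups of G and B a Borel subgroup of G
contained in both. If P and P' are conjugate in G locally for the etale topology, then P = P' as
subgroups of G. -/
theorem result {S : Scheme.{u}} {G P P' B : Over S} [GrpObj G]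
    [GrpObj P] [GrpObj P'] [GrpObj B] (hG : Red.IsReductive G) (p : P ⟶ G) (p' : P' ⟶ G) (hP : Red.IsParabolic p)
    (hP' : Red.IsParabolic p') (b : B ⟶ G) (hB : Red.IsBorel b) (hb : ∃ c : B ⟶ P, c ≫ p = b)
    (hb' : ∃ c' : B ⟶ P', c' ≫ p' = b)
    (hconj : ∀ s : S, ∃ (U : Scheme.{u}) (f : U ⟶ S) (_ : Etale f), s ∈ Set.range f.base ∧
      ∃ g : 𝟙_ _ ⟶ Red.bc f G, RedSub.ConjEq ((Over.pullback f).map p) ((Over.pullback f).map p') g) :
    ∃ e : P ≅ P', e.hom ≫ p' = p := by
  refine Groth.Agent.RedSub.H657.TrBorel.eq_of_locally_conj hG p hP p' hP' b hB hb hb' fun s => ?_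
  obtain ⟨U, f, hf, hs, g, hg⟩ := hconj s
  exact ⟨U, f, inferInstance, inferInstance, hs, g, hg⟩

end Groth.Agent.S3975
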