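import Groth.Statements.S3976
import Groth.Agent.RedSub.H658.TorsTriv
import Groth.Agent.RedSub.H658.DynUAff
import Groth.Agent.RedSub.H658.RadDyn

set_option autoImplicit false
open CategoryTheory MonoidalCategory CartesianMonoidalCategory MonObj GrpObj AlgebraicGeometry
universe u
open RedSub

namespace Groth.Agent.S3976

/-- Let S = Spec A be affine, G a reductive S-group, P a parabolic subgroup of G and U its unipotent
radical. Then H^1(S, U) = 0: every torsor under U over S has a section. -/
theorem result {A : Type u} [CommRing A]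
    {G P U X : Over (Spec (CommRingCat.of A))} [GrpObj G] [GrpObj P] [GrpObj U] (hG : Red.IsReductive G)
    (p : P ⟶ G) (hP : Red.IsParabolic p) (u : U ⟶ P) (hU : Par.IsUnipotentRadical u) (a : AlgGrp.Action U X)
    (ha : RedSub.IsTorsor a) : RedSub.HasSection X := by
  obtain ⟨lam, hlam, -, hdyn⟩ := Groth.Agent.RedSub.H658.RadDyn.exists_cochar hG p hP u hU
  have h1 := hG.1
  have h2 := hG.2.1
  obtain ⟨B, _, _, e, _, δ, hsm, hδ, h0, hF⟩ := Groth.Agent.RedSub.H658.DynUAff.exists_graded hdyn
  exact Groth.Agent.RedSub.H658.TorsTriv.hasSection hδ h0 hF e a ha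

end Groth.Agent.S3976
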