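import Groth.Statements.S3977
import Groth.Agent.RedSub.H659.UVec
import Groth.Agent.Sga3B.Par.LevFin622
import Groth.Agent.Sga3B.SplitFin885

set_option autoImplicit false
open CategoryTheory MonoidalCategory CartesianMonoidalCategory MonObj GrpObj AlgebraicGeometry
universe u
open RedSub

namespace Groth.Agent.S3977

/-- Let S = Spec A be affine, G a reductive S-group, P a parabolic subgroup of G and U its unipotent
radical. Then there is a finitely generated projective A-module E such that U is isomorphic, as an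
S-scheme, to the vector group Spec (Sym_A E) (the source writes W(E') for the locally free sheaf E'
dual to E). -/
theorem result {A : Type u} [CommRing A]
    {G P U : Over (Spec (CommRingCat.of A))} [GrpObj G] [GrpObj P] [GrpObj U] (hG : Red.IsReductive G)
    (p : P ⟶ G) (hP : Red.IsParabolic p) (u : U ⟶ P) (hU : Par.IsUnipotentRadical u) :
    ∃ (E : Type u) (_ : AddCommGroup E) (_ : Module A E), Module.Finite A E ∧ Module.Projective A E ∧
      Nonempty (U ≅ (Spec (CommRingCat.of (SymmetricAlgebra A E))).asOver (Spec (CommRingCat.of A))) := by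
  have hGa : IsAffineHom G.hom := hG.1
  have hGs : Smooth G.hom := hG.2.1
  obtain ⟨lam, hlam, h⟩ := Groth.Agent.Sga3B.Par.LevFin622.exists_cochar
    Groth.Agent.Sga3B.SplitFin885.splitTStmt hG p hP
  obtain ⟨U', Z, _, _, u', z, hu', hz', hpar, hrad, hlevi⟩ :=
    Groth.Agent.Sga3B.Par.LeviOfDyn383.exists_all Groth.Agent.Sga3B.Parab.DynGeom678.dynGeomU
      Groth.Agent.Sga3B.Parab.Uncond688.dynK1 Groth.Agent.Sga3B.Parab.K3b143.dynK3 hG lam p h
  obtain ⟨φ, -, -⟩ :=
    Groth.Agent.RedSub.H659.UVec.exists_iso_of_isUnipotentRadical hU hrad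
  obtain ⟨E, _, _, h1, h2, ⟨ψ⟩⟩ := Groth.Agent.RedSub.H659.UVec.exists_vec hu'
  exact ⟨E, inferInstance, inferInstance, h1, h2, ⟨φ ≪≫ ψ⟩⟩

end Groth.Agent.S3977
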