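import Groth.Statements.S3979
import Groth.Agent.RedSub.H661.Main

set_option autoImplicit false
open CategoryTheory MonoidalCategory CartesianMonoidalCategory MonObj GrpObj AlgebraicGeometry
universe u
open RedSub

namespace Groth.Agent.S3979

/-- Equivalence of (ii), (iii), (iv) and (vi). Let G be a reductive S-group and P, Q two parabolic
subgroups. The following are equivalent: (ii) the morphism P x_S Q ⟶ G, (x, y) ↦ x y, is smooth;
(iii) it is an open map; (iv) it is fibrewise dominant (the image of each fibre of P x_S Q over S is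
dense in the corresponding fibre of G); (vi) every point of S is in the image of an etale U ⟶ S over
which there are Borel subgroups B of G_U inside P_U and B' inside Q_U such that B x_{G_U} B' is a
maximal torus of G_U. -/
theorem result {S : Scheme.{u}} {G P Q : Over S} [GrpObj G] [GrpObj P] [GrpObj Q]
    (hG : Red.IsReductive G) (p : P ⟶ G) (q : Q ⟶ G) (hP : Red.IsParabolic p) (hQ : Red.IsParabolic q) :
    (Smooth ((p ⊗ₘ q) ≫ μ[G]).left ↔ IsOpenMap ((p ⊗ₘ q) ≫ μ[G]).left.base) ∧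
    (Smooth ((p ⊗ₘ q) ≫ μ[G]).left ↔ ∀ s : S, G.hom.base ⁻¹' {s} ⊆
      closure (((p ⊗ₘ q) ≫ μ[G]).left.base '' ((P ⊗ Q).hom.base ⁻¹' {s}))) ∧
    (Smooth ((p ⊗ₘ q) ≫ μ[G]).left ↔
      ∀ s : S, ∃ (U : Scheme.{u}) (f : U ⟶ S) (_ : Etale f), s ∈ Set.range f.base ∧
        ∃ (B B' T : Over U) (_ : GrpObj B) (_ : GrpObj B') (_ : GrpObj T) (c : B ⟶ Red.bc f P) (c' : B' ⟶ Red.bc f Q)
          (t : T ⟶ B) (t' : T ⟶ B'),
          Red.IsBorel (c ≫ (Over.pullback f).map p) ∧ Red.IsBorel (c' ≫ (Over.pullback f).map q) ∧ IsMonHom t ∧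
          IsPullback t t' (c ≫ (Over.pullback f).map p) (c' ≫ (Over.pullback f).map q) ∧
          Red.IsMaximalTorus (t ≫ c ≫ (Over.pullback f).map p)) := by
  have hpm : IsMonHom p := hP.1
  have hqm : IsMonHom q := hQ.1
  have h1 : Smooth ((p ⊗ₘ q) ≫ μ[G]).left → IsOpenMap ((p ⊗ₘ q) ≫ μ[G]).left.base := fun h =>
    ((p ⊗ₘ q) ≫ μ[G]).left.isOpenMap
  have h2 : IsOpenMap ((p ⊗ₘ q) ≫ μ[G]).left.base →
      ∀ s : S, Groth.Agent.RedSub.H661.Dense.DenseAt p q s := fun h s =>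
    Groth.Agent.RedSub.H661.Main.denseAt_of_isOpenMap hG h s
  have h3 : (∀ s : S, Groth.Agent.RedSub.H661.Dense.DenseAt p q s) →
      ∀ s : S, Groth.Agent.RedSub.H661.SixAt.Six p q s := fun h s =>
    Groth.Agent.RedSub.H661.Main.six_of_denseAt hG hP hQ (h s)
  have h4 : (∀ s : S, Groth.Agent.RedSub.H661.SixAt.Six p q s) →
      Smooth ((p ⊗ₘ q) ≫ μ[G]).left := Groth.Agent.RedSub.H661.Main.smooth_of_six hG hP hQ
  exact ⟨⟨h1, fun h => h4 (h3 (h2 h))⟩, ⟨fun h => h2 (h1 h), fun h => h4 (h3 h)⟩,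
    ⟨fun h => h3 (h2 (h1 h)), h4⟩⟩

end Groth.Agent.S3979
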