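import Groth.Statements.S3983
import Groth.Agent.Sga3B.IsomLocal
import Groth.Agent.Sga3B.IsomHa505
import Groth.Agent.Sga3B.IsomHb885
import Groth.Agent.Sga3B.ChartGood
import Groth.Agent.Sga3B.IsomHdPin848

set_option autoImplicit false
open CategoryTheory MonoidalCategory CartesianMonoidalCategory MonObj GrpObj AlgebraicGeometry
universe u
open RedSub

namespace Groth.Agent.S3983

open Groth.Agent.Sga3B Groth.Agent.Sga3B.BcPts Groth.Agent.Sga3B.IsomDefs Groth.Agent.Sga3B.IsomCore

/-- the identity of `G` as a family of isomorphisms over the base. -/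
lemma isIsoFamily_fst {S : Scheme.{u}} {G : Over S} [GrpObj G] (V : Over S) :
    AutFam.IsIsoFamily G G (fst G V) := by
  refine ⟨?_, fst G V, ?_, ?_⟩
  · intro X g₁ g₂ t
    rw [lift_fst, lift_fst, lift_fst]
  · intro X g t
    rw [lift_fst, lift_fst]
  · intro X g t
    rw [lift_fst, lift_fst]

/-- The points of a conjugate of the identity family. -/
lemma lift_conjFam_fst {S : Scheme.{u}} {G : Over S} [GrpObj G] {W V : Over S} (v : V ⟶ W) (g : V ⟶ G)
    {X : Over S} (y : X ⟶ G) (x : X ⟶ V) :
    lift y x ≫ conjFam g ((G ◁ v) ≫ fst G W) = (x ≫ g) * y * (x ≫ g)⁻¹ := by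
  rw [lift_conjFam, ← Category.assoc, lift_whiskerLeft, lift_fst]

/-- Conjugation by the point of a base change defined by a point over `Over.mk f`. -/
lemma exists_point_bc {S U : Scheme.{u}} {f : U ⟶ S} {G : Over S} [GrpObj G] (g : Over.mk f ⟶ G) :
    ∃ g' : 𝟙_ (Over U) ⟶ Red.bc f G, ∀ (X : Over U) (y : (Over.map f).obj X ⟶ G),
      (toUnit X ≫ g') * bcEquiv f X G y * (toUnit X ≫ g')⁻¹ =
        bcEquiv f X G ((Over.homMk X.hom ≫ g) * y * (Over.homMk X.hom ≫ g)⁻¹) := by
  let ε : (Over.map f).obj (𝟙_ (Over U)) ⟶ Over.mk f := Over.homMk (𝟙 _) (by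
    change 𝟙 _ ≫ f = 𝟙 _ ≫ f
    rfl)
  refine ⟨bcEquiv f _ G (ε ≫ g), fun X y => ?_⟩
  have h1 : toUnit X ≫ bcEquiv f _ G (ε ≫ g) =
      bcEquiv f X G ((Over.homMk X.hom : (Over.map f).obj X ⟶ Over.mk f) ≫ g) := by
    rw [← comp_bcEquiv, ← Category.assoc]
    congr 2
  rw [h1]
  change bcMulEquiv f X G _ * bcMulEquiv f X G _ * (bcMulEquiv f X G _)⁻¹ = bcMulEquiv f X G _
  rw [map_mul, map_mul, map_inv]

/-- Let G be a reductive S-group with two pinnings D and D' (the prelude's Red.Pinning: a splitting with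
root homomorphisms for all roots plus a system of simple roots). Then locally on S for the fppf
topology there is an inner automorphism carrying D to D': every point of S is in the image of a flat
morphism f : U ⟶ S locally of finite presentation over which there are a point g ∈ G(U) and an
isomorphism h from the root datum of D' to that of D preserving simple roots, such that conjugation
by g restricted to the torus of D is the isomorphism of tori D(h) followed by the inclusion of the
torus of D', and conjugation by g carries the root homomorphism u_{h(a')} of D to the root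
homomorphism u'_{a'} of D' for every simple root a' of D'. (There is a unique automorphism of G
carrying D to D'; the content here is that it is fppf-locally inner. Only the existence of such a
local section g is asserted.) -/
theorem result {S : Scheme.{u}} {G : Over S} [GrpObj G] (hG : Red.IsReductive G)
    (D D' : Red.Pinning G) (s : S) :
    ∃ (U : Scheme.{u}) (f : U ⟶ S), Flat f ∧ LocallyOfFinitePresentation f ∧ s ∈ Set.range f.base ∧
      ∃ (g : 𝟙_ _ ⟶ Red.bc f G) (h : RootPairing.Equiv D'.P D.P),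
        (∀ a' : D'.idx, a' ∈ D'.base.support ↔ h.indexEquiv a' ∈ D.base.support) ∧
        (∀ (X : Over U) (t : X ⟶ Red.bc f D.T),
          (toUnit X ≫ g) * (t ≫ (Over.pullback f).map D.i) * (toUnit X ≫ g)⁻¹ =
            t ≫ (Over.pullback f).map
              (D.split.hom.hom.hom ≫ Red.DSmap S h.weightMap.toAddMonoidHom ≫ D'.split.inv.hom.hom ≫ D'.i)) ∧
        (∀ (a' : D'.idx), a' ∈ D'.base.support → ∀ (X : Over U) (x : X ⟶ Red.bc f (Red.Ga S)),
          (toUnit X ≫ g) * (x ≫ (Over.pullback f).map (D.u (h.indexEquiv a'))) * (toUnit X ≫ g)⁻¹ =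
            x ≫ (Over.pullback f).map (D'.u a')) := by
  obtain ⟨R, _, f, v, hv1, hv2, ⟨y, hy⟩, g, e, h1, h2⟩ := IsomLocal.stepD D D'
    (IsomHa505.haStmt D.toSplitRed D'.toSplitRed) (ChartFam.hbStmt D.toSplitRed D'.toSplitRed)
    (IsomHd848.hdStmt D D') (𝟙_ (Over S)) (fst G _) (isIsoFamily_fst _) s
  have hv : v.left = f := by
    have := Over.w v
    simpa using this
  obtain ⟨g', hg'⟩ := exists_point_bc g
  refine ⟨Spec (CommRingCat.of R), f, hv ▸ hv1, hv ▸ hv2, ⟨y, hv ▸ hy⟩, g', e.1, e.2, ?_, ?_⟩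
  · intro X t
    obtain ⟨t₀, rfl⟩ := (bcEquiv f X D.T).surjective t
    rw [← bcEquiv_comp, ← bcEquiv_comp, hg']
    congr 1
    have h3 := h1 _ (Over.homMk X.hom : (Over.map f).obj X ⟶ Over.mk f) (t₀ ≫ D.split.hom.hom.hom)
    rw [lift_conjFam_fst, dT_hom] at h3
    rw [h3, dT]
    simp only [Category.assoc]
  · intro a' ha' X x
    obtain ⟨x₀, rfl⟩ := (bcEquiv f X (Red.Ga S)).surjective x
    rw [← bcEquiv_comp, ← bcEquiv_comp, hg']
    congr 1
    have h3 := h2 a' ha' _ (Over.homMk X.hom : (Over.map f).obj X ⟶ Over.mk f) x₀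
    rw [lift_conjFam_fst] at h3
    exact h3

end Groth.Agent.S3983
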