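import Groth.Statements.S3984
import Groth.Agent.RedSub.H666.Final
import Groth.Agent.RedSub.H667.FieldType

set_option autoImplicit false
open CategoryTheory MonoidalCategory CartesianMonoidalCategory MonObj GrpObj AlgebraicGeometry
universe u
open RedSub

namespace Groth.Agent.S3984

/-- Let A be a semi-local ring, S = Spec A, and G a semisimple S-group of constant type R (every
geometric fibre is split of type R). Then G is isotrivial: there is a finite etale surjective
morphism S' ⟶ S such that G_{S'} is split (admits a splitting). -/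
theorem result {A : Type u} [CommRing A] (hA : {m : Ideal A | m.IsMaximal}.Finite)
    (G : Over (Spec (CommRingCat.of A))) [GrpObj G] (hG : Red.IsSemisimple G)
    {idx M N : Type} [Finite idx] [AddCommGroup M] [AddCommGroup N] [Module.Finite ℤ M] [Module.Free ℤ M]
    (R : RootPairing idx ℤ M N) (htype : ∀ s : Spec (CommRingCat.of A), Red.IsSplitOfType R (Red.geomFibre s G)) :
    ∃ (S' : Scheme.{u}) (f : S' ⟶ Spec (CommRingCat.of A)), IsFinite f ∧ Etale f ∧ Surjective f ∧
      Nonempty (Red.SplitRed (Red.bc f G)) := by
  exact Groth.Agent.RedSub.H666.Final.main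
    (fun {_} _ _ {_} _ _ _ {_ _} _ _ hG i hT {_} _ _ _ sp e _ p hp {_ _ _} _ _ _ _ _ Q hQ =>
      Groth.Agent.RedSub.H667.FieldType.exists_equiv hG i hT sp e p hp Q hQ) hA G hG R htype

end Groth.Agent.S3984
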