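import Groth.Statements.S3986
import Groth.Agent.RedSub.H668.IsotrivMain
import Groth.Agent.RedSub.H668.NormLocMain

set_option autoImplicit false
open CategoryTheory MonoidalCategory CartesianMonoidalCategory MonObj GrpObj AlgebraicGeometry
universe u
open RedSub

namespace Groth.Agent.S3986

/-- Let A be a semi-local ring, S = Spec A, G a split reductive S-group and X a torsor under G. Then X
is isotrivial: there is a finite etale surjective morphism S' ⟶ S such that X_{S'} has a section. -/
theorem result {A : Type u} [CommRing A]
    (hA : {m : Ideal A | m.IsMaximal}.Finite) {G X : Over (Spec (CommRingCat.of A))} [GrpObj G] (D : Red.SplitRed G)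
    (a : AlgGrp.Action G X) (ha : RedSub.IsTorsor a) :
    ∃ (S' : Scheme.{u}) (f : S' ⟶ Spec (CommRingCat.of A)), IsFinite f ∧ Etale f ∧ Surjective f ∧
      RedSub.HasSection (Red.bc f X) := by
  exact Groth.Agent.RedSub.H668.exists_finite_etale hA D a ha
    fun s => Groth.Agent.RedSub.H668.exists_normLoc s

end Groth.Agent.S3986
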