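import Groth.Statements.S3985
import Groth.Agent.RedSub.H667.Glue85
import Groth.Agent.S3984
import Groth.Agent.S3986

set_option autoImplicit false
open CategoryTheory MonoidalCategory CartesianMonoidalCategory MonObj GrpObj AlgebraicGeometry
universe u
open RedSub

namespace Groth.Agent.S3985

/-- Let A be a semi-local ring, S = Spec A, G a semisimple S-group of constant type R, and X a torsor
under G. Then X is isotrivial: there is a finite etale surjective morphism S' ⟶ S such that X_{S'}
has a section. -/
theorem result {A : Type u} [CommRing A] (hA : {m : Ideal A | m.IsMaximal}.Finite)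
    {G X : Over (Spec (CommRingCat.of A))} [GrpObj G] (hG : Red.IsSemisimple G)
    {idx M N : Type} [Finite idx] [AddCommGroup M] [AddCommGroup N] [Module.Finite ℤ M] [Module.Free ℤ M]
    (R : RootPairing idx ℤ M N) (htype : ∀ s : Spec (CommRingCat.of A), Red.IsSplitOfType R (Red.geomFibre s G))
    (a : AlgGrp.Action G X) (ha : RedSub.IsTorsor a) :
    ∃ (S' : Scheme.{u}) (f : S' ⟶ Spec (CommRingCat.of A)), IsFinite f ∧ Etale f ∧ Surjective f ∧
      RedSub.HasSection (Red.bc f X) := by
  exact Groth.Agent.RedSub.H667.Glue85.glue
    (fun hA G _ hG _ _ _ _ _ _ _ _ R htype => Groth.Agent.S3984.result hA G hG R htype)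
    (fun hA _ _ _ D a ha => Groth.Agent.S3986.result hA D a ha) hA hG R htype a ha

end Groth.Agent.S3985
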