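import Groth.Statements.S3987
-- import your own Groth.Agent.* helpers here
import Groth.Agent.RedSub.H669.Main

set_option autoImplicit false
open CategoryTheory MonoidalCategory CartesianMonoidalCategory MonObj GrpObj AlgebraicGeometry
universe u
open RedSub

namespace Groth.Agent.S3987

/-- Let A be a semi-local ring, S = Spec A, G a reductive S-group, T₀ a maximal torus of G which is
split, and T another maximal torus of G. Then there is a finite etale surjective morphism f : S' ⟶ S
and a point g ∈ G(S') conjugating T₀ onto T over S'. -/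
theorem result {A : Type u} [CommRing A]
    (hA : {m : Ideal A | m.IsMaximal}.Finite) {G T₀ T : Over (Spec (CommRingCat.of A))} [GrpObj G] [GrpObj T₀]
    [GrpObj T] (hG : Red.IsReductive G) (i₀ : T₀ ⟶ G) (i : T ⟶ G) (h₀ : Red.IsMaximalTorus i₀)
    (M : Type) [AddCommGroup M] (hsplit : Red.IsSplitTorusWith M T₀) (hT : Red.IsMaximalTorus i) :
    ∃ (S' : Scheme.{u}) (f : S' ⟶ Spec (CommRingCat.of A)), IsFinite f ∧ Etale f ∧ Surjective f ∧
      ∃ g : 𝟙_ _ ⟶ Red.bc f G, RedSub.ConjEq ((Over.pullback f).map i₀) ((Over.pullback f).map i) g := by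
  by_cases hR : Nontrivial A
  · obtain ⟨E, _, _, h1, h2, h3, g, hg⟩ := Groth.Agent.RedSub.H669.Main.main hA hG i₀ i h₀ hT hsplit
    refine ⟨Spec (CommRingCat.of E), Spec.map (CommRingCat.ofHom (algebraMap A E)), ?_, ?_, ?_,
      Groth.Agent.RedSub.H645.ConjEqIff.exists_conjEq_bc _ hg⟩
    · rw [IsFinite.SpecMap_iff]
      exact RingHom.finite_algebraMap.2 h1
    · rw [HasRingHomProperty.Spec_iff (P := @Etale)]
      exact RingHom.etale_algebraMap.2 h2
    · refine ⟨fun x => ?_⟩
      obtain ⟨y, hy⟩ := PrimeSpectrum.comap_surjective_of_faithfullyFlat (A := A) (B := E) x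
      exact ⟨y, hy⟩
  · rw [not_nontrivial_iff_subsingleton] at hR
    refine ⟨_, 𝟙 _, inferInstance, inferInstance, inferInstance, 1, ?_⟩
    intro X x
    have hX : IsEmpty X.left := by
      have h1 : IsEmpty (Spec (CommRingCat.of A)) := inferInstanceAs (IsEmpty (PrimeSpectrum A))
      exact Function.isEmpty X.hom
    have hsub : ∀ (Y : Over (Spec (CommRingCat.of A))) (a b : X ⟶ Y), a = b := fun Y a b =>
      Over.OverMorphism.ext (isInitialOfIsEmpty.hom_ext _ _)
    exact ⟨fun h => ⟨1, hsub _ _ _⟩, fun h => ⟨1, hsub _ _ _⟩⟩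

end Groth.Agent.S3987
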