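import Groth.Statements.S3989
import Groth.Agent.S3001
import Groth.Agent.RedSub.H671.LeviTriv

set_option autoImplicit false
open CategoryTheory MonoidalCategory CartesianMonoidalCategory MonObj GrpObj AlgebraicGeometry
universe u
open RedSub

namespace Groth.Agent.S3989

/-- Let G be a reductive S-group with a split subtorus Q ⟶ G (a subgroup scheme which is a torus
isomorphic to D_S(M)) which is not central (some point of Q fails to commute with some point of G
after base change). Then G has a proper parabolic subgroup: a parabolic subgroup P ⟶ G whose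
inclusion is not an isomorphism. -/
theorem result {S : Scheme.{u}} {G Q : Over S} [GrpObj G] [GrpObj Q]
    (hG : Red.IsReductive G) (j : Q ⟶ G) [IsMonHom j] [Mono j] (M : Type) [AddCommGroup M] (hQt : Red.IsTorus Q)
    (hQ : Red.IsSplitTorusWith M Q)
    (hnc : ¬ ∀ (X X' : Over S) (x : X' ⟶ X) (t : X ⟶ Q) (g : X' ⟶ G), (x ≫ t ≫ j) * g = g * (x ≫ t ≫ j)) :
    ∃ (P : Over S) (_ : GrpObj P) (p : P ⟶ G), Red.IsParabolic p ∧ ¬ IsIso p := by
  have hGa : IsAffineHom G.hom := hG.1
  have hQ' := hQ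
  obtain ⟨e⟩ := hQ'
  let J : Red.DS S M ⟶ G := e.inv.hom.hom ≫ j
  have hJ : IsMonHom J := inferInstanceAs (IsMonHom (e.inv.hom.hom ≫ j))
  obtain ⟨Z, _, z, hz1, hz2, -, hz⟩ :=
    Groth.Agent.Sga3B.Parab.OrbM156.exists_subgroup_T J (⊥ : Submonoid (Multiplicative M))
  have hZ : Red.IsCentralizerOf j z := by
    refine ⟨hz1, hz2, fun X g => ?_⟩
    rw [hz X g, ← Groth.Agent.Sga3B.Parab.OrbM156.commutes_iff_ptT]
    exact (Groth.Agent.Sga3B.Parab.OrbM156.commutes_iff e j g).symm
  obtain ⟨P, _, p, l, hp, hl, hlevi⟩ := Groth.Agent.S3001.result G Q Z hG j M hQt hQ z hZ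
  refine ⟨P, inferInstance, p, hp, fun hiso => hnc ?_⟩
  intro X X' x t g
  have hpm : IsMonHom p := hp.1
  obtain ⟨a, ha⟩ := Groth.Agent.RedSub.H671.LeviTriv.exists_factor_levi hG p hlevi g
  rw [hl] at ha
  have h := (hZ.2.2 X' g).1 ⟨a, ha⟩ X' (𝟙 X') (x ≫ t)
  rw [Category.id_comp, Category.assoc] at h
  exact h.symm

end Groth.Agent.S3989
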