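import Groth.Statements.S3990
import Groth.Agent.S3960
import Groth.Agent.RedSub.H672.TypeRQuot

set_option autoImplicit false
open CategoryTheory MonoidalCategory CartesianMonoidalCategory MonObj GrpObj AlgebraicGeometry
universe u
open RedSub

namespace Groth.Agent.S3990

/-- Let G be a reductive S-group, H a subgroup of type (R) and N ⟶ G its normaliser. Then the fppf
quotient sheaf G/N is representable by an S-scheme which is smooth, of finite presentation and
quasi-projective over S (the last stated as: Zariski-locally on S an immersed subscheme of a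
projective space over the base). -/
theorem result {S : Scheme.{u}} {G H N : Over S} [GrpObj G] [GrpObj H]
    [GrpObj N] (hG : Red.IsReductive G) (i : H ⟶ G) (hH : RedSub.IsTypeR i) (n : N ⟶ G) (hN : Red.IsNormalizerOf i n) :
    ∃ (Q : Over S) (q : G ⟶ Q), RedSub.IsQuotient n q ∧ Smooth Q.hom ∧ QuasiCompact Q.hom ∧ QuasiSeparated Q.hom ∧
      RedSub.IsLocallyQuasiProjective Q := by
  obtain ⟨N', hgN', n', hN', -, hsm⟩ := Groth.Agent.S3960.result hG i hH
  have : Smooth N.hom :=
    Groth.Agent.RedSub.H672.TypeRQuot.smooth_of_isNormalizerOf i n n' hN hN'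
  exact Groth.Agent.RedSub.H672.TypeRQuot.exists_quotient hG i hH n hN

end Groth.Agent.S3990
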