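import Groth.Statements.S4003
-- import your own Groth.Agent.* helpers here
import Groth.Agent.Vancyc.H881.Asm4003
import Groth.Agent.Vancyc.H685.Even4003
import Groth.Agent.Vancyc.H685.EvenTopMain

set_option autoImplicit false
universe u
open CategoryTheory CategoryTheory.Limits AlgebraicGeometry
open VanCyc

namespace Groth.Agent.S4003

/-- Let R be a strictly henselian discrete valuation ring in which 2 is invertible, t a uniformiser, K
the fraction field, Ω a separable closure of K, N a natural number invertible in R, m ≥ 1, Q a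
non-degenerate quadratic form in 2m + 1 variables over R (coefficient table a) and b = w t^v with w
a unit and v ≥ 1. Let X = Spec R[x_0, …, x_{2m}]/(Q - b) -> S = Spec R (special fibre a quadratic
cone, geometric generic fibre a smooth affine quadric of dimension 2m). Then H^{2m}(X_ηbar, jbar^*
Z/N) is isomorphic to Z/N, and every K-automorphism σ of Ω (an element of the inertia group, R being
strictly henselian) acts on it as multiplication by (σ(√t)/√t)^v. (Tate twists are ignored because
all N-th roots of unity lie in R. Exactness of the pullbacks of etale sheaves involved is carried as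
instance hypotheses.) -/
theorem result (R K Ω : Type u) [CommRing R] [IsDomain R] [IsDiscreteValuationRing R]
    (hR : EtCoh.IsStrictlyHenselianLocalRing R) [Field K] [Algebra R K] [IsFractionRing R K] [Field Ω] [Algebra K Ω]
    [IsSepClosure K Ω] [Algebra R Ω] [IsScalarTower R K Ω]
    (h2 : IsUnit (2 : R)) (t : R) (ht : Irreducible t) (N : ℕ) (hN : IsUnit (N : R))
    (m : ℕ) (hm : 1 ≤ m) (a : Fin (2 * m + 1) → Fin (2 * m + 1) → R) (ha : VanCyc.QuadNondeg a)
    (w : Rˣ) (v : ℕ) (hv : 1 ≤ v)
    [PreservesFiniteLimits (EtCoh.pull (VanCyc.jA R (Spec.map (CommRingCat.ofHom (algebraMap R (VanCyc.quadRing R a ((w : R) * t ^ v))))) Ω))]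
    (σ : Ω ≃ₐ[K] Ω) [PreservesFiniteLimits (EtCoh.pull (VanCyc.galGeom (Spec.map (CommRingCat.ofHom (algebraMap R (VanCyc.quadRing R a ((w : R) * t ^ v))))) σ))] :
    Nonempty (EtCoh.H (VanCyc.fib R (Spec.map (CommRingCat.ofHom (algebraMap R (VanCyc.quadRing R a ((w : R) * t ^ v))))) Ω)
        ((EtCoh.pull (VanCyc.jA R (Spec.map (CommRingCat.ofHom (algebraMap R (VanCyc.quadRing R a ((w : R) * t ^ v))))) Ω)).obj (EtCoh.const _ (ZMod N))) (2 * m) ≃+ ZMod N) ∧
      VanCyc.galH (Spec.map (CommRingCat.ofHom (algebraMap R (VanCyc.quadRing R a ((w : R) * t ^ v))))) σ (EtCoh.const _ (ZMod N)) (2 * m) =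
        (VanCyc.quadChar (algebraMap R K t) σ) ^ v • AddMonoidHom.id _ := by
  have hΩ : IsSepClosed Ω := IsSepClosure.sep_closed K
  have hNΩ : (N : Ω) ≠ 0 := by
    have h := hN.map (algebraMap R Ω)
    rw [map_natCast] at h
    exact h.ne_zero
  exact Groth.Agent.Vancyc.H881.Asm4003.main R K Ω hR h2 t ht N m a ha w v σ
    (Groth.Agent.Vancyc.H685.Even4003.hstd hR m hN σ (2 * m))
    (Groth.Agent.Vancyc.H685.Even4003.hτ hNΩ m hm)
    (Groth.Agent.Vancyc.H685.EvenTopMain.H_std_top hNΩ m hm)

end Groth.Agent.S4003
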