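import Groth.Statements.S4004
import Groth.Agent.Vancyc.H686.QuadMain
import Groth.Agent.Vancyc.H263.PunctStd
import Groth.Agent.Sga4B.PurityMainB

set_option autoImplicit false
universe u
open CategoryTheory CategoryTheory.Limits AlgebraicGeometry
open VanCyc

namespace Groth.Agent.S4004

/-- Let R be a strictly henselian discrete valuation ring with fraction field K, Ω a separable closure
of K, N invertible in R, Q a non-degenerate quadratic form in 2m + 2 variables over R (coefficient
table a) and b a nonzero element of the maximal ideal of R. Let X = Spec R[x_0, …, x_{2m+1}]/(Q - b)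
-> S = Spec R (special fibre a quadratic cone, geometric generic fibre a smooth affine quadric of
odd dimension 2m + 1). Then, with X_ηbar = X ×_{Spec R} Spec Ω the geometric generic fibre,
H^{2m+1}(X_ηbar, Z/N) is isomorphic to Z/N and every K-automorphism σ of Ω (an element of the
inertia group) acts trivially on it. -/
theorem result (R K Ω : Type u) [CommRing R] [IsDomain R] [IsDiscreteValuationRing R]
    (hR : EtCoh.IsStrictlyHenselianLocalRing R) [Field K] [Algebra R K] [IsFractionRing R K] [Field Ω] [Algebra K Ω]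
    [IsSepClosure K Ω] [Algebra R Ω] [IsScalarTower R K Ω]
    (N : ℕ) (hN : IsUnit (N : R)) (m : ℕ) (a : Fin (2 * m + 2) → Fin (2 * m + 2) → R) (ha : VanCyc.QuadNondeg a)
    (b : R) (hb : b ∈ IsLocalRing.maximalIdeal R) (hb0 : b ≠ 0)
    [PreservesFiniteLimits (EtCoh.pull (VanCyc.jA R (Spec.map (CommRingCat.ofHom (algebraMap R (VanCyc.quadRing R a b)))) Ω))]
    (σ : Ω ≃ₐ[K] Ω) [PreservesFiniteLimits (EtCoh.pull (VanCyc.galGeom (Spec.map (CommRingCat.ofHom (algebraMap R (VanCyc.quadRing R a b)))) σ))] :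
    Nonempty (EtCoh.H (VanCyc.fib R (Spec.map (CommRingCat.ofHom (algebraMap R (VanCyc.quadRing R a b)))) Ω)
        ((EtCoh.pull (VanCyc.jA R (Spec.map (CommRingCat.ofHom (algebraMap R (VanCyc.quadRing R a b)))) Ω)).obj (EtCoh.const _ (ZMod N))) (2 * m + 1) ≃+ ZMod N) ∧
      VanCyc.galH (Spec.map (CommRingCat.ofHom (algebraMap R (VanCyc.quadRing R a b)))) σ (EtCoh.const _ (ZMod N)) (2 * m + 1) = AddMonoidHom.id _ := by
  obtain ⟨hH, hS⟩ := hR
  have hs : IsSepClosed Ω := IsSepClosure.sep_closed K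
  have hinj : Function.Injective (algebraMap R Ω) := by
    rw [IsScalarTower.algebraMap_eq R K Ω]
    exact (algebraMap K Ω).injective.comp (IsFractionRing.injective R K)
  have hb0' : algebraMap R Ω b ≠ 0 := fun h => hb0 (hinj (h.trans (map_zero _).symm))
  have hN' := Groth.Agent.Vancyc.H686.VanFinal.isUnit_spec hN
  have hNΩ : (N : Ω) ≠ 0 := by
    have h := (hN.map (algebraMap R Ω)).ne_zero
    rwa [map_natCast] at h
  have hM : ∀ x : (AddCommGrpCat.of (ULift.{u + 1} (ZMod N)) : Type (u + 1)), N • x = 0 := by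
    rintro ⟨x⟩
    apply ULift.ext
    change N • x = 0
    rw [nsmul_eq_mul, ZMod.natCast_self, zero_mul]
  constructor
  · obtain ⟨e1⟩ := Groth.Agent.Vancyc.H686.QuadMain.H_quad (Ω := Ω) a ha b hb0' hN' _ hM (2 * m + 1)
    obtain ⟨-, ⟨e2⟩, -⟩ := Groth.Agent.Vancyc.H263.PunctStd.punct_std
      (Groth.Agent.Sga4B.PurityMainB.stmtLine N) hNΩ (m + 1) (Nat.succ_pos m)
    have h3 : 2 * (m + 1) - 1 = 2 * m + 1 := by omega
    rw [h3] at e2
    exact ⟨e1.trans e2⟩
  · exact Groth.Agent.Vancyc.H686.QuadMain.galH_quad a ha b hb0' hN' σ _ hM (2 * m + 1)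

end Groth.Agent.S4004
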