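import Groth.Statements.S4010
-- import your own Groth.Agent.* helpers here
import Groth.Agent.Vancyc.H692.PunctConst
import Groth.Agent.Vancyc.H687.Cone

set_option autoImplicit false
universe u
open CategoryTheory CategoryTheory.Limits AlgebraicGeometry
open VanCyc

namespace Groth.Agent.S4010

/-- Let k be an algebraically closed field, I a homogeneous prime ideal of k[x_0, …, x_r] (spanned by
homogeneous polynomials of positive degree), X = Spec k[x_0, …, x_r]/I the affine cone with vertex 0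
(the k-point ε killing the x_i), X_(0) = Spec of a henselisation of the local ring of X at 0,
mapping to X, U = X - {0} and U_(0) its inverse image in X_(0) (the punctured henselisation). Then
for N nonzero in k and every i the pull-back map H^i(U, Z/N) -> H^i(U_(0), Z/N) is bijective. -/
theorem result (k : Type u) [Field k] [IsAlgClosed k] (r : ℕ)
    (I : Ideal (MvPolynomial (Fin (r + 1)) k)) (hI : I.IsPrime)
    (hIh : ∃ T : Set (MvPolynomial (Fin (r + 1)) k), I = Ideal.span T ∧
      ∀ p ∈ T, ∃ d : ℕ, 1 ≤ d ∧ MvPolynomial.IsHomogeneous p d)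
    (ε : (MvPolynomial (Fin (r + 1)) k ⧸ I) →ₐ[k] k) (hε : ∀ i, ε (Ideal.Quotient.mk I (MvPolynomial.X i)) = 0)
    (U : (Spec (CommRingCat.of (MvPolynomial (Fin (r + 1)) k ⧸ I))).Opens)
    (hU : (U : Set ↥(Spec (CommRingCat.of (MvPolynomial (Fin (r + 1)) k ⧸ I)))) =
      {(Spec.map (CommRingCat.ofHom ε.toRingHom)).base (IsLocalRing.closedPoint k)}ᶜ)
    (Oh : Type u) [CommRing Oh] [IsLocalRing Oh]
    [Algebra ((Spec (CommRingCat.of (MvPolynomial (Fin (r + 1)) k ⧸ I))).presheaf.stalk
      ((Spec.map (CommRingCat.ofHom ε.toRingHom)).base (IsLocalRing.closedPoint k))) Oh]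
    [IsLocalHom (algebraMap ((Spec (CommRingCat.of (MvPolynomial (Fin (r + 1)) k ⧸ I))).presheaf.stalk
      ((Spec.map (CommRingCat.ofHom ε.toRingHom)).base (IsLocalRing.closedPoint k))) Oh)]
    [Hensel.IsHenselization ((Spec (CommRingCat.of (MvPolynomial (Fin (r + 1)) k ⧸ I))).presheaf.stalk
      ((Spec.map (CommRingCat.ofHom ε.toRingHom)).base (IsLocalRing.closedPoint k))) Oh]
    (N : ℕ) (hN : (N : k) ≠ 0)
    [PreservesFiniteLimits (EtCoh.pull ((Spec.map (CommRingCat.ofHom (algebraMap ((Spec (CommRingCat.of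
      (MvPolynomial (Fin (r + 1)) k ⧸ I))).presheaf.stalk ((Spec.map (CommRingCat.ofHom ε.toRingHom)).base
      (IsLocalRing.closedPoint k))) Oh)) ≫ (Spec (CommRingCat.of (MvPolynomial (Fin (r + 1)) k ⧸ I))).fromSpecStalk
      ((Spec.map (CommRingCat.ofHom ε.toRingHom)).base (IsLocalRing.closedPoint k))) ∣_ U))] (i : ℕ) :
    Function.Bijective (EtCore.Hpull ((Spec.map (CommRingCat.ofHom (algebraMap ((Spec (CommRingCat.of
      (MvPolynomial (Fin (r + 1)) k ⧸ I))).presheaf.stalk ((Spec.map (CommRingCat.ofHom ε.toRingHom)).base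
      (IsLocalRing.closedPoint k))) Oh)) ≫ (Spec (CommRingCat.of (MvPolynomial (Fin (r + 1)) k ⧸ I))).fromSpecStalk
      ((Spec.map (CommRingCat.ofHom ε.toRingHom)).base (IsLocalRing.closedPoint k))) ∣_ U)
      (EtCoh.const (↑U) (ZMod N)) i) := by
  obtain ⟨T, hT, hTd⟩ := hIh
  have hI' : ∃ T : Set (MvPolynomial (Fin (r + 1)) k), I = Ideal.span T ∧
      ∀ p ∈ T, ∃ d : ℕ, MvPolynomial.IsHomogeneous p d :=
    ⟨T, hT, fun p hp => (hTd p hp).imp fun d h => h.2⟩
  have hfl : PreservesFiniteLimits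
      (EtCoh.pull (Spec.map (CommRingCat.ofHom ε.toRingHom))) := Groth.Agent.S0101.result _
  have hcl : IsClosedImmersion (Spec.map (CommRingCat.ofHom ε.toRingHom)) :=
    IsClosedImmersion.spec_of_surjective _ fun y => ⟨algebraMap k _ y, ε.commutes y⟩
  have hqc : QuasiCompact U.ι := inferInstance
  exact Groth.Agent.Vancyc.H692.PunctConst.bijective_Hpull
    (Spec.map (CommRingCat.ofHom ε.toRingHom)) _ rfl Oh (ZMod N)
    (fun n => Groth.Agent.Vancyc.H687.Cone.bijective_hp_vertex I hI' ε hε hN n) U hU i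

end Groth.Agent.S4010
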