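import Groth.Statements.S4015
import Groth.Agent.Vancyc.H588.Asm
import Groth.Agent.Vancyc.H697.AsmIn
import Groth.Agent.Vancyc.H566.GalDatum
import Groth.Agent.Vancyc.H543.FamE1
import Groth.Agent.S3994
import Groth.Agent.S3995
import Groth.Agent.S4175

set_option autoImplicit false
universe u
open CategoryTheory CategoryTheory.Limits AlgebraicGeometry
open VanCyc

namespace Groth.Agent.S4015

/-- Let k be an algebraically closed field of characteristic 0, ℓ a prime, S smooth of relative
dimension 1 over k, X smooth of relative dimension n + 1 over k, f : X -> S a k-morphism and x₀ a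
closed point of X which is an isolated non-smooth point of f (f is smooth on an open U of X, and
some neighbourhood of x₀ is contained in U together with x₀). Let R be a strict henselisation of the
local ring of S at s = f(x₀) (a strictly henselian discrete valuation ring), K its fraction field, Ω
a separable closure of K, X_R = X ×_S Spec R -> Spec R the base change, and ξ a geometric point of
its special fibre mapping to x₀. Then μ(X/S, x₀) (the Milnor number) equals (-1)^n (Σ_{i=0}^{2n}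
(-1)^i dim_{Z/ℓ} (i^* R^i jbar_* jbar^* Z/ℓ)_ξ - 1), i.e. (-1)^n times the alternating sum of the
dimensions of the stalks at ξ of the vanishing cycles of Z/ℓ (in degree 0 the vanishing cycles are
the cokernel of Z/ℓ -> nearby cycles, whence the -1). In characteristic 0 there is no wild
ramification, so this alternating sum is the total number of vanishing cycles. -/
theorem result (k : Type u) [Field k] [IsAlgClosed k] [CharZero k]
    (ℓ : ℕ) (hℓ : ℓ.Prime) {S X : Scheme.{u}} (pS : S ⟶ Spec (CommRingCat.of k))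
    (pX : X ⟶ Spec (CommRingCat.of k)) [SmoothOfRelativeDimension 1 pS] (n : ℕ)
    [SmoothOfRelativeDimension (n + 1) pX] (f : X ⟶ S) (hf : f ≫ pS = pX)
    (x₀ : ↥X) (hx₀ : IsClosed ({x₀} : Set ↥X)) (U : X.Opens) (hU : Smooth (U.ι ≫ f))
    (hiso : ∃ V : X.Opens, x₀ ∈ V ∧ (V : Set ↥X) ⊆ insert x₀ (U : Set ↥X))
    (R K Ω : Type u) [CommRing R] [IsDomain R] [IsDiscreteValuationRing R]
    [Algebra (↑(S.presheaf.stalk (f.base x₀))) R] [IsLocalHom (algebraMap (↑(S.presheaf.stalk (f.base x₀))) R)]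
    [Hensel.IsStrictHenselization (↑(S.presheaf.stalk (f.base x₀))) R]
    [Field K] [Algebra R K] [IsFractionRing R K] [Field Ω] [Algebra K Ω] [IsSepClosure K Ω] [Algebra R Ω]
    [IsScalarTower R K Ω]
    {Ω' : Type u} [Field Ω'] [IsSepClosed Ω'] (ξ : Spec (CommRingCat.of Ω') ⟶ VanCyc.spFib R (pullback.snd f (Spec.map (CommRingCat.ofHom (algebraMap (↑(S.presheaf.stalk (f.base x₀))) R)) ≫ S.fromSpecStalk (f.base x₀))))
    (hξ : (ξ ≫ VanCyc.icl R (pullback.snd f (Spec.map (CommRingCat.ofHom (algebraMap (↑(S.presheaf.stalk (f.base x₀))) R)) ≫ S.fromSpecStalk (f.base x₀))) ≫ pullback.fst f (Spec.map (CommRingCat.ofHom (algebraMap (↑(S.presheaf.stalk (f.base x₀))) R)) ≫ S.fromSpecStalk (f.base x₀))).base (IsLocalRing.closedPoint Ω') = x₀) :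
    (VanCyc.milnor pX f x₀ : ℤ) =
      (-1) ^ n * ((∑ i ∈ Finset.range (2 * n + 1), (-1 : ℤ) ^ i *
        (Nat.log ℓ (Nat.card ((EtCoh.stalk ξ).obj (VanCyc.psi R Ω (pullback.snd f (Spec.map (CommRingCat.ofHom (algebraMap (↑(S.presheaf.stalk (f.base x₀))) R)) ≫ S.fromSpecStalk (f.base x₀))) i
          ((EtCoh.pull (VanCyc.jA R (pullback.snd f (Spec.map (CommRingCat.ofHom (algebraMap (↑(S.presheaf.stalk (f.base x₀))) R)) ≫ S.fromSpecStalk (f.base x₀))) Ω)).obj (EtCoh.const _ (ZMod ℓ)))))) : ℤ)) - 1) := by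
  have hT : Groth.Agent.Vancyc.H588.Gos.TameEC.{u} := @Groth.Agent.S4175.result.{u}
  have hG : Groth.Agent.Vancyc.H588.Gos.GalDatum.{u} := @Groth.Agent.Vancyc.H566.GalDatum.exists_galois_datum.{u}
  have hQ1 : Groth.Agent.Vancyc.H588.AsmMorse.QuadPos.{u} := @Groth.Agent.S3994.result.{u}
  have hQ0 : Groth.Agent.Vancyc.H588.AsmMorse.QuadZero.{u} := @Groth.Agent.S3995.result.{u}
  exact Groth.Agent.Vancyc.H588.Asm.main hT hG Groth.Agent.Vancyc.H697.AsmIn.e4
    Groth.Agent.Vancyc.H697.AsmIn.psiEt hQ1 hQ0 k ℓ hℓ n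
    (fun N hN => Groth.Agent.Vancyc.H543.FamE1.famE1 (Nat.cast_ne_zero.2 (by omega)) hN hℓ
      (Nat.cast_ne_zero.2 hℓ.ne_zero))
    pS pX f hf x₀ hx₀ U hU hiso R K Ω ξ hξ

end Groth.Agent.S4015
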