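import Groth.Statements.S4016
import Groth.Agent.Vancyc.H698.Main
-- import your own Groth.Agent.* helpers here

set_option autoImplicit false
universe u
open CategoryTheory CategoryTheory.Limits AlgebraicGeometry
attribute [local instance] HasDerivedCategory.standard
open VanCyc

namespace Groth.Agent.S4016

/-- Let S' -> S be a surjective morphism of strictly henselian traits: R -> R' an injective local
homomorphism of strictly henselian discrete valuation rings, with fraction fields K -> K' and
separable closures Ω -> Ω' chosen compatibly; let f : X -> S, X' = X ×_S S' with projections f' : X'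
-> S' and X' -> X, N invertible in R and F an abelian sheaf on X killed by N. The change-of-trait
map f^* RΨ(F) -> RΨ'(f^* F) is, up to the identification of the special fibres, the pull-back to
X'_{s'} of the base-change morphism (X' -> X)^* R jbar_* (jbar^* F) -> R jbar'_* ((X'_ηbar' ->
X_ηbar)^* jbar^* F) for the commutative square formed by the geometric generic fibres; taken on
unbounded derived categories of abelian sheaves (the adjunction datum adj between pull-back and
derived direct image along X' -> X is quantified over). Suppose S and S' have equal characteristic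
zero (the residue field of R has characteristic 0). Then this morphism is an isomorphism in
D(X'_{s'}). -/
theorem result (R K Ω : Type u) [CommRing R] [IsDomain R] [IsDiscreteValuationRing R]
    (hR : EtCoh.IsStrictlyHenselianLocalRing R) [Field K] [Algebra R K] [IsFractionRing R K] [Field Ω] [Algebra K Ω]
    [IsSepClosure K Ω] [Algebra R Ω] [IsScalarTower R K Ω]
    (R' : Type u) [CommRing R'] [IsDomain R'] [IsDiscreteValuationRing R'] (hR' : EtCoh.IsStrictlyHenselianLocalRing R')
    [Algebra R R'] [IsLocalHom (algebraMap R R')] (hinj : Function.Injective (algebraMap R R'))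
    [CharZero (IsLocalRing.ResidueField R)]
    (K' Ω' : Type u) [Field K'] [Algebra R' K'] [IsFractionRing R' K'] [Field Ω'] [Algebra K' Ω'] [IsSepClosure K' Ω']
    [Algebra R' Ω'] [IsScalarTower R' K' Ω'] [Algebra Ω Ω'] [Algebra R Ω'] [IsScalarTower R Ω Ω']
    [IsScalarTower R R' Ω']
    {X : Scheme.{u}} (f : X ⟶ Spec (CommRingCat.of R)) (N : ℕ) (hN : IsUnit (N : R))
    (F : EtCoh.Ab X) (hF : EtCoh.KilledBy N F)
    [PreservesFiniteLimits (EtCoh.pull (VanCyc.geomChange R' Ω Ω' f))]
    [PreservesFiniteLimits (EtCoh.pull (VanCyc.bcπ R' f))]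
    [PreservesFiniteLimits (EtCoh.pull (VanCyc.icl R' (VanCyc.bcf R' f)))]
    [DCoh.HasRpushEt (VanCyc.fib R f Ω) (VanCyc.jA R f Ω)]
    [DCoh.HasRpushEt (VanCyc.fib R' (VanCyc.bcf R' f) Ω') (VanCyc.jA R' (VanCyc.bcf R' f) Ω')]
    [DCoh.HasRpushEt (VanCyc.bcX R' f) (VanCyc.bcπ R' f)]
    (adj : EtBC.pullD (VanCyc.bcπ R' f) ⊣ DCoh.RpushEt (VanCyc.bcX R' f) (VanCyc.bcπ R' f)) :
    IsIso ((EtBC.pullD (VanCyc.icl R' (VanCyc.bcf R' f))).map
      (EtBC.bcMap (VanCyc.jA R f Ω) (VanCyc.bcπ R' f) (VanCyc.jA R' (VanCyc.bcf R' f) Ω') (VanCyc.geomChange R' Ω Ω' f)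
        (VanCyc.geomChange_jA R' Ω Ω' f) adj (EtBC.single (VanCyc.fib R f Ω) ((EtCoh.pull (VanCyc.jA R f Ω)).obj F)))) := by
  have hN0 : 0 < N := by
    refine Nat.pos_of_ne_zero ?_
    rintro rfl
    rw [Nat.cast_zero] at hN
    exact not_isUnit_zero hN
  exact Groth.Agent.Vancyc.H698.Main.main R K Ω hR R' hR' hinj K' Ω' f ((EtCoh.pull (VanCyc.jA R f Ω)).obj F)
    (Groth.Agent.Etrest.ConstBasic.isTorsion_of_killedBy hN0
      (Groth.Agent.Etcore.Torsion.killedBy_pull N (VanCyc.jA R f Ω) F hF)) adj

end Groth.Agent.S4016
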