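import Groth.Statements.S4017
import Groth.Agent.Vancyc.H699.BcMapUbc
import Groth.Agent.Vancyc.H699.UbcInd
import Groth.Agent.Vancyc.H699.SepPushout
import Groth.Agent.Vancyc.H699.TraitSquare
import Groth.Agent.S0595
import Groth.Agent.S0600

set_option autoImplicit false
universe u
open CategoryTheory CategoryTheory.Limits AlgebraicGeometry
attribute [local instance] HasDerivedCategory.standard
open VanCyc

namespace Groth.Agent.S4017

open Groth.Agent.Vancyc.H699

/-- The completion of an excellent discrete valuation ring is ind-smooth. -/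
theorem indSmooth_cpl (R : Type u) [CommRing R] [IsLocalRing R] (hRe : EGA4.IsExcellent R)
    [IsNoetherianRing (EGA4.Cpl R)] : Smoothing.IndSmooth R (EGA4.Cpl R) := by
  have h1 : IsNoetherianRing R := hRe.1
  have hreg : CAlg.IsRegularHom R (EGA4.Cpl R) :=
    Groth.Agent.S0600.result R hRe.2.2.1 (IsLocalRing.maximalIdeal R)
  intro A _ _ hA g
  exact Groth.Agent.S0595.result R (EGA4.Cpl R) hreg A g

/-- Let R be an excellent strictly henselian discrete valuation ring and R' its completion at the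
maximal ideal (again a strictly henselian discrete valuation ring; S' = Spec R' -> S = Spec R), with
fraction fields K -> K' and separable closures Ω -> Ω' chosen compatibly; let f : X -> S, X' = X ×_S
S' with projections f' : X' -> S' and X' -> X, N invertible in R and F an abelian sheaf on X killed
by N. The change-of-trait map f^* RΨ(F) -> RΨ'(f^* F) is, up to the identification of the special
fibres, the pull-back to X'_{s'} of the base-change morphism (X' -> X)^* R jbar_* (jbar^* F) -> R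
jbar'_* ((X'_ηbar' -> X_ηbar)^* jbar^* F) for the commutative square formed by the geometric generic
fibres; taken on unbounded derived categories of abelian sheaves (the adjunction datum adj between
pull-back and derived direct image along X' -> X is quantified over). Then this morphism is an
isomorphism in D(X'_{s'}). -/
theorem result (R K Ω : Type u) [CommRing R] [IsDomain R] [IsDiscreteValuationRing R]
    (hR : EtCoh.IsStrictlyHenselianLocalRing R) [Field K] [Algebra R K] [IsFractionRing R K] [Field Ω] [Algebra K Ω]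
    [IsSepClosure K Ω] [Algebra R Ω] [IsScalarTower R K Ω] (hRe : EGA4.IsExcellent R)
    [IsDomain (EGA4.Cpl R)] [IsDiscreteValuationRing (EGA4.Cpl R)]
    (hR' : EtCoh.IsStrictlyHenselianLocalRing (EGA4.Cpl R))
    (K' Ω' : Type u) [Field K'] [Algebra (EGA4.Cpl R) K'] [IsFractionRing (EGA4.Cpl R) K'] [Field Ω'] [Algebra K' Ω'] [IsSepClosure K' Ω']
    [Algebra (EGA4.Cpl R) Ω'] [IsScalarTower (EGA4.Cpl R) K' Ω'] [Algebra Ω Ω'] [Algebra R Ω'] [IsScalarTower R Ω Ω']
    [IsScalarTower R (EGA4.Cpl R) Ω']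
    {X : Scheme.{u}} (f : X ⟶ Spec (CommRingCat.of R)) (N : ℕ) (hN : IsUnit (N : R))
    (F : EtCoh.Ab X) (hF : EtCoh.KilledBy N F)
    [PreservesFiniteLimits (EtCoh.pull (VanCyc.geomChange (EGA4.Cpl R) Ω Ω' f))]
    [PreservesFiniteLimits (EtCoh.pull (VanCyc.bcπ (EGA4.Cpl R) f))]
    [PreservesFiniteLimits (EtCoh.pull (VanCyc.icl (EGA4.Cpl R) (VanCyc.bcf (EGA4.Cpl R) f)))]
    [DCoh.HasRpushEt (VanCyc.fib R f Ω) (VanCyc.jA R f Ω)]
    [DCoh.HasRpushEt (VanCyc.fib (EGA4.Cpl R) (VanCyc.bcf (EGA4.Cpl R) f) Ω') (VanCyc.jA (EGA4.Cpl R) (VanCyc.bcf (EGA4.Cpl R) f) Ω')]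
    [DCoh.HasRpushEt (VanCyc.bcX (EGA4.Cpl R) f) (VanCyc.bcπ (EGA4.Cpl R) f)]
    (adj : EtBC.pullD (VanCyc.bcπ (EGA4.Cpl R) f) ⊣ DCoh.RpushEt (VanCyc.bcX (EGA4.Cpl R) f) (VanCyc.bcπ (EGA4.Cpl R) f)) :
    IsIso ((EtBC.pullD (VanCyc.icl (EGA4.Cpl R) (VanCyc.bcf (EGA4.Cpl R) f))).map
      (EtBC.bcMap (VanCyc.jA R f Ω) (VanCyc.bcπ (EGA4.Cpl R) f) (VanCyc.jA (EGA4.Cpl R) (VanCyc.bcf (EGA4.Cpl R) f) Ω') (VanCyc.geomChange (EGA4.Cpl R) Ω Ω' f)
        (VanCyc.geomChange_jA (EGA4.Cpl R) Ω Ω' f) adj (EtBC.single (VanCyc.fib R f Ω) ((EtCoh.pull (VanCyc.jA R f Ω)).obj F)))) := by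
  obtain ⟨hRh, -⟩ := hR
  have hN0 : 0 < N := by
    rcases Nat.eq_zero_or_pos N with h | h
    · rw [h, Nat.cast_zero, isUnit_zero_iff] at hN
      exact absurd hN zero_ne_one
    · exact h
  have hNS : IsUnit (N : Γ(Spec (CommRingCat.of R), ⊤)) := by
    have h := hN.map (Scheme.ΓSpecIso (CommRingCat.of R)).inv.hom
    rwa [map_natCast] at h
  have hpo : Algebra.IsPushout R (EGA4.Cpl R) Ω Ω' :=
    SepPushout.isPushout_completion R K Ω K' Ω'
  have sq := TraitSquare.isPullback_geomChange (EGA4.Cpl R) Ω Ω' f hpo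
  have hubc : Groth.Agent.EtpbcB.BCU.UBC (Spec (CommRingCat.of R)) (toS R (EGA4.Cpl R)) :=
    UbcInd.ubc_of_indSmooth (indSmooth_cpl R hRe) (𝟙 _)
  have hbc : Groth.Agent.EtpbcB.BCU.BCMor (Spec (CommRingCat.of R)) (bcπ (EGA4.Cpl R) f) :=
    hubc f (bcf (EGA4.Cpl R) f) (bcπ (EGA4.Cpl R) f) (IsPullback.of_hasPullback f _).flip
  have key := BcMapUbc.isIso_bcMap_single (jA R f Ω) (bcπ (EGA4.Cpl R) f)
    (jA (EGA4.Cpl R) (bcf (EGA4.Cpl R) f) Ω') (geomChange (EGA4.Cpl R) Ω Ω' f) sq hbc hN0 hNS adj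
    ((EtCoh.pull (jA R f Ω)).obj F) (Groth.Agent.EtpbcB.NKillEt.killedBy_pull (jA R f Ω) hF)
  exact Functor.map_isIso _ _

end Groth.Agent.S4017
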