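import Groth.Statements.S4027
import Mathlib.RingTheory.Polynomial.GaussLemma
import Mathlib.RingTheory.Polynomial.UniqueFactorization
import Mathlib.RingTheory.UniqueFactorizationDomain.GCDMonoid
import Mathlib.RingTheory.Polynomial.RationalRoot

set_option autoImplicit false
universe u
open LefPen

namespace Groth.Agent.S4027

open Polynomial in
/-- The substitution `X_j ↦ X_j T`, on the coefficient ring. -/
noncomputable def phi (k : Type u) [Field k] (r : ℕ) :
    MvPolynomial (Fin r) k →+* (MvPolynomial (Fin r) k)[X] :=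
  MvPolynomial.eval₂Hom (Polynomial.C.comp MvPolynomial.C)
    (fun j => Polynomial.C (MvPolynomial.X j) * Polynomial.X)

open Polynomial in
/-- The substitution `X_j ↦ X_j T`, `T ↦ T`. -/
noncomputable def theta (k : Type u) [Field k] (r : ℕ) :
    (MvPolynomial (Fin r) k)[X] →+* (MvPolynomial (Fin r) k)[X] :=
  Polynomial.eval₂RingHom (phi k r) Polynomial.X

open Polynomial in
/-- The inverse substitution with values in the fraction field. -/
noncomputable def rho (k : Type u) [Field k] (r : ℕ) :
    (MvPolynomial (Fin r) k)[X] →+* FractionRing (MvPolynomial (Fin r) k)[X] :=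
  Polynomial.eval₂RingHom
    (MvPolynomial.eval₂Hom
      ((algebraMap (MvPolynomial (Fin r) k)[X] (FractionRing (MvPolynomial (Fin r) k)[X])).comp
        (Polynomial.C.comp MvPolynomial.C))
      (fun j => algebraMap (MvPolynomial (Fin r) k)[X] (FractionRing (MvPolynomial (Fin r) k)[X])
          (Polynomial.C (MvPolynomial.X j)) /
        algebraMap (MvPolynomial (Fin r) k)[X] (FractionRing (MvPolynomial (Fin r) k)[X])
          Polynomial.X))
    (algebraMap (MvPolynomial (Fin r) k)[X] (FractionRing (MvPolynomial (Fin r) k)[X])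
      Polynomial.X)

open Polynomial in
theorem rho_comp_theta (k : Type u) [Field k] (r : ℕ) :
    (rho k r).comp (theta k r) =
      algebraMap (MvPolynomial (Fin r) k)[X] (FractionRing (MvPolynomial (Fin r) k)[X]) := by
  have hX : algebraMap (MvPolynomial (Fin r) k)[X] (FractionRing (MvPolynomial (Fin r) k)[X])
          Polynomial.X ≠ 0 := by
    intro h
    exact Polynomial.X_ne_zero ((FaithfulSMul.algebraMap_injective (MvPolynomial (Fin r) k)[X]
      (FractionRing (MvPolynomial (Fin r) k)[X])) (by rw [h, map_zero]))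
  apply Polynomial.ringHom_ext'
  · apply MvPolynomial.ringHom_ext'
    · ext a
      simp [rho, theta, phi]
    · intro j
      simp [rho, theta, phi, hX]
  · simp [rho, theta]

theorem theta_injective (k : Type u) [Field k] (r : ℕ) : Function.Injective (theta k r) := by
  have h : Function.Injective ((rho k r).comp (theta k r)) := by
    rw [rho_comp_theta]
    exact FaithfulSMul.algebraMap_injective _ _
  exact Function.Injective.of_comp (f := rho k r) h

@[simp] theorem theta_X (k : Type u) [Field k] (r : ℕ) :
    theta k r Polynomial.X = Polynomial.X := by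
  simp [theta]

@[simp] theorem theta_C (k : Type u) [Field k] (r : ℕ) (F : MvPolynomial (Fin r) k) :
    theta k r (Polynomial.C F) = phi k r F := by
  simp [theta]

open Polynomial in
theorem exists_theta_eq (k : Type u) [Field k] (r : ℕ) (A : (MvPolynomial (Fin r) k)[X]) :
    ∃ (N : ℕ) (A' : (MvPolynomial (Fin r) k)[X]), theta k r A' = Polynomial.X ^ N * A := by
  induction A using Polynomial.induction_on' with
  | add p q hp hq =>
    obtain ⟨N, p', hp'⟩ := hp
    obtain ⟨M, q', hq'⟩ := hq
    refine ⟨N + M, Polynomial.X ^ M * p' + Polynomial.X ^ N * q', ?_⟩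
    rw [map_add, map_mul, map_mul, hp', hq', map_pow, map_pow, theta_X]
    ring
  | monomial n a =>
    suffices h : ∃ (N : ℕ) (A' : (MvPolynomial (Fin r) k)[X]),
        theta k r A' = Polynomial.X ^ N * Polynomial.C a by
      obtain ⟨N, A', h⟩ := h
      refine ⟨N, Polynomial.X ^ n * A', ?_⟩
      rw [map_mul, h, map_pow, theta_X, ← Polynomial.C_mul_X_pow_eq_monomial]
      ring
    induction a using MvPolynomial.induction_on with
    | C a =>
      refine ⟨0, Polynomial.C (MvPolynomial.C a), ?_⟩
      simp [phi]
    | add p q hp hq =>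
      obtain ⟨N, p', hp'⟩ := hp
      obtain ⟨M, q', hq'⟩ := hq
      refine ⟨N + M, Polynomial.X ^ M * p' + Polynomial.X ^ N * q', ?_⟩
      rw [map_add, map_mul, map_mul, hp', hq', map_pow, map_pow, theta_X, map_add]
      ring
    | mul_X p j hp =>
      obtain ⟨N, p', hp'⟩ := hp
      refine ⟨N + 1, p' * Polynomial.C (MvPolynomial.X j), ?_⟩
      rw [map_mul, hp', theta_C, map_mul]
      simp only [phi, MvPolynomial.coe_eval₂Hom, MvPolynomial.eval₂_X]
      ring

open Polynomial in
theorem prime_pow_dvd_unit {R : Type*} [CommRing R] [IsDomain R] {p b : R} (hp : Prime p) (N : ℕ)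
    (h : b ∣ p ^ N) (hb : ¬ p ∣ b) : IsUnit b := by
  obtain ⟨i, hi, hassoc⟩ := (dvd_prime_pow hp N).1 h
  rcases Nat.eq_zero_or_pos i with rfl | hpos
  · rw [pow_zero] at hassoc
    exact associated_one_iff_isUnit.1 hassoc
  · exact absurd ((dvd_pow_self p hpos.ne').trans hassoc.symm.dvd) hb

open Polynomial in
theorem irreducible_phi (k : Type u) [Field k] (r : ℕ) (F : MvPolynomial (Fin r) k)
    (hF : Irreducible F) (hG : ¬ (Polynomial.X ∣ phi k r F)) : Irreducible (phi k r F) := by
  have hFp : Prime F := hF.prime
  have hCF : Prime (Polynomial.C F) := Polynomial.prime_C_iff.2 hFp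
  have hF0 : phi k r F ≠ 0 := by
    intro h
    exact hG (h ▸ dvd_zero _)
  have key : ∀ A B : (MvPolynomial (Fin r) k)[X], phi k r F = A * B → ∀ A' N,
      theta k r A' = Polynomial.X ^ N * A → Polynomial.C F ∣ A' → IsUnit B := by
    intro A B hAB A' N hA' hdvd
    obtain ⟨E, rfl⟩ := hdvd
    rw [map_mul, theta_C] at hA'
    obtain ⟨D, hD⟩ : ∃ D, Polynomial.X ^ N * A = phi k r F * D := ⟨theta k r E, hA'.symm⟩
    have hA0 : A ≠ 0 := by
      rintro rfl
      exact hF0 (by rw [hAB, zero_mul])
    have h2 : Polynomial.X ^ N = B * D := by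
      apply mul_right_cancel₀ hA0
      rw [hD, hAB]; ring
    have hBX : B ∣ (Polynomial.X : (MvPolynomial (Fin r) k)[X]) ^ N := ⟨D, h2⟩
    have hXB : ¬ ((Polynomial.X : (MvPolynomial (Fin r) k)[X]) ∣ B) := by
      intro h
      apply hG
      rw [hAB]
      exact h.mul_left A
    exact prime_pow_dvd_unit (p := (Polynomial.X : (MvPolynomial (Fin r) k)[X]))
      Polynomial.prime_X N hBX hXB
  constructor
  · intro hu
    obtain ⟨H, hH⟩ := hu.exists_right_inv
    obtain ⟨N, H', hH'⟩ := exists_theta_eq k r H
    have h1 : theta k r (Polynomial.C F * H') = theta k r (Polynomial.X ^ N) := by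
      rw [map_mul, theta_C, hH', map_pow, theta_X, mul_left_comm, hH, mul_one]
    have h2 := theta_injective k r h1
    have h3 : Polynomial.C F ∣ Polynomial.X ^ N := ⟨H', h2.symm⟩
    have h4 : Polynomial.C F ∣ (Polynomial.X : (MvPolynomial (Fin r) k)[X]) := hCF.dvd_of_dvd_pow h3
    rw [Polynomial.C_dvd_iff_dvd_coeff] at h4
    have h5 := h4 1
    rw [Polynomial.coeff_X_one] at h5
    exact hFp.not_unit (isUnit_of_dvd_one h5)
  · intro A B hAB
    obtain ⟨N, A', hA'⟩ := exists_theta_eq k r A
    obtain ⟨M, B', hB'⟩ := exists_theta_eq k r B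
    have h1 : theta k r (A' * B') = theta k r (Polynomial.X ^ (N + M) * Polynomial.C F) := by
      rw [map_mul, hA', hB', map_mul, map_pow, theta_X, theta_C, hAB]
      ring
    have h2 := theta_injective k r h1
    have h3 : Polynomial.C F ∣ A' * B' := ⟨Polynomial.X ^ (N + M), by rw [h2]; ring⟩
    rcases hCF.dvd_or_dvd h3 with h | h
    · exact Or.inr (key A B hAB A' N hA' h)
    · exact Or.inl (key B A (by rw [hAB, mul_comm]) B' M hB' h)

open Polynomial in
theorem coeff_zero_phi (k : Type u) [Field k] (r : ℕ) (F : MvPolynomial (Fin r) k) :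
    (phi k r F).coeff 0 = MvPolynomial.C (MvPolynomial.eval (fun _ => (0 : k)) F) := by
  rw [Polynomial.coeff_zero_eq_eval_zero]
  have : (Polynomial.evalRingHom (0 : MvPolynomial (Fin r) k)).comp (phi k r) =
      (MvPolynomial.C).comp (MvPolynomial.eval (fun _ => (0 : k))) := by
    apply MvPolynomial.ringHom_ext'
    · ext a
      simp [phi]
    · intro j
      simp [phi]
  exact RingHom.congr_fun this F

/-- Let k be an algebraically closed field, r ≥ 2, and F ∈ k[X_1, …, X_r] an irreducible polynomial with
F(0) ≠ 0 (in the source the origin is the base point of the lines considered and lies off the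
hypersurface F = 0; without this the claim fails, e.g. for X_1 - X_2^2). Then the polynomial G(T) =
F(X_1 T, …, X_r T), with coefficients in the field of rational functions k(X_1, …, X_r), is
irreducible. -/
theorem result (k : Type u) [Field k] [IsAlgClosed k] (r : ℕ) (hr : 2 ≤ r)
    (F : MvPolynomial (Fin r) k) (hF : Irreducible F) (hF0 : MvPolynomial.eval (fun _ => (0 : k)) F ≠ 0) :
    Irreducible ((MvPolynomial.eval₂ (Polynomial.C.comp MvPolynomial.C)
        (fun j => Polynomial.C (MvPolynomial.X j) * Polynomial.X) F).map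
      (algebraMap (MvPolynomial (Fin r) k) (FractionRing (MvPolynomial (Fin r) k)))) := by
  change Irreducible ((phi k r F).map _)
  have hunit : IsUnit ((phi k r F).coeff 0) := by
    rw [coeff_zero_phi]
    exact (isUnit_iff_ne_zero.2 hF0).map MvPolynomial.C
  have hprim : (phi k r F).IsPrimitive := by
    intro c hc
    rw [Polynomial.C_dvd_iff_dvd_coeff] at hc
    exact isUnit_of_dvd_unit (hc 0) hunit
  have hX : ¬ (Polynomial.X ∣ phi k r F) := by
    intro h
    rw [Polynomial.X_dvd_iff] at h
    rw [h] at hunit
    exact not_isUnit_zero hunit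
  exact (Polynomial.IsPrimitive.irreducible_iff_irreducible_map_fraction_map hprim).1
    (irreducible_phi k r F hF hX)

end Groth.Agent.S4027
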