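import Groth.Statements.S4028
import Groth.Agent.Lefpen.H709.Main

set_option autoImplicit false
universe u
open CategoryTheory CategoryTheory.Limits AlgebraicGeometry
open LefMon

namespace Groth.Agent.S4028

/-- Let k be a separably closed field, m ≥ 1 invertible in k, X smooth over k of relative dimension n, Δ
⊆ X a closed subscheme (ideal sheaf 𝓘) smooth over k of relative dimension n - c - 1 (so everywhere
of codimension c + 1, with c + 1 ≤ n), and b : X' → X a blowing up of X in Δ. Then for every q the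
pullback b^* : H^q(X, Z/m) → H^q(X', Z/m) is injective, and its cokernel is isomorphic, as an
abelian group, to ⊕_{1 ≤ j ≤ c} H^{q-2j}(Δ, Z/m) (terms with 2j > q absent); in particular H^q(X',
Z/m) is additively isomorphic to H^q(X, Z/m) ⊕ ⊕_{1 ≤ j ≤ c} H^{q-2j}(Δ, Z/m). (The published
statement has ℓ-adic coefficients and Tate twists Z_ℓ(-j) on the summands, for X smooth over an
arbitrary field; over a separably closed field the twists are trivial. Exactness of b^{-1} on
sheaves is supplied as an instance hypothesis, as for EtCore.Hpull.) -/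
theorem result (k : Type u) [Field k] [IsSepClosed k] (m : ℕ) (hm0 : 0 < m)
    (hm : (m : k) ≠ 0) (n c : ℕ) (hc : c + 1 ≤ n) {X X' : Scheme.{u}} (f : X ⟶ Spec (CommRingCat.of k))
    [SmoothOfRelativeDimension n f] (𝓘 : X.IdealSheafData)
    [SmoothOfRelativeDimension (n - (c + 1)) (𝓘.subschemeι ≫ f)] (b : X' ⟶ X) (hb : BlowUp.IsBlowUp b 𝓘)
    [hb' : PreservesFiniteLimits (EtCoh.pull b)] (q : ℕ) :
    Function.Injective (((EtCoh.HF X' q).map (EtCore.pullConst b (ZMod m)).hom).hom.comp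
        (EtCore.Hpull b (EtCoh.const X (ZMod m)) q)) ∧
    Nonempty (EtCoh.H X' (EtCoh.const X' (ZMod m)) q ⧸
        (((EtCoh.HF X' q).map (EtCore.pullConst b (ZMod m)).hom).hom.comp
          (EtCore.Hpull b (EtCoh.const X (ZMod m)) q)).range ≃+
      (∀ j : {j : Fin c // 2 * (j.1 + 1) ≤ q},
        EtCoh.H 𝓘.subscheme (EtCoh.const 𝓘.subscheme (ZMod m)) (q - 2 * (j.1.1 + 1)))) ∧
    Nonempty (EtCoh.H X' (EtCoh.const X' (ZMod m)) q ≃+
      EtCoh.H X (EtCoh.const X (ZMod m)) q ×
        (∀ j : {j : Fin c // 2 * (j.1 + 1) ≤ q},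
          EtCoh.H 𝓘.subscheme (EtCoh.const 𝓘.subscheme (ZMod m)) (q - 2 * (j.1.1 + 1)))) := by
  obtain ⟨M, rfl⟩ : ∃ M, n = M + (c + 1) := ⟨n - (c + 1), by omega⟩
  have hh : SmoothOfRelativeDimension M (𝓘.subschemeι ≫ f) := by
    have h1 : SmoothOfRelativeDimension (M + (c + 1) - (c + 1)) (𝓘.subschemeι ≫ f) := inferInstance
    rwa [Nat.add_sub_cancel] at h1
  obtain ⟨Ψ, hΨ⟩ := Groth.Agent.Lefpen.H709.Main.main k m hm0 hm M c f inferInstance 𝓘 hh b hb q
  exact Groth.Agent.Lefpen.H709.Final.of_psi_functor (EtCoh.HF X' q) (EtCore.pullConst b (ZMod m)) Ψ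
    (EtCore.Hpull b (EtCoh.const X (ZMod m)) q) hΨ

end Groth.Agent.S4028
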