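import Groth.Statements.S4029
import Groth.Agent.S4028
import Groth.Agent.S0101
import Groth.Agent.Lefpen.H710.Blow
import Groth.Agent.Lefpen.H710.Vanish
import Groth.Agent.Lefpen.H710.SepFin

set_option autoImplicit false
universe u
open CategoryTheory CategoryTheory.Limits AlgebraicGeometry
open LefMon

namespace Groth.Agent.S4029

/-- Let k be a separably closed field, ℓ a prime invertible in k, X quasi-compact and smooth over k of
relative dimension n, Δ a closed subscheme of X smooth over k of relative dimension n - c - 1 (with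
c + 1 ≤ n), and b : X' → X a blowing up of X in Δ. Then the rational ℓ-adic Betti numbers satisfy
b_q(X') = b_q(X) + Σ_{1 ≤ j ≤ c, 2j ≤ q} b_{q-2j}(Δ) for every q, and the Euler characteristics
(alternating sums in degrees ≤ 2n) satisfy χ(X') = χ(X) + c χ(Δ). (The published Betti-number
formula reads b_{q-j}, a slip for b_{q-2j}, the only form consistent with the Euler-characteristic
formula.) -/
theorem result (k : Type u) [Field k] [IsSepClosed k] (ℓ : ℕ) [Fact ℓ.Prime]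
    (hℓ : (ℓ : k) ≠ 0) (n c : ℕ) (hc : c + 1 ≤ n) {X X' : Scheme.{u}} (f : X ⟶ Spec (CommRingCat.of k))
    [SmoothOfRelativeDimension n f] [QuasiCompact f] (𝓘 : X.IdealSheafData)
    [SmoothOfRelativeDimension (n - (c + 1)) (𝓘.subschemeι ≫ f)] (b : X' ⟶ X) (hb : BlowUp.IsBlowUp b 𝓘) :
    (∀ q : ℕ, EtAdic.betti X' ℓ q = EtAdic.betti X ℓ q +
      ∑ j ∈ (Finset.range c).filter (fun j => 2 * (j + 1) ≤ q), EtAdic.betti 𝓘.subscheme ℓ (q - 2 * (j + 1))) ∧
    EtAdic.euler X' ℓ (2 * n) = EtAdic.euler X ℓ (2 * n) + (c : ℤ) * EtAdic.euler 𝓘.subscheme ℓ (2 * n) := by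
  have hsm : Smooth f := SmoothOfRelativeDimension.smooth n f
  have hN : IsLocallyNoetherian X := LocallyOfFiniteType.isLocallyNoetherian f
  have hcX : CompactSpace X := QuasiCompact.compactSpace_of_compactSpace f
  have hℓν : ∀ ν : ℕ, ((ℓ ^ ν : ℕ) : k) ≠ 0 := fun ν => by
    rw [Nat.cast_pow]
    exact pow_ne_zero _ hℓ
  have hpos : ∀ ν : ℕ, 0 < ℓ ^ ν := fun ν => pow_pos (Nat.Prime.pos Fact.out) ν
  have hb' : PreservesFiniteLimits (EtCoh.pull b) := Groth.Agent.S0101.result b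
  have hD : ∀ ν q : ℕ, Nonempty (EtAdic.Hmod X' ℓ q ν ≃+ EtAdic.Hmod X ℓ q ν ×
      (∀ j : {j : Fin c // 2 * (j.1 + 1) ≤ q}, EtAdic.Hmod 𝓘.subscheme ℓ (q - 2 * (j.1.1 + 1)) ν)) :=
    fun ν q => (Groth.Agent.S4028.result k (ℓ ^ ν) (hpos ν) (hℓν ν) n c hc f 𝓘 b hb q).2.2
  have hfX : ∀ i, Finite (EtAdic.Hmod X ℓ i 1) := fun i =>
    Groth.Agent.Lefpen.H710.SepFin.finite_H k f (ℓ ^ 1) (hℓν 1) i
  have hfZ : ∀ i, Finite (EtAdic.Hmod 𝓘.subscheme ℓ i 1) := fun i =>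
    Groth.Agent.Lefpen.H710.SepFin.finite_H k (𝓘.subschemeι ≫ f) (ℓ ^ 1) (hℓν 1) i
  have hfX' : ∀ i, Finite (EtAdic.Hmod X' ℓ i 1) := fun i => by
    obtain ⟨e⟩ := hD 1 i
    exact Finite.of_equiv _ e.symm.toEquiv
  have hq : ∀ q : ℕ, EtAdic.betti X' ℓ q = EtAdic.betti X ℓ q +
      ∑ j ∈ (Finset.range c).filter (fun j => 2 * (j + 1) ≤ q),
        EtAdic.betti 𝓘.subscheme ℓ (q - 2 * (j + 1)) := fun q =>
    Groth.Agent.Lefpen.H710.Blow.betti_eq ℓ c q hfX' hfX hfZ fun ν => by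
      obtain ⟨e⟩ := hD ν q
      exact Groth.Agent.Lefpen.H710.Blow.card_decomp e.toEquiv
  exact ⟨hq, Groth.Agent.Lefpen.H710.Grows.euler_sum c n hc _ _ _ hq fun p hp =>
    Groth.Agent.Lefpen.H710.Growth.betti_eq_zero 𝓘.subscheme ℓ hfZ p
      (Groth.Agent.Lefpen.H710.Vanish.subsingleton_H k (n - (c + 1)) (𝓘.subschemeι ≫ f) (ℓ ^ 1)
        (hpos 1) p hp)⟩

end Groth.Agent.S4029
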