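import Groth.Statements.S4036
import Groth.Agent.Lefpen.H717.TowFin
import Groth.Agent.Lefpen.H717.Translate
import Groth.Agent.Lefpen.H716.CIEven

set_option autoImplicit false
universe u
open CategoryTheory CategoryTheory.Limits AlgebraicGeometry
open LefPen

namespace Groth.Agent.S4036

/-- Over a field (base S = Spec k) and with finite coefficients: let k be an algebraically closed field,
Y ⊆ P^{n+d}_k the common zero scheme of d ≥ 1 forms G_1, …, G_d of degrees a_1, …, a_d ≥ 1, assumed
smooth over k of relative dimension n (so Y is a smooth complete intersection of dimension n), and m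
≥ 1 an integer invertible in k; let ι : Y → P = P^{n+d}_k be the inclusion and r : H^{2j}(P_et, Z/m)
→ H^{2j}(Y_et, Z/m) the restriction (exactness of ι^{-1} supplied as an instance hypothesis). Then
for 2j ≤ 2n with 2j ≠ n: H^{2j}(Y, Z/m) is isomorphic to Z/m; for 2j < n the restriction r is
bijective; and for n < 2j ≤ 2n the image of r is exactly (a_1 ⋯ a_d) · H^{2j}(Y, Z/m). (The
published statement works over a general base S with ℓ-adic coefficients: R^{2j} f_* Z_ℓ(j) ≅ Z_ℓ
with basis η^j for 2j < n and with basis η^j / (a_1 ⋯ a_d) for n < 2j ≤ 2n, all R^q f_* Z_ℓ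
torsion-free; η^j generates H^{2j}(P).) -/
theorem result (k : Type u) [Field k] [IsAlgClosed k] (n d : ℕ) (hd : 1 ≤ d) (a : Fin d → ℕ) (ha : ∀ j, 1 ≤ a j)
    (G : ∀ j : Fin d, LefPen.Form (n + d) k (a j))
    [SmoothOfRelativeDimension n ((LefPen.ciIdeal G).subschemeι ≫ CohB1.ProjSpace.toSpec (n + d) k)]
    (m : ℕ) (hm0 : 0 < m) (hm : (m : k) ≠ 0)
    [hι : PreservesFiniteLimits (EtCoh.pull (LefPen.ciIdeal G).subschemeι)]
    (j : ℕ) (hj : 2 * j ≤ 2 * n) (hjn : 2 * j ≠ n) :
    Nonempty (EtCoh.H (LefPen.ciIdeal G).subscheme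
      (EtCoh.const (LefPen.ciIdeal G).subscheme (ZMod m)) (2 * j) ≃+ ZMod m) ∧
    (2 * j < n → Function.Bijective
      (((EtCoh.HF (LefPen.ciIdeal G).subscheme (2 * j)).map
          (EtCore.pullConst (LefPen.ciIdeal G).subschemeι (ZMod m)).hom).hom.comp
        (EtCore.Hpull (LefPen.ciIdeal G).subschemeι (EtCoh.const (CohB1.ProjSpace (n + d) k) (ZMod m)) (2 * j)))) ∧
    (n < 2 * j → ∀ y : EtCoh.H (LefPen.ciIdeal G).subscheme (EtCoh.const (LefPen.ciIdeal G).subscheme (ZMod m)) (2 * j),
      y ∈ (((EtCoh.HF (LefPen.ciIdeal G).subscheme (2 * j)).map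
          (EtCore.pullConst (LefPen.ciIdeal G).subschemeι (ZMod m)).hom).hom.comp
        (EtCore.Hpull (LefPen.ciIdeal G).subschemeι (EtCoh.const (CohB1.ProjSpace (n + d) k) (ZMod m)) (2 * j))).range ↔
      ∃ z, y = (∏ l, a l) • z) := by
  refine ⟨Groth.Agent.Lefpen.H716.CIEven.nonempty_H_even_ci k n d a ha G m hm j hj hjn, fun h => ?_, fun h y => ?_⟩
  · exact Groth.Agent.Lefpen.H716.CIEven.bijective_restr_ci k n d a ha G m hm (2 * j) h
  · exact Groth.Agent.Lefpen.H717.Translate.mem_range_iff (LefPen.ciIdeal G).subschemeι m (2 * j) (∏ l, a l)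
      (fun y => Groth.Agent.Lefpen.H717.TowFin.range_restr k n d hd a ha G m hm0 hm j hj h y) y

end Groth.Agent.S4036
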