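import Groth.Statements.S4038
import Groth.Agent.Lefpen.H719.SplitZero
import Groth.Agent.Lefpen.H170.QuadNF

set_option autoImplicit false
universe u
open CategoryTheory CategoryTheory.Limits AlgebraicGeometry
open LefPen

namespace Groth.Agent.S4038

/-- Over an algebraically closed field and with finite coefficients: let k be algebraically closed, n =
2j an even natural number, Q a quadratic form in n + 2 variables whose zero scheme X = V(Q) ⊆
P^{n+1}_k is smooth over k of relative dimension n (a smooth quadric of dimension n), and m ≥ 1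
invertible in k. Then H^n(X_et, Z/m) is isomorphic to Z/m ⊕ Z/m. (The source: the classes of the two
families of maximal linear subspaces give an isomorphism Z_ℓ^{Z(X)} ≅ R^n p_* Z_ℓ(n/2), together
with the intersection formulas (a)-(c); only the resulting group structure is stated, the twist
being trivial over k.) -/
theorem result (k : Type u) [Field k] [IsAlgClosed k] (j : ℕ)
    (Q : LefPen.Form (2 * j + 1) k 2)
    [SmoothOfRelativeDimension (2 * j) ((LefPen.hypIdeal Q).subschemeι ≫ CohB1.ProjSpace.toSpec (2 * j + 1) k)]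
    (m : ℕ) (hm0 : 0 < m) (hm : (m : k) ≠ 0) :
    Nonempty (EtCoh.H (LefPen.hypIdeal Q).subscheme (EtCoh.const (LefPen.hypIdeal Q).subscheme (ZMod m)) (2 * j) ≃+
      ZMod m × ZMod m) := by
  obtain ⟨e⟩ := Lefpen.H170.QuadNF.nonempty_iso_split k j Q
  obtain ⟨e1⟩ := Etrest.HConstIso.nonempty_HConst e.symm (ZMod m) (2 * j)
  rcases Nat.eq_zero_or_pos j with rfl | hj
  · obtain ⟨e2⟩ := Lefpen.H719.SplitZero.nonempty_zero k m
    exact ⟨e1.trans e2⟩
  · obtain ⟨e2⟩ := Lefpen.H719.SplitCoh.nonempty_pos k m hm j hj
    exact ⟨e1.trans e2⟩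

end Groth.Agent.S4038
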