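import Groth.Statements.S4039
import Groth.Agent.Lefpen.H720.NoSingQ
import Groth.Agent.Lefpen.H720.PtCount
import Mathlib.Algebra.Ring.GeomSum

set_option autoImplicit false
universe u
open CategoryTheory CategoryTheory.Limits AlgebraicGeometry
open LefPen

namespace Groth.Agent.S4039

open Groth.Agent.Lefpen.H720 in
/-- Let k be a finite field with q elements, n ≥ 0, and Q a quadratic form in n + 2 variables over k
whose zero scheme X = V(Q) ⊆ P^{n+1}_k is smooth over k of relative dimension n (a smooth quadric of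
dimension n over k). Then the number of k-rational points of X is Σ_{i=0}^{n} q^i if n is odd, and
Σ_{i=0}^{n} q^i + ε q^{n/2} with ε = 1 or ε = -1 if n is even, where ε = 1 exactly when X is split,
i.e. contains a k-rational linear subspace of dimension n/2 (Q vanishes on a subspace of k^{n+2} of
dimension n/2 + 1). -/
theorem result (k : Type u) [Field k] [Fintype k] (n : ℕ) (Q : LefPen.Form (n + 1) k 2)
    [SmoothOfRelativeDimension n ((LefPen.hypIdeal Q).subschemeι ≫ CohB1.ProjSpace.toSpec (n + 1) k)] :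
    (Odd n → (SgaExt.pointCount ((LefPen.hypIdeal Q).subschemeι ≫ CohB1.ProjSpace.toSpec (n + 1) k) k : ℤ) =
      ∑ i ∈ Finset.range (n + 1), (Fintype.card k : ℤ) ^ i) ∧
    (Even n → ∃ ε : ℤ, (ε = 1 ∨ ε = -1) ∧
      (SgaExt.pointCount ((LefPen.hypIdeal Q).subschemeι ≫ CohB1.ProjSpace.toSpec (n + 1) k) k : ℤ) =
        (∑ i ∈ Finset.range (n + 1), (Fintype.card k : ℤ) ^ i) + ε * (Fintype.card k : ℤ) ^ (n / 2) ∧
      (ε = 1 ↔ ∃ W : Submodule k (Fin (n + 1 + 1) → k), Module.finrank k ↥W = n / 2 + 1 ∧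
        ∀ w ∈ W, MvPolynomial.eval w Q.1 = 0)) := by
  classical
  obtain ⟨q, hq, hpol⟩ := QuadPoly.hasQF (show Q.1.IsHomogeneous 2 from Q.2)
  have hns := NoSingQ.noSing n Q q hq hpol
  have hdim : Module.finrank k (Fin (n + 1 + 1) → k) = n + 2 := by
    rw [Module.finrank_fin_fun]
  have hzero := PtCount.card_zeros Q two_ne_zero
  have hcongr : Nat.card {v : Fin (n + 1 + 1) → k // MvPolynomial.eval v Q.1 = 0} =
      Nat.card {v : Fin (n + 1 + 1) → k // q v = 0} := by
    simp only [hq]
  rw [hcongr, Nat.card_eq_fintype_card (α := k)] at hzero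
  rw [PtCount.pointCount_eq]
  have hpos : 1 < Fintype.card k := Fintype.one_lt_card
  have hz : (Nat.card {v : Fin (n + 1 + 1) → k // q v = 0} : ℤ) =
      (Nat.card (PtCount.XK Q) : ℤ) * ((Fintype.card k : ℤ) - 1) + 1 := by
    rw [hzero]
    push_cast [Nat.cast_sub hpos.le]
    ring
  have hne : ((Fintype.card k : ℤ) - 1) ≠ 0 := by
    have : (1 : ℤ) < Fintype.card k := by exact_mod_cast hpos
    omega
  have hgeom : (∑ i ∈ Finset.range (n + 1), (Fintype.card k : ℤ) ^ i) * ((Fintype.card k : ℤ) - 1) =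
      (Fintype.card k : ℤ) ^ (n + 1) - 1 := geom_sum_mul _ _
  refine ⟨?_, ?_⟩
  · rintro ⟨h, rfl⟩
    have h1 := QuadCount2.card_odd hns (h := h + 1) (by rw [hdim]; ring)
    apply mul_right_cancel₀ hne
    rw [hgeom]
    rw [h1] at hz
    push_cast at hz
    have h2 : 2 * (h + 1) = 2 * h + 1 + 1 := by ring
    rw [h2] at hz
    linear_combination -hz
  · rintro ⟨h, rfl⟩
    have hh : (h + h) / 2 = h := by omega
    rw [hh]
    have hV : Module.finrank k (Fin (h + h + 1 + 1) → k) = 2 * h + 2 := by rw [hdim]; ring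
    by_cases hex : ∃ W : Submodule k (Fin (h + h + 1 + 1) → k), Module.finrank k ↥W = h + 1 ∧
        ∀ w ∈ W, MvPolynomial.eval w Q.1 = 0
    · refine ⟨1, Or.inl rfl, ?_, by simpa using hex⟩
      obtain ⟨W, hW1, hW2⟩ := hex
      have h1 := QuadCount2.card_even_split hns hV ⟨W, hW1, fun w hw => (hq w).trans (hW2 w hw)⟩
      apply mul_right_cancel₀ hne
      rw [add_mul, hgeom]
      rw [h1] at hz
      have e4 : (Fintype.card k : ℤ) ^ (h + h + 1) = (Fintype.card k : ℤ) ^ (2 * h + 1) := by
        congr 1; ring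
      have e3 := pow_succ' (Fintype.card k : ℤ) h
      linear_combination -hz + e3 - e4
    · refine ⟨-1, Or.inr rfl, ?_, ⟨fun h => by norm_num at h, fun h => absurd h hex⟩⟩
      have h1 := QuadCount2.card_even_nonsplit hns hV (by
        rintro ⟨W, hW1, hW2⟩
        exact hex ⟨W, hW1, fun w hw => (hq w).symm.trans (hW2 w hw)⟩)
      apply mul_right_cancel₀ hne
      rw [add_mul, hgeom]
      rw [h1] at hz
      have e4 : (Fintype.card k : ℤ) ^ (h + h + 1) = (Fintype.card k : ℤ) ^ (2 * h + 1) := by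
        congr 1; ring
      have e3 := pow_succ' (Fintype.card k : ℤ) h
      linear_combination -hz - e3 - e4

end Groth.Agent.S4039
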