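import Groth.Statements.S4040
import Groth.Agent.Lefpen.H721.OmGlue
import Groth.Agent.Lefpen.H728.OHypCI

set_option autoImplicit false
universe u
open CategoryTheory CategoryTheory.Limits AlgebraicGeometry
open LefPen

namespace Groth.Agent.S4040

/-- Over a field (base Spec k): let k be a field and Y ⊆ P^{n+d}_k the common zero scheme of d ≥ 1 forms
of degrees a_j ≥ 1, smooth over k of relative dimension n (a smooth complete intersection of
dimension n); let Ω = Ω^1_{Y/k} (the conormal sheaf of the diagonal) and L an O_Y-module which is a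
j-th exterior power of Ω. Then H^i(Y, L) = 0 for all i, j with i ≠ j and i + j ≠ n. -/
theorem result (k : Type u) [Field k] (n d : ℕ) (hd : 1 ≤ d) (a : Fin d → ℕ) (ha : ∀ j, 1 ≤ a j)
    (G : ∀ j : Fin d, LefPen.Form (n + d) k (a j))
    [SmoothOfRelativeDimension n ((LefPen.ciIdeal G).subschemeι ≫ CohB1.ProjSpace.toSpec (n + d) k)]
    (j : ℕ) (L : (LefPen.ciIdeal G).subscheme.Modules) (hL : ExtPow.IsExtPow j (Omega.sheaf ((LefPen.ciIdeal G).subschemeι ≫ CohB1.ProjSpace.toSpec (n + d) k)) L)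
    (i : ℕ) (hij : i ≠ j) (hijn : i + j ≠ n) :
    Subsingleton (Coh.HH (LefPen.ciIdeal G).subscheme L i) := by
  let _ : (Groth.Agent.Lefpen.H718.Chart.Y G).Over (Spec (CommRingCat.of k)) :=
    ⟨Groth.Agent.Lefpen.H718.Chart.yStr G⟩
  obtain ⟨e⟩ := Groth.Agent.Lefpen.H721.OmGlue.nonempty_HH_Z ha G rfl hL i
  have := Groth.Agent.Lefpen.H721.OmGlue.subsingleton_of ha G
    (fun hn => Groth.Agent.Lefpen.H728.OHypCI.oHyp_ciG ha G hn) j i hij hijn
  exact e.symm.toEquiv.subsingleton

end Groth.Agent.S4040
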