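import Groth.Statements.S4042
import Groth.Agent.Lefpen.H416.P1Const
import Groth.Agent.Lefpen.H510.PencilAct
import Groth.Agent.Lefpen.H723.PencilSmooth
-- import your own Groth.Agent.* helpers here

set_option autoImplicit false
universe u
open CategoryTheory CategoryTheory.Limits AlgebraicGeometry
open LefMon

namespace Groth.Agent.S4042

/-- Second assertion, first clause (if the monodromy representation is non-trivial then the pencil meets
the dual variety), in contrapositive form: let k be an algebraically closed field and X an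
irreducible smooth proper k-scheme of dimension n ≥ 1 embedded in projective r-space by a closed
immersion i, with n even or the characteristic of k different from 2; let (F, G) be degree-d forms
(d ≥ 1) spanning a Lefschetz pencil for X, and let b : X' → X, ρ : X' → P^1_k be the total space of
the pencil (b a blowing up of X in the base locus, ρ the projection, whose fibre at t = c is the
member X ∩ V(F + cG)); let Ω be a separable closure of the function field k(t) of P^1, X'_Ω the
geometric generic fibre of ρ, on which Aut(Ω/k(t)) acts by base change, and ℓ a prime invertible in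
k. If every member of the pencil cuts X transversally, then every element of Aut(Ω/k(t)) acts as the
identity on H^{n-1}(X'_Ω, Q_ℓ) (moves each element of lim_ν H^{n-1}(X'_Ω, Z/ℓ^ν) by a torsion
element). -/
theorem result (k : Type u) [Field k] [IsAlgClosed k] (r n : ℕ) (hn : 1 ≤ n)
    {X : Scheme.{u}} (i : X ⟶ CohB1.ProjSpace r k) [IsClosedImmersion i] [IrreducibleSpace X]
    [SmoothOfRelativeDimension n (i ≫ CohB1.ProjSpace.toSpec r k)]
    (hpar : Even n ∨ ringChar k ≠ 2) (d : ℕ) (hd : 1 ≤ d) (F G : LefPen.Form r k d) (hL : LefPen.IsLefschetzPencil k n i d F G)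
    {X' : Scheme.{u}} (b : X' ⟶ X) (ρ : X' ⟶ CohB1.ProjSpace 1 k) (hρ : LefMon.IsPencilFibration i F G b ρ)
    (Ω : Type u) [Field Ω] [Algebra (RatFunc k) Ω] [IsSepClosure (RatFunc k) Ω]
    [hex : ∀ σ : Ω ≃ₐ[RatFunc k] Ω, PreservesFiniteLimits (EtCoh.pull (LefMon.galAct k ρ Ω σ))]
    (ℓ : ℕ) [Fact ℓ.Prime] (hℓ : (ℓ : k) ≠ 0)
    (hall : ∀ H ∈ LefPen.members k F G, LefPen.Transversal k n 1 (LefPen.secToSpec i ({H} : Set (LefPen.Form r k d)))) :
    ∀ σ : Ω ≃ₐ[RatFunc k] Ω,
      EtAdic.ActsTriviallyQ ℓ (fun ν => EtAdic.Hmap ℓ (LefMon.galAct k ρ Ω σ) (hex σ) (n - 1) ν) := by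
  intro σ x _
  refine ⟨1, one_pos, fun ν => ?_⟩
  have h1 : IsProper ρ := Groth.Agent.Lefpen.H723.PencilGeom.isProper_rho hρ
  have h2 : Smooth ρ := Groth.Agent.Lefpen.H723.PencilSmooth.smooth_rho (n := n) hL.2.1 hρ hall
  have h3 : ((ℓ ^ ν : ℕ) : k) ≠ 0 := by
    rw [Nat.cast_pow]
    exact pow_ne_zero ν hℓ
  obtain ⟨M, _, _, ⟨e⟩⟩ := Groth.Agent.Lefpen.H416.P1Const.nonempty_iso_const k 1 ρ (ℓ ^ ν) h3 (n - 1)
  have h4 := Groth.Agent.Lefpen.H510.PencilAct.Hmap_galAct ρ Ω ℓ (n - 1) ν
    (Groth.Agent.Lefpen.H510.TwoPoint.LocGlob.of_iso e.symm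
      (Groth.Agent.Lefpen.H510.TwoPoint.locGlob_const _)) σ (hex σ) (x ν)
  rw [h4, sub_self, smul_zero]

end Groth.Agent.S4042
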