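import Groth.Statements.S4045
import Groth.Agent.Lefpen.H726.Decomp

set_option autoImplicit false
universe u
open CategoryTheory CategoryTheory.Limits AlgebraicGeometry
open LefMon

namespace Groth.Agent.S4045

/-- For the trivial bundle and with finite coefficients: let k be a separably closed field, m ≥ 1
invertible in k, X a k-scheme and π : P^r_X → X the projection of projective r-space over X. Then
for every q the pullback π^* : H^q(X, Z/m) → H^q(P^r_X, Z/m) is injective and H^q(P^r_X, Z/m) is
additively isomorphic to ⊕_{0 ≤ j ≤ r, 2j ≤ q} H^{q-2j}(X, Z/m). (The source treats the projective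
bundle of any vector bundle on any scheme on which ℓ is invertible, with the summands twisted by
Z_ℓ(-j) and the map given by cup product with powers of the first Chern class of O(1); over a
separably closed field the twists are trivial. Exactness of π^{-1} is supplied as an instance
hypothesis.) -/
theorem result (k : Type u) [Field k] [IsSepClosed k] (m : ℕ) (hm0 : 0 < m)
    (hm : (m : k) ≠ 0) {X : Scheme.{u}} (f : X ⟶ Spec (CommRingCat.of k)) (r q : ℕ)
    [hπ : PreservesFiniteLimits (EtCoh.pull (CohB1.ProjSpaceOver.toBase r X))] :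
    Function.Injective (((EtCoh.HF (CohB1.ProjSpaceOver r X) q).map
        (EtCore.pullConst (CohB1.ProjSpaceOver.toBase r X) (ZMod m)).hom).hom.comp
      (EtCore.Hpull (CohB1.ProjSpaceOver.toBase r X) (EtCoh.const X (ZMod m)) q)) ∧
    Nonempty (EtCoh.H (CohB1.ProjSpaceOver r X) (EtCoh.const (CohB1.ProjSpaceOver r X) (ZMod m)) q ≃+
      (∀ j : {j : Fin (r + 1) // 2 * j.1 ≤ q}, EtCoh.H X (EtCoh.const X (ZMod m)) (q - 2 * j.1.1))) :=
  ⟨Groth.Agent.Lefpen.H726.Decomp.injective_Hmap r q (ZMod m) X,
    Groth.Agent.Lefpen.H726.Decomp.nonempty_H_proj k m hm f r q⟩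

end Groth.Agent.S4045
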