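import Groth.Statements.S4062
import Groth.Agent.Sga7.H743.Mono

set_option autoImplicit false
universe u
open CategoryTheory CategoryTheory.Limits AlgebraicGeometry MonObj
open SGA7

namespace Groth.Agent.S4062

open Filter Topology
open Groth.Agent.Sga7.H743 Groth.Agent.Sga7.H743.PadicUnip Groth.Agent.Sga7.H743.MatGrp
  Groth.Agent.Sga7.H743.Mono

/-- Let R be a henselian discrete valuation ring with fraction field K and residue field k, λ a prime
invertible in k, Ω a separable closure of K (Aut_K(Ω) carries the Krull topology), W a valuation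
subring of Ω lying over R, and ρ a continuous homomorphism from Aut_K(Ω) to GL_n(ℚ_λ). Assume that
no finite extension of k contains all roots of unity of λ-power order (for every finite extension k'
there is some λ^m such that k' has no primitive λ^m-th root of unity). Then there is an open
subgroup I₁ of Aut_K(Ω) such that ρ(σ) is unipotent for every σ in I₁ lying in the inertia group at
W. -/
theorem result (R K Ω : Type u) [CommRing R] [IsDomain R]
    [IsDiscreteValuationRing R] [HenselianLocalRing R] [Field K] [Algebra R K] [IsFractionRing R K]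
    [Field Ω] [Algebra K Ω] [IsSepClosure K Ω] (W : ValuationSubring Ω) (hW : SGA7.LiesOver K R W)
    (lam : ℕ) [Fact lam.Prime] (hlam : (lam : IsLocalRing.ResidueField R) ≠ 0)
    (hstar : ∀ (k' : Type u) [Field k'] [Algebra (IsLocalRing.ResidueField R) k'],
      FiniteDimensional (IsLocalRing.ResidueField R) k' → ∃ m : ℕ, ∀ ζ : k', ¬ IsPrimitiveRoot ζ (lam ^ m))
    (n : ℕ) (ρ : (Ω ≃ₐ[K] Ω) →* Matrix.GeneralLinearGroup (Fin n) (Padic lam)) (hρ : Continuous ρ) :
    ∃ I₁ : OpenSubgroup (Ω ≃ₐ[K] Ω), ∀ σ : Ω ≃ₐ[K] Ω, σ ∈ I₁ → SGA7.IsInertia W σ →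
      IsNilpotent ((ρ σ : Matrix (Fin n) (Fin n) (Padic lam)) - 1) := by
  have hp : Fact lam.Prime := inferInstance
  have hv : ∀ (g : Ω ≃ₐ[K] Ω) (x : Ω), W.valuation (g x) = W.valuation x := HensVal.val_map W hW
  have hpv : W.valuation (lam : Ω) = 1 := val_natCast_eq_one W hW lam hlam
  have hΩ : IsSepClosed Ω := IsSepClosure.sep_closed K
  have hne : NeZero (lam : Ω) := ⟨by
    rw [← Valuation.ne_zero_iff W.valuation, hpv]
    exact one_ne_zero⟩
  have hroots : ∀ i, HasEnoughRootsOfUnity Ω (lam ^ i) := fun i => inferInstance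
  have hp1 : (1 : ℝ) < lam := by exact_mod_cast hp.out.one_lt
  have hp0 : (0 : ℝ) < (lam : ℝ)⁻¹ := by positivity
  have hp1' : (lam : ℝ)⁻¹ < 1 := inv_lt_one_of_one_lt₀ hp1
  have hlt : (lam : ℝ)⁻¹ ^ 2 < (lam : ℝ)⁻¹ := by
    rw [pow_two]
    exact mul_lt_of_lt_one_left hp0 hp1'
  -- a small open subgroup
  have hn1 : ∀ᶠ g in 𝓝 (1 : Ω ≃ₐ[K] Ω), ∀ i j, ‖((ρ g : Matrix (Fin n) (Fin n) (Padic lam)) - 1) i j‖ <
      (lam : ℝ)⁻¹ ^ 2 := by
    rw [Filter.eventually_all]
    intro i
    rw [Filter.eventually_all]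
    intro j
    have hc : Continuous fun g : Ω ≃ₐ[K] Ω => ‖((ρ g : Matrix (Fin n) (Fin n) (Padic lam)) - 1) i j‖ := by
      have h2 : Continuous fun g : Ω ≃ₐ[K] Ω => (ρ g : Matrix (Fin n) (Fin n) (Padic lam)) :=
        Units.continuous_val.comp hρ
      exact ((h2.sub continuous_const).matrix_elem i j).norm
    refine hc.continuousAt.eventually_lt continuousAt_const ?_
    rw [map_one, Units.val_one, sub_self, Matrix.zero_apply, norm_zero]
    positivity
  have hn2 : ∀ᶠ g in 𝓝 (1 : Ω ≃ₐ[K] Ω), ‖(chi K Ω lam g : ℤ_[lam]) - 1‖ < (lam : ℝ)⁻¹ := by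
    have hc : Continuous fun g : Ω ≃ₐ[K] Ω => ‖(chi K Ω lam g : ℤ_[lam]) - 1‖ :=
      ((Units.continuous_val.comp (continuous_chi K Ω lam)).sub continuous_const).norm
    refine hc.continuousAt.eventually_lt continuousAt_const ?_
    rw [map_one, Units.val_one, sub_self, norm_zero]
    exact hp0
  obtain ⟨L, hLfin, hL⟩ := (krullTopology_mem_nhds_one_iff K Ω _).1 (hn1.and hn2)
  have hLo : IsOpen (L.fixingSubgroup : Set (Ω ≃ₐ[K] Ω)) := L.fixingSubgroup_isOpen
  have hG₁ : ∀ g ∈ L.fixingSubgroup, Nle ((lam : ℝ)⁻¹) ((ρ g : Matrix (Fin n) (Fin n) (Padic lam)) - 1) :=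
    fun g hg i j => ((hL hg).1 i j).le.trans hlt.le
  -- an element with nontrivial cyclotomic character
  obtain ⟨g₀, hg₀, hχ⟩ : ∃ g ∈ L.fixingSubgroup, chi K Ω lam g ≠ 1 := by
    by_contra hcon
    push Not at hcon
    obtain ⟨m, hm⟩ := exists_not_mem W hW lam hpv hstar L
    obtain ⟨ζ, hζ⟩ := HasEnoughRootsOfUnity.exists_primitiveRoot Ω (lam ^ m)
    apply hm ζ hζ
    have hfix : ζ ∈ IntermediateField.fixedField L.fixingSubgroup := by
      rw [IntermediateField.mem_fixedField_iff]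
      intro g hg
      exact chi_one_fix g hζ.pow_eq_one (hcon g hg)
    rwa [InfiniteGalois.fixedField_fixingSubgroup] at hfix
  set w : ℤ_[lam] := (chi K Ω lam g₀ : ℤ_[lam]) with hw
  have hw1 : ‖(w : ℚ_[lam]) - 1‖ < (lam : ℝ)⁻¹ := by
    have h1 := (hL hg₀).2
    rwa [PadicInt.norm_def, PadicInt.coe_sub, PadicInt.coe_one] at h1
  have hwne : (w : ℚ_[lam]) - 1 ≠ 0 := by
    intro h0
    apply hχ
    apply Units.ext
    rw [Units.val_one]
    have h1 : (w : ℚ_[lam]) = ((1 : ℤ_[lam]) : ℚ_[lam]) := by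
      rw [PadicInt.coe_one]
      exact sub_eq_zero.1 h0
    exact Subtype.val_injective h1
  have hinj : Function.Injective fun j : ℕ => w ^ j := by
    intro i j hij
    have h1 := norm_pow_sub_pow lam hw1 i j
    have h2 : (w : ℚ_[lam]) ^ i = (w : ℚ_[lam]) ^ j := by
      have h3 := congrArg (fun x : ℤ_[lam] => (x : ℚ_[lam])) hij
      simpa using h3
    rw [h2, sub_self, norm_zero] at h1
    have h3 := (mul_eq_zero.1 h1.symm).resolve_left (norm_ne_zero_iff.2 hwne)
    have h4 := sub_eq_zero.1 (norm_eq_zero.1 h3)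
    exact_mod_cast h4
  refine ⟨⟨L.fixingSubgroup, hLo⟩, fun σ hσ hσI => ?_⟩
  have hσ' : σ ∈ L.fixingSubgroup := hσ
  have hI : TameVal.Inert W.valuation σ := fun x hx => (hσI x ((W.valuation_le_one_iff x).1 hx)).2
  refine isNilpotent_sub_one_of_conj (ρ σ : Matrix (Fin n) (Fin n) (Padic lam)) ((lam : ℝ)⁻¹ ^ 2)
    (by positivity) hlt (fun i j => ((hL hσ').1 i j).le) w hinj (ρ g₀) fun j => ?_
  have h1 := tendsto_pow hv hpv ρ hρ L.fixingSubgroup hLo hG₁ (L.fixingSubgroup.pow_mem hg₀ j) hσ' hI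
  rw [map_pow, map_pow, Units.val_pow_eq_pow_val] at h1
  exact h1

end Groth.Agent.S4062
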