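import Groth.Statements.S4064
import Groth.Agent.Sga7.H745.ExtReal

set_option autoImplicit false
universe w v v'
open CategoryTheory CategoryTheory.Abelian
open SGA7

namespace Groth.Agent.S4064

/-- Let P -> F -> R and R -> E -> Q be short exact sequences in an abelian category (F an extension of R
by P, E an extension of Q by R). A blended extension of E by F is an object X with a monomorphism i
: F -> X and an epimorphism p : X -> E such that P -> X -> E (via i) and F -> X -> Q (via p) are
short exact and F -> X -> E is the composite F -> R -> E. Such an X exists if and only if the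
composite of the two extension classes, an element of Ext^2(Q, P), is zero. -/
theorem result {C : Type w} [Category.{v} C] [Abelian C]
    [HasExt.{v'} C] {P F R E Q : C} (a : P ⟶ F) (b : F ⟶ R) (wF : a ≫ b = 0)
    (hF : (ShortComplex.mk a b wF).ShortExact) (c : R ⟶ E) (d : E ⟶ Q) (wE : c ≫ d = 0)
    (hE : (ShortComplex.mk c d wE).ShortExact) :
    (∃ (X : C) (i : F ⟶ X) (p : X ⟶ E), i ≫ p = b ≫ c ∧
        (∃ w : (a ≫ i) ≫ p = 0, (ShortComplex.mk (a ≫ i) p w).ShortExact) ∧
        (∃ w : i ≫ (p ≫ d) = 0, (ShortComplex.mk i (p ≫ d) w).ShortExact)) ↔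
      hE.extClass.comp hF.extClass (rfl : 1 + 1 = 2) = 0 := by
  constructor
  · rintro ⟨X, i, p, hip, -, w, hX⟩
    have h1 := ShortComplex.ShortExact.extClass_naturality hX hE
      { τ₁ := b
        τ₂ := p
        τ₃ := 𝟙 Q
        comm₁₂ := hip.symm
        comm₂₃ := (Category.comp_id (p ≫ d)).symm }
    have h2 : hE.extClass = hX.extClass.comp (Ext.mk₀ b) (add_zero 1) :=
      (Ext.mk₀_id_comp _).symm.trans h1.symm
    rw [h2, Ext.comp_assoc_of_second_deg_zero]
    have h3 := hF.comp_extClass
    dsimp only at h3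
    rw [h3, Ext.comp_zero]
  · intro h
    obtain ⟨e, he⟩ := Ext.covariant_sequence_exact₃ Q hF hE.extClass (rfl : 1 + 1 = 2) h
    obtain ⟨X, i, q, w, hX, rfl⟩ := Groth.Agent.Sga7.H745.ExtReal.exists_extClass e
    obtain ⟨p, hp1, hp2⟩ :=
      Groth.Agent.Sga7.H745.ExtReal.exists_hom_of_extClass_comp hX hE b he
    subst hp2
    have hma : Mono a := hF.mono_f
    have heb : Epi b := hF.epi_g
    have hmc : Mono c := hE.mono_f
    have hed : Epi d := hE.epi_g
    have hmi : Mono i := hX.mono_f
    have heq : Epi (p ≫ d) := hX.epi_g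
    have w1 : (a ≫ i) ≫ p = 0 := by
      rw [Category.assoc, hp1, ← Category.assoc, wF, Limits.zero_comp]
    refine ⟨X, i, p, hp1, ⟨w1, ?_⟩, ⟨w, hX⟩⟩
    have hepi : Epi p := by
      apply Preadditive.epi_of_cancel_zero
      intro Z z hz
      have hcz : c ≫ z = 0 := by
        rw [← cancel_epi b, Limits.comp_zero, ← Category.assoc, ← hp1, Category.assoc, hz,
          Limits.comp_zero]
      have hk : Limits.IsColimit (Limits.CokernelCofork.ofπ d wE) := hE.gIsCokernel
      have hz' : d ≫ hk.desc (Limits.CokernelCofork.ofπ z hcz) = z :=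
        hk.fac (Limits.CokernelCofork.ofπ z hcz) Limits.WalkingParallelPair.one
      have : hk.desc (Limits.CokernelCofork.ofπ z hcz) = 0 := by
        rw [← cancel_epi (p ≫ d), Limits.comp_zero, Category.assoc, hz', hz]
      rw [← hz', this, Limits.comp_zero]
    refine ShortComplex.ShortExact.mk' ?_ (by dsimp; infer_instance) hepi
    apply ShortComplex.exact_of_f_is_kernel
    have hkX : Limits.IsLimit (Limits.KernelFork.ofι i w) := hX.fIsKernel
    have hkF : Limits.IsLimit (Limits.KernelFork.ofι a wF) := hF.fIsKernel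
    have h0 : ∀ {T : C} (t : T ⟶ X), t ≫ p = 0 → ∃ s : T ⟶ P, s ≫ (a ≫ i) = t := by
      intro T t ht
      have ht' : t ≫ (p ≫ d) = 0 := by rw [← Category.assoc, ht, Limits.zero_comp]
      let s := hkX.lift (Limits.KernelFork.ofι t ht')
      have hs : s ≫ i = t :=
        hkX.fac (Limits.KernelFork.ofι t ht') Limits.WalkingParallelPair.zero
      have hsb : s ≫ b = 0 := by
        rw [← cancel_mono c, Limits.zero_comp, Category.assoc, ← hp1, ← Category.assoc, hs, ht]
      let r := hkF.lift (Limits.KernelFork.ofι s hsb)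
      have hr : r ≫ a = s :=
        hkF.fac (Limits.KernelFork.ofι s hsb) Limits.WalkingParallelPair.zero
      exact ⟨r, by rw [← Category.assoc, hr, hs]⟩
    refine Limits.KernelFork.IsLimit.ofι _ _ (fun {T} t ht => (h0 t ht).choose)
      (fun {T} t ht => (h0 t ht).choose_spec) (fun {T} t ht m hm => ?_)
    have h4 := (h0 t ht).choose_spec
    have : Mono (a ≫ i) := inferInstance
    rw [← cancel_mono (a ≫ i)]
    exact hm.trans h4.symm

end Groth.Agent.S4064
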