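import Groth.Statements.S4065
-- import your own Groth.Agent.* helpers here

set_option autoImplicit false
universe w v
open CategoryTheory
open SGA7

namespace Groth.Agent.S4065

/-- Let P -> F -> R and R -> E -> Q be short exact sequences in an abelian category and X a blended
extension of E by F: i : F -> X and p : X -> E with i, p composing to F -> R -> E and with P -> X ->
E and F -> X -> Q short exact. Then u ↦ 1_X + (X -> E -> Q -> P -> F -> X) is a bijection from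
Hom(Q, P) onto the set of endomorphisms φ of X with i φ = i and φ p = p (the automorphisms of the
blended extension; every such φ is invertible), and it turns addition into composition (a group
isomorphism Hom(Q, P) ≅ Aut(X)). -/
theorem result {C : Type w} [Category.{v} C] [Abelian C]
    {P F R E Q X : C} (a : P ⟶ F) (b : F ⟶ R) (wF : a ≫ b = 0)
    (hF : (ShortComplex.mk a b wF).ShortExact) (c : R ⟶ E) (d : E ⟶ Q) (wE : c ≫ d = 0)
    (hE : (ShortComplex.mk c d wE).ShortExact) (i : F ⟶ X) (p : X ⟶ E) (hip : i ≫ p = b ≫ c)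
    (w₁ : (a ≫ i) ≫ p = 0) (h₁ : (ShortComplex.mk (a ≫ i) p w₁).ShortExact)
    (w₂ : i ≫ (p ≫ d) = 0) (h₂ : (ShortComplex.mk i (p ≫ d) w₂).ShortExact) :
    Set.BijOn (fun v : Q ⟶ P => 𝟙 X + p ≫ d ≫ v ≫ a ≫ i) Set.univ
      {φ : X ⟶ X | i ≫ φ = i ∧ φ ≫ p = p} ∧
      ∀ v v' : Q ⟶ P, 𝟙 X + p ≫ d ≫ (v + v') ≫ a ≫ i =
        (𝟙 X + p ≫ d ≫ v ≫ a ≫ i) ≫ (𝟙 X + p ≫ d ≫ v' ≫ a ≫ i) := by
  have hepd : Epi (p ≫ d) := h₂.epi_g
  have hmai : Mono (a ≫ i) := h₁.mono_f
  refine ⟨⟨?_, ?_, ?_⟩, ?_⟩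
  · intro v _
    refine ⟨?_, ?_⟩
    · change i ≫ (𝟙 X + p ≫ d ≫ v ≫ a ≫ i) = i
      have : i ≫ p ≫ d ≫ v ≫ a ≫ i = 0 := by
        have := congrArg (fun z => z ≫ v ≫ a ≫ i) w₂
        simpa only [Category.assoc, Limits.zero_comp] using this
      rw [Preadditive.comp_add, Category.comp_id, this, add_zero]
    · change (𝟙 X + p ≫ d ≫ v ≫ a ≫ i) ≫ p = p
      have : (p ≫ d ≫ v ≫ a ≫ i) ≫ p = 0 := by
        have := congrArg (fun z => (p ≫ d ≫ v) ≫ z) w₁
        simpa only [Category.assoc, Limits.comp_zero] using this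
      rw [Preadditive.add_comp, Category.id_comp, this, add_zero]
  · intro v _ v' _ h
    have h' : (p ≫ d) ≫ v ≫ (a ≫ i) = (p ≫ d) ≫ v' ≫ (a ≫ i) := by
      simpa only [Category.assoc] using add_left_cancel h
    rw [← cancel_mono (a ≫ i), ← cancel_epi (p ≫ d)]
    exact h'
  · rintro φ ⟨hφ₁, hφ₂⟩
    have hk : Limits.IsColimit (Limits.CokernelCofork.ofπ (p ≫ d) w₂) := h₂.gIsCokernel
    have hl : Limits.IsLimit (Limits.KernelFork.ofι (a ≫ i) w₁) := h₁.fIsKernel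
    have e1 : i ≫ (φ - 𝟙 X) = 0 := by
      rw [Preadditive.comp_sub, hφ₁, Category.comp_id, sub_self]
    let t : Q ⟶ X := hk.desc (Limits.CokernelCofork.ofπ (φ - 𝟙 X) e1)
    have ht : (p ≫ d) ≫ t = φ - 𝟙 X :=
      hk.fac (Limits.CokernelCofork.ofπ (φ - 𝟙 X) e1) Limits.WalkingParallelPair.one
    have e2 : t ≫ p = 0 := by
      rw [← cancel_epi (p ≫ d), ← Category.assoc, ht, Preadditive.sub_comp, hφ₂,
        Category.id_comp, sub_self, Limits.comp_zero]
    let v : Q ⟶ P := hl.lift (Limits.KernelFork.ofι t e2)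
    have hv : v ≫ (a ≫ i) = t :=
      hl.fac (Limits.KernelFork.ofι t e2) Limits.WalkingParallelPair.zero
    refine ⟨v, Set.mem_univ _, ?_⟩
    change 𝟙 X + p ≫ d ≫ v ≫ a ≫ i = φ
    have hfin : p ≫ d ≫ v ≫ a ≫ i = φ - 𝟙 X := by rw [hv, ← Category.assoc, ht]
    rw [hfin]
    abel
  · intro v v'
    have h0 : (p ≫ d ≫ v ≫ a ≫ i) ≫ (p ≫ d ≫ v' ≫ a ≫ i) = 0 := by
      have := congrArg (fun z => (p ≫ d ≫ v) ≫ z ≫ d ≫ v' ≫ a ≫ i) w₁
      simpa only [Category.assoc, Limits.comp_zero, Limits.zero_comp] using this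
    have h1 : p ≫ d ≫ (v + v') ≫ a ≫ i = p ≫ d ≫ v ≫ a ≫ i + p ≫ d ≫ v' ≫ a ≫ i := by
      simp only [Preadditive.add_comp, Preadditive.comp_add]
    rw [h1, Preadditive.add_comp, Category.id_comp, Preadditive.comp_add, h0, Category.comp_id,
      add_zero]
    abel

end Groth.Agent.S4065
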