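import Groth.Statements.S4068
import Groth.Agent.Sga7.H748.Final
import Groth.Agent.Sga7.H198.Ctx
import Groth.Agent.Sga7.H379.TowerMain

set_option autoImplicit false
universe u
open CategoryTheory CategoryTheory.Limits AlgebraicGeometry MonObj
open SGA7

namespace Groth.Agent.S4068

open Classical in
/-- In residue characteristic zero (where the whole Galois group is tame inertia): let V be a strictly
henselian discrete valuation ring whose residue field has characteristic zero, K its fraction field,
Ω a separable closure of K, and f : X -> Spec V proper with X regular and with smooth generic fibre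
X_K. Suppose the special fibre is a divisor with strict normal crossings: there are finitely many
points ξ_i of X with multiplicities m_i ≥ 1 such that at every point x of the special fibre, letting
C(x) be the set of i with ξ_i specialising to x, there are elements t_i (i in C(x)) of the local
ring O_{X,x} which extend to a regular system of parameters (together with dim O_{X,x} − #C(x)
further elements they generate the maximal ideal), such that t_i generates the prime ideal of
O_{X,x} corresponding to ξ_i, and such that the ideal of O_{X,x} generated by the maximal ideal of V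
is generated by the product of the t_i^{m_i}. Let N be a common multiple of the m_i, M a bound for
the numbers #C(x), n ≥ 1 and q ≥ 0. Then for every σ in Aut_K(Ω), the automorphism T of H^q(X_Ω,
ℤ/n) (etale cohomology of the geometric generic fibre) induced by σ satisfies (T^N − 1)^{min(q + 1,
M)} = 0. (The published exponent reads min(q, M); stated here with min(q + 1, M), the exponent valid
in degree 0 and for curves.) Exactness of pullback of etale sheaves is carried as an instance
hypothesis. -/
theorem result (V K Ω : Type u) [CommRing V] [IsDomain V]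
    [IsDiscreteValuationRing V] [HenselianLocalRing V] [IsSepClosed (IsLocalRing.ResidueField V)]
    [CharZero (IsLocalRing.ResidueField V)] [Field K] [Algebra V K] [IsFractionRing V K]
    [Field Ω] [Algebra K Ω] [IsSepClosure K Ω]
    {X : Scheme.{u}} (f : X ⟶ Spec (CommRingCat.of V)) [IsProper f]
    (hreg : ∀ x : ↥X, IsRegularLocalRing ↑(X.presheaf.stalk x))
    [Smooth (pullback.snd f (Spec.map (CommRingCat.ofHom (algebraMap V K))))]
    {J : Type} [Fintype J] (ξ : J → ↥X) (m : J → ℕ) (hm : ∀ i, 0 < m i)
    (hsnc : ∀ x : ↥X, f.base x = IsLocalRing.closedPoint V →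
      ∃ t : {i : J // ξ i ⤳ x} → ↑(X.presheaf.stalk x),
        (∃ (k : ℕ) (s : Fin k → ↑(X.presheaf.stalk x)),
          Ideal.span (Set.range t ∪ Set.range s) = IsLocalRing.maximalIdeal ↑(X.presheaf.stalk x) ∧
          ((Nat.card {i : J // ξ i ⤳ x} + k : ℕ) : WithBot ℕ∞) = ringKrullDim ↑(X.presheaf.stalk x)) ∧
        (∀ i : {i : J // ξ i ⤳ x}, ∃ P : PrimeSpectrum ↑(X.presheaf.stalk x),
          (X.fromSpecStalk x).base P = ξ i.1 ∧ P.asIdeal = Ideal.span {t i}) ∧
        Ideal.map (f.stalkMap x).hom (IsLocalRing.maximalIdeal ↑((Spec (CommRingCat.of V)).presheaf.stalk (f.base x))) =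
          Ideal.span {∏ i : {i : J // ξ i ⤳ x}, t i ^ m i.1})
    (N : ℕ) (hN : ∀ i, m i ∣ N) (M : ℕ)
    (hM : ∀ x : ↥X, f.base x = IsLocalRing.closedPoint V → Nat.card {i : J // ξ i ⤳ x} ≤ M)
    (n : ℕ) (hn : 0 < n) (q : ℕ)
    [∀ σ : Ω ≃ₐ[K] Ω, PreservesFiniteLimits (EtCoh.pull
      (SGA7.twistAut Ω (pullback.snd f (Spec.map (CommRingCat.ofHom (algebraMap V K)))) σ))]
    (σ : Ω ≃ₐ[K] Ω) :
    (SGA7.cohAct Ω (pullback.snd f (Spec.map (CommRingCat.ofHom (algebraMap V K)))) σ (ZMod n) q ^ N - 1) ^
      (min (q + 1) M) = 0 := by
  exact Groth.Agent.Sga7.H748.Final.result_of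
    (fun k _ _ _ n hn => Groth.Agent.Sga7.H198.Ctx.ctx k n hn)
    (fun k _ _ _ A _ _ _ _ _ c d T S hs hd n hn =>
      Groth.Agent.Sga7.H379.TowerMain.tower k A c d T S hs hd n hn)
    V K Ω f hreg ξ m hm hsnc N hN M hM n hn q σ

end Groth.Agent.S4068
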