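import Groth.Statements.S4071
import Groth.Agent.Sga7.H751.SecRoot

set_option autoImplicit false
universe u
open CategoryTheory CategoryTheory.Limits AlgebraicGeometry MonObj
open MonoidalCategory
open SGA7

namespace Groth.Agent.S4071

/-- Let R be a strictly henselian discrete valuation ring with fraction field K, N a group scheme over
Spec R which is a Néron model of its generic fibre, an abelian variety A over K, and n an integer
invertible in the residue field of R. If x is a section of N (a K-point of A) whose n-th power meets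
the connected component of the unit section in the special fibre, then there is a section y with y^n
= 1 such that x · y⁻¹ meets the connected component of the unit section: the n-torsion of the
component group is the image of the n-torsion of A(K). -/
theorem result (R K : Type u) [CommRing R] [IsDomain R] [IsDiscreteValuationRing R] [HenselianLocalRing R]
    [IsSepClosed (IsLocalRing.ResidueField R)] [Field K] [Algebra R K] [IsFractionRing R K]
    (N : Over (Spec (CommRingCat.of R))) [GrpObj N] (hN : SGA7.IsNeron R K N)
    [IsProper ((SGA7.genFib R K).obj N).hom] [GeometricallyIntegral ((SGA7.genFib R K).obj N).hom]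
    (n : ℕ) (hn : (n : IsLocalRing.ResidueField R) ≠ 0)
    (x : 𝟙_ (Over (Spec (CommRingCat.of R))) ⟶ N) (hx : x ^ n ∈ SGA7.secUnitComp R N) :
    ∃ y : 𝟙_ (Over (Spec (CommRingCat.of R))) ⟶ N, y ^ n = 1 ∧ x * y⁻¹ ∈ SGA7.secUnitComp R N := by
  have hc : IsCommMonObj N := Groth.Agent.Sga7.H751.SecRoot.isCommMonObj_of_isNeron R K N hN
  obtain ⟨hsm, -, hqc, -⟩ := hN
  have hu : IsUnit (n : R) := by
    rw [← IsLocalRing.residue_ne_zero_iff_isUnit, map_natCast]
    exact hn
  have het : Etale (𝟙 N ^ n).left := by
    refine Groth.Agent.Sga7.H751.PowEtale.etale_pow N n (fun s => ?_)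
    have h1 : IsUnit (n : Γ(Spec (CommRingCat.of R), ⊤)) := by
      have := hu.map (Scheme.ΓSpecIso (CommRingCat.of R)).inv.hom
      rwa [map_natCast] at this
    have h2 := h1.map ((Spec (CommRingCat.of R)).evaluation ⊤ s trivial).hom
    rw [map_natCast] at h2
    exact h2.ne_zero
  obtain ⟨w, hw, hwn⟩ := Groth.Agent.Sga7.H751.SecRoot.exists_root_mem_secUnitComp N
    ⟨inferInstance, inferInstance⟩ n (x ^ n) hx
  refine ⟨x * w⁻¹, ?_, ?_⟩
  · have h3 : (x * w⁻¹) ^ n = x ^ n * w⁻¹ ^ n := _root_.mul_pow x w⁻¹ n
    rw [h3, inv_pow, hwn, mul_inv_cancel]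
  · have h4 : x * (x * w⁻¹)⁻¹ = w := by
      rw [_root_.mul_inv_rev, inv_inv]
      have h5 : w * x⁻¹ = x⁻¹ * w := _root_.mul_comm w x⁻¹
      rw [h5, mul_inv_cancel_left]
    rw [h4]
    exact hw

end Groth.Agent.S4071
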