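import Groth.Statements.S4075
-- import your own Groth.Agent.* helpers here
import Groth.Agent.Sga7.H755.Special
import Mathlib.AlgebraicGeometry.Group.Abelian

set_option autoImplicit false
universe u
open CategoryTheory CategoryTheory.Limits AlgebraicGeometry MonObj
open SGA7

namespace Groth.Agent.S4075

/-- Let R be a henselian discrete valuation ring with fraction field K, Ω a separable closure of K, W a
valuation subring of Ω lying over R, N a group scheme over Spec R which is a Néron model of its
generic fibre A = N_K, an abelian variety, and m an integer invertible in the residue field. For an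
m-torsion Ω-point x of A, the inertia group at W fixes x if and only if the point of N underlying x
specialises to a point of the special fibre of N (x factors through the finite part of the m-torsion
of N): the fixed part of the m-torsion is the inertia invariants. -/
theorem result (R K Ω : Type u) [CommRing R] [IsDomain R]
    [IsDiscreteValuationRing R] [HenselianLocalRing R] [Field K] [Algebra R K] [IsFractionRing R K]
    [Field Ω] [Algebra K Ω] [IsSepClosure K Ω] (W : ValuationSubring Ω) (hW : SGA7.LiesOver K R W)
    (N : Over (Spec (CommRingCat.of R))) [GrpObj N] (hN : SGA7.IsNeron R K N)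
    [IsProper ((SGA7.genFib R K).obj N).hom] [GeometricallyIntegral ((SGA7.genFib R K).obj N).hom]
    (m : ℕ) (hm : (m : IsLocalRing.ResidueField R) ≠ 0)
    (x : SGA7.Pts Ω ((SGA7.genFib R K).obj N)) (hx : x ^ m = 1) :
    (∀ σ : Ω ≃ₐ[K] Ω, SGA7.IsInertia W σ → SGA7.galAct σ x = x) ↔
      ∃ z ∈ SGA7.specialFibreSet R N,
        (x.left ≫ pullback.fst N.hom (Spec.map (CommRingCat.ofHom (algebraMap R K)))).base
          (IsLocalRing.closedPoint Ω) ⤳ z := by
  let _ : Algebra R Ω := ((algebraMap K Ω).comp (algebraMap R K)).toAlgebra
  have : IsScalarTower R K Ω := IsScalarTower.of_algebraMap_eq (fun _ => rfl)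
  let _ : Algebra R W := (((algebraMap K Ω).comp (algebraMap R K)).codRestrict W.toSubring hW.1).toAlgebra
  have : IsScalarTower R W Ω := IsScalarTower.of_algebraMap_eq (fun _ => rfl)
  have : IsGalois K Ω := IsSepClosure.isGalois
  obtain ⟨hsm, hsep, -, hner⟩ := hN
  have hcomm : IsCommMonObj ((SGA7.genFib R K).obj N) :=
    isCommMonObj_of_isProper_of_geometricallyIntegral _
  have hund := Groth.Agent.Sga7.H755.Inert.und_left (R := R) x
  have hpt : (x.left ≫ pullback.fst N.hom (Spec.map (CommRingCat.ofHom (algebraMap R K)))).base
      (IsLocalRing.closedPoint Ω) =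
      (Groth.Agent.Sga7.H755.Inert.und (R := R) x).left (IsLocalRing.closedPoint Ω) := by
    rw [hund]
  rw [hpt]
  constructor
  · intro h
    exact Groth.Agent.Sga7.H755.Special.specializes_of_fixed W hW.1 hW.2 N
      (fun Y hY => (hner Y hY).2) x h
  · rintro ⟨z, hz, hxz⟩ σ hσ
    obtain ⟨yW, hyW⟩ := Groth.Agent.Sga7.H755.Inert.exists_extends K W hW.2 N _ z hz hxz
    have hm' : IsUnit (m : R) := by
      by_contra hcon
      apply hm
      have : IsLocalRing.residue R (m : R) = 0 := (IsLocalRing.residue_eq_zero_iff _).2 hcon
      rwa [map_natCast] at this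
    exact Groth.Agent.Sga7.H755.Inert.fixed_of_extends W m hm' N (fun a b => mul_comm a b) σ hσ x hx yW hyW

end Groth.Agent.S4075
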