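import Groth.Statements.S4081
import Groth.Agent.Sga7.H761.WeilMain
import Groth.Agent.Sga7.H761.BaseChg
import Groth.Agent.Sga7.H761.OrbitBound
import Groth.Agent.Etcore.AbTors
import Groth.Agent.Etcore.DimBaseChange

set_option autoImplicit false
universe u
open CategoryTheory CategoryTheory.Limits AlgebraicGeometry MonObj
open SGA7

namespace Groth.Agent.S4081

open Groth.Agent.Sga7.H761 Groth.Agent.Sga7.H761.BaseChg

section

attribute [local instance] grpBc

variable {K : Type u} [Field K] (L : Type u) [Field L] [Algebra K L]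
  (A : Over (Spec (CommRingCat.of K)))

instance isProper_bc [IsProper A.hom] : IsProper (bcA L A).hom := by
  dsimp; infer_instance

instance geomIntegral_bc [GeometricallyIntegral A.hom] : GeometricallyIntegral (bcA L A).hom := by
  dsimp; infer_instance

lemma dim_bc [IsProper A.hom] : topologicalKrullDim (bcA L A).left = topologicalKrullDim A.left :=
  Groth.Agent.Etcore.DimBaseChange.topologicalKrullDim_eq (Field.toIsField K) (Field.toIsField L)
    A.hom (bcA L A).hom (pullback.fst _ _) (fKL K L) (IsPullback.of_hasPullback _ _)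

lemma exists_dim [IsProper A.hom] [GeometricallyIntegral A.hom] :
    ∃ g : ℕ, topologicalKrullDim A.left = g := by
  have hint : IsIntegral A.left := GeometricallyIntegral.isIntegral_of_subsingleton A.hom
  let _ : A.left.Over (Spec (CommRingCat.of K)) := ⟨A.hom⟩
  have : LocallyOfFiniteType (A.left ↘ Spec (CommRingCat.of K)) :=
    inferInstanceAs (LocallyOfFiniteType A.hom)
  exact ⟨_, Groth.Agent.VarietyB.DimSch.topologicalKrullDim_eq_trd K⟩

variable [GrpObj A] [IsProper A.hom] [GeometricallyIntegral A.hom]

/-- The number of torsion points over a separably closed field of characteristic zero. -/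
lemma card_pts (Ω : Type u) [Field Ω] [Algebra K Ω] [IsSepClosed Ω] [CharZero Ω] (g : ℕ)
    (hg : topologicalKrullDim A.left = g) (n : ℕ) (hn : n ≠ 0) :
    Nat.card {x : Pts Ω A // x ^ n = 1} = n ^ (2 * g) := by
  refine (card_torsion_bc Ω A n).symm.trans ?_
  exact Groth.Agent.Etcore.AbTors.card_torsion (bcA Ω A) g ((dim_bc Ω A).trans hg) n
    (Nat.cast_ne_zero.mpr hn)

end

/-- The field fixed by a set of automorphisms. -/
def fixF {K Ω : Type u} [Field K] [Field Ω] [Algebra K Ω] (H : Set (Ω ≃ₐ[K] Ω)) :
    IntermediateField K Ω where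
  carrier := {z | ∀ σ ∈ H, σ z = z}
  mul_mem' ha hb σ hσ := by rw [map_mul, ha σ hσ, hb σ hσ]
  one_mem' σ _ := map_one σ
  add_mem' ha hb σ hσ := by rw [map_add, ha σ hσ, hb σ hσ]
  zero_mem' σ _ := map_zero σ
  algebraMap_mem' c σ _ := σ.commutes c
  inv_mem' x hx σ hσ := by rw [map_inv₀, hx σ hσ]

/-- First assertion: let R be a discrete valuation ring whose fraction field K has characteristic zero
and whose residue field has characteristic p > 0, Ω a separable closure of K, W a valuation subring
of Ω lying over R and A an abelian variety over K of positive dimension. Then the image of the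
inertia group at W in the automorphisms of the p-adic Tate module of A is infinite: there is no open
subgroup of Aut_K(Ω) whose elements lying in the inertia group fix every p-power torsion Ω-point of
A. -/
theorem result (R K Ω : Type u) [CommRing R] [IsDomain R]
    [IsDiscreteValuationRing R] [Field K] [CharZero K] [Algebra R K] [IsFractionRing R K]
    [Field Ω] [Algebra K Ω] [IsSepClosure K Ω] (W : ValuationSubring Ω) (hW : SGA7.LiesOver K R W)
    (p : ℕ) (hp : p.Prime) [CharP (IsLocalRing.ResidueField R) p]
    (A : Over (Spec (CommRingCat.of K))) [GrpObj A] [IsProper A.hom] [GeometricallyIntegral A.hom] (hdim : 1 ≤ topologicalKrullDim ↥A.left) :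
    ¬ ∃ π' : OpenSubgroup (Ω ≃ₐ[K] Ω), ∀ σ : Ω ≃ₐ[K] Ω, σ ∈ π' → SGA7.IsInertia W σ →
      ∀ (ν : ℕ) (x : SGA7.Pts Ω A), x ^ (p ^ ν) = 1 → SGA7.galAct σ x = x := by
  classical
  rintro ⟨π', hπ⟩
  have hsep : Algebra.IsSeparable K Ω := IsSepClosure.separable
  have hsc : IsSepClosed Ω := IsSepClosure.sep_closed K
  have hcz : CharZero Ω := charZero_of_injective_algebraMap (algebraMap K Ω).injective
  have hac : IsAlgClosed Ω := inferInstance
  have hgal : IsGalois K Ω := inferInstance
  let H : Set (Ω ≃ₐ[K] Ω) := {σ | σ ∈ π' ∧ SGA7.IsInertia W σ}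
  let L : IntermediateField K Ω := fixF H
  have hczL : CharZero L := charZero_of_injective_algebraMap (algebraMap K L).injective
  obtain ⟨g, hg⟩ := exists_dim A
  have hg1 : 1 ≤ g := by
    rw [hg] at hdim
    exact_mod_cast hdim
  let _ : GrpObj (bcA L A) := grpBc L A
  have hcomm : IsCommMonObj (bcA L A) :=
    isCommMonObj_of_isProper_of_geometricallyIntegral (bcA L A)
  have hint : IsIntegral (bcA L A).left :=
    GeometricallyIntegral.isIntegral_of_subsingleton (bcA L A).hom
  refine WeilMain.weil_main (K := L) (Ω := Ω) (bcA L A) g ((dim_bc L A).trans hg) hg1 p hp ?_ ?_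
  · intro m
    refine (card_torsion_bc L A (p ^ m)).trans ?_
    refine (card_torsion_descent L A H (fun z hz => hz) (p ^ m) ?_).trans ?_
    · intro x hx σ hσ
      exact hπ σ hσ.1 hσ.2 m x hx
    · exact card_pts A Ω g hg _ (pow_ne_zero _ hp.ne_zero)
  · intro D
    obtain ⟨N, hN⟩ := OrbitBound.exists_bound (R := R) (K := K) W hW p hp π' D
    refine ⟨N, fun j ζ hζ hd => hN j ζ hζ ((minpoly L ζ).aroots Ω).toFinset ?_ ?_⟩
    · refine (Multiset.toFinset_card_le _).trans (le_trans ?_ hd)
      exact (Polynomial.card_roots' _).trans Polynomial.natDegree_map_le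
    · intro σ hσ hI
      let σL : Ω →ₐ[L] Ω :=
        { (σ : Ω →+* Ω) with commutes' := fun z => z.2 σ ⟨hσ, hI⟩ }
      have h1 : Polynomial.aeval (σL ζ) (minpoly L ζ) = 0 := by
        rw [Polynomial.aeval_algHom_apply, minpoly.aeval, map_zero]
      have h0 : IsIntegral L ζ := Algebra.IsIntegral.isIntegral ζ
      rw [Multiset.mem_toFinset, Polynomial.mem_aroots]
      exact ⟨minpoly.ne_zero h0, h1⟩

end Groth.Agent.S4081
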