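import Groth.Statements.S4083
import Groth.Agent.Sga7.H748.Asm
import Groth.Agent.Sga7.H198.Ctx
import Groth.Agent.Sga7.H379.TowerMain

set_option autoImplicit false
universe u
open CategoryTheory CategoryTheory.Limits AlgebraicGeometry MonObj
open SGA7

namespace Groth.Agent.S4083

open Classical in
/-- In residue characteristic zero (where the tame nearby cycles are all the nearby cycles), additive
structure only: let V be a strictly henselian discrete valuation ring whose residue field has
characteristic zero, K its fraction field, Ω a separable closure of K, f : X -> Spec V of finite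
type with X regular and smooth generic fibre, and suppose the special fibre is a divisor with strict
normal crossings with components indexed by the points ξ_i and multiplicities m_i ≥ 1: at every
point x of the special fibre there are elements t_i of O_{X,x}, one for each ξ_i specialising to x,
which extend to a regular system of parameters, with t_i generating the prime ideal of ξ_i and the
product of the t_i^{m_i} generating the ideal of O_{X,x} spanned by the maximal ideal of V. Let x be
a point of the special fibre, C(x) the set of i with ξ_i specialising to x, c its cardinality, g the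
gcd of the m_i for i in C(x), Osh a strict henselisation of the local ring of X at x and Y =
Spec(Osh) ×_V Spec Ω the scheme computing the nearby cycles at x. Then Y has exactly g connected
components, and for every n ≥ 1 and q ≥ 0 the group H^q(Y, ℤ/n) is isomorphic to (ℤ/n)^(g · binom(c
− 1, q)) (the published statement gives a canonical isomorphism of graded algebras with an exterior
algebra over the degree-zero part; stated here is the resulting additive structure). -/
theorem result (V K Ω : Type u) [CommRing V] [IsDomain V]
    [IsDiscreteValuationRing V] [HenselianLocalRing V] [IsSepClosed (IsLocalRing.ResidueField V)]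
    [CharZero (IsLocalRing.ResidueField V)] [Field K] [Algebra V K] [IsFractionRing V K]
    [Field Ω] [Algebra K Ω] [IsSepClosure K Ω] [Algebra V Ω] [IsScalarTower V K Ω]
    {X : Scheme.{u}} (f : X ⟶ Spec (CommRingCat.of V)) [LocallyOfFiniteType f] [QuasiCompact f]
    (hreg : ∀ x : ↥X, IsRegularLocalRing ↑(X.presheaf.stalk x))
    [Smooth (pullback.snd f (Spec.map (CommRingCat.ofHom (algebraMap V K))))]
    {J : Type} [Fintype J] (ξ : J → ↥X) (m : J → ℕ) (hm : ∀ i, 0 < m i)
    (hsnc : ∀ x : ↥X, f.base x = IsLocalRing.closedPoint V →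
      ∃ t : {i : J // ξ i ⤳ x} → ↑(X.presheaf.stalk x),
        (∃ (k : ℕ) (s : Fin k → ↑(X.presheaf.stalk x)),
          Ideal.span (Set.range t ∪ Set.range s) = IsLocalRing.maximalIdeal ↑(X.presheaf.stalk x) ∧
          ((Nat.card {i : J // ξ i ⤳ x} + k : ℕ) : WithBot ℕ∞) = ringKrullDim ↑(X.presheaf.stalk x)) ∧
        (∀ i : {i : J // ξ i ⤳ x}, ∃ P : PrimeSpectrum ↑(X.presheaf.stalk x),
          (X.fromSpecStalk x).base P = ξ i.1 ∧ P.asIdeal = Ideal.span {t i}) ∧
        Ideal.map (f.stalkMap x).hom (IsLocalRing.maximalIdeal ↑((Spec (CommRingCat.of V)).presheaf.stalk (f.base x))) =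
          Ideal.span {∏ i : {i : J // ξ i ⤳ x}, t i ^ m i.1})
    (x : ↥X) (hx : f.base x = IsLocalRing.closedPoint V)
    (Osh : Type u) [CommRing Osh] [IsLocalRing Osh] [Algebra ↑(X.presheaf.stalk x) Osh]
    [IsLocalHom (algebraMap ↑(X.presheaf.stalk x) Osh)] [Hensel.IsStrictHenselization ↑(X.presheaf.stalk x) Osh]
    (n : ℕ) (hn : 0 < n) (q : ℕ) :
    letI g := (Finset.univ : Finset {i : J // ξ i ⤳ x}).gcd (fun i => m i.1)
    Nat.card (_root_.ConnectedComponents ↥(SGA7.nearbyFibre f x Osh Ω)) = g ∧
      Nonempty (EtCoh.H (SGA7.nearbyFibre f x Osh Ω) (EtCoh.const (SGA7.nearbyFibre f x Osh Ω) (ZMod n)) q ≃+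
        (Fin (g * Nat.choose (Nat.card {i : J // ξ i ⤳ x} - 1) q) → ZMod n)) := by
  obtain ⟨h1, h2⟩ := Groth.Agent.Sga7.H748.Asm.struct_of
    (fun k _ _ _ n hn => Groth.Agent.Sga7.H198.Ctx.ctx k n hn)
    (fun k _ _ _ A _ _ _ _ _ c d T S hs hd n hn =>
      Groth.Agent.Sga7.H379.TowerMain.tower k A c d T S hs hd n hn)
    V K Ω f hreg ξ m hm x hx (hsnc x hx) Osh
  exact ⟨h1, h2 n hn q⟩

end Groth.Agent.S4083
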