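import Groth.Statements.S4088
import Groth.Agent.GrpQ.H768.LocQSGen
import Groth.Agent.GrpQ.H767.GlobalB

set_option autoImplicit false
universe u
open CategoryTheory MonoidalCategory CartesianMonoidalCategory MonObj GrpObj AlgebraicGeometry CategoryTheory.Limits
open GrpQ

namespace Groth.Agent.S4088

/-- With the object scheme assumed to admit an S-immersion into some P^n_S (a special case of
quasi-projective): let S be locally noetherian and (U, R, s, t, c) a groupoid scheme over S such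
that s is proper and flat, U admits an immersion e into P^n_S over S, and j = (t, s) : R → U ×_S U
is quasi-finite (locally quasi-finite and locally of finite type). Then (t, s) has a coequalizer p :
U → Y in schemes together with q : Y → S through which U → S factors; p is surjective, open, proper
and of finite presentation, q is separated and of finite presentation; R → U ×_Y U is surjective;
and if j is a monomorphism then R ≅ U ×_Y U and p is flat. -/
theorem result (S : Scheme.{u}) [IsLocallyNoetherian S] (G : Grpd.GroupoidScheme S)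
    [IsProper G.s] [Flat G.s] (n : ℕ) (e : G.U ⟶ CohB1.ProjSpaceOver n S) [IsImmersion e]
    (he : e ≫ CohB1.ProjSpaceOver.toBase n S = G.pU) [LocallyQuasiFinite G.j] [LocallyOfFiniteType G.j] :
    ∃ (Y : Scheme.{u}) (p : G.U ⟶ Y) (w : G.t ≫ p = G.s ≫ p) (q : Y ⟶ S),
      Nonempty (IsColimit (Cofork.ofπ p w)) ∧ p ≫ q = G.pU ∧ Surjective p ∧ IsOpenMap p.base ∧ IsProper p ∧
      LocallyOfFinitePresentation p ∧ IsSeparated q ∧ LocallyOfFinitePresentation q ∧ QuasiCompact q ∧
      Function.Surjective (pullback.lift G.t G.s w).base ∧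
      (Mono G.j → IsPullback G.t G.s p p ∧ Flat p) := by
  refine Groth.Agent.GrpQ.H767.GlobalB.s4088 (fun x => ?_) n e he
  obtain ⟨W, Z, z, hx, hz, hQ, hA⟩ := Groth.Agent.GrpQ.H768.LocQSGen.exists_isQS G n e he x
  have hfin : IsFinite ((pullback.fst G.t z ≫ G.s) ∣_ W) := hQ.fin
  have himm : IsClosedImmersion (z ∣_ W) := hQ.imm
  refine ⟨W, Z, z, hx, hQ.inv, inferInstance, ⟨hQ.fin, hQ.flat, hQ.lfp⟩, hQ.surj, fun E hEW hE => ?_⟩
  -- `E` is finite
  have hEfin : E.Finite := by
    rcases E.eq_empty_or_nonempty with rfl | ⟨y, hy⟩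
    · exact Set.finite_empty
    · have h1 : (((pullback.fst G.t z ≫ G.s) ∣_ W) ⁻¹' {⟨z y, hEW y hy⟩}).Finite :=
        Scheme.Hom.finite_preimage_singleton _ _
      refine (h1.image (fun v => pullback.snd G.t z (((pullback.fst G.t z ≫ G.s) ⁻¹ᵁ W).ι v))).subset
        fun x hx => ?_
      obtain ⟨r, hr1, hr2⟩ := hE x hx y hy
      obtain ⟨v, hv1, hv2⟩ := Scheme.Pullback.exists_preimage_pullback (f := G.t) (g := z) r x hr1
      have hv3 : (pullback.fst G.t z ≫ G.s) v = z y := by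
        rw [Scheme.Hom.comp_apply, hv1]
        exact hr2
      have hvW : v ∈ (pullback.fst G.t z ≫ G.s) ⁻¹ᵁ W := by
        change (pullback.fst G.t z ≫ G.s) v ∈ W
        rw [hv3]
        exact hEW y hy
      refine ⟨⟨v, hvW⟩, ?_, hv2⟩
      refine Subtype.ext ?_
      have h2 : W.ι (((pullback.fst G.t z ≫ G.s) ∣_ W) ⟨v, hvW⟩) = (pullback.fst G.t z ≫ G.s) v := by
        rw [← Scheme.Hom.comp_apply, morphismRestrict_ι, Scheme.Hom.comp_apply]
        rfl
      exact h2.trans hv3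
  obtain ⟨A, hA1, hA2, hA3⟩ := hA (z '' E) (hEfin.image _) (by rintro _ ⟨y, hy, rfl⟩; exact hEW y hy)
  refine ⟨z ⁻¹ᵁ A, ?_, fun y hy => hA3 ⟨y, hy, rfl⟩, fun y hy => hA2 hy⟩
  have h3 : IsAffineOpen ((z ∣_ W) ⁻¹ᵁ (W.ι ⁻¹ᵁ A)) :=
    IsAffineOpen.preimage (hA1.preimage_of_isOpenImmersion W.ι (by rw [Scheme.Opens.opensRange_ι]; exact hA2)) _
  have h4 : z ⁻¹ᵁ A = (z ⁻¹ᵁ W).ι ''ᵁ ((z ∣_ W) ⁻¹ᵁ (W.ι ⁻¹ᵁ A)) := by
    ext y
    constructor
    · intro hy
      refine ⟨⟨y, hA2 hy⟩, ?_, rfl⟩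
      change W.ι ((z ∣_ W) ⟨y, hA2 hy⟩) ∈ A
      rw [← Scheme.Hom.comp_apply, morphismRestrict_ι, Scheme.Hom.comp_apply]
      exact hy
    · rintro ⟨y, hy, rfl⟩
      change W.ι ((z ∣_ W) y) ∈ A at hy
      rw [← Scheme.Hom.comp_apply, morphismRestrict_ι, Scheme.Hom.comp_apply] at hy
      exact hy
  rw [h4]
  exact h3.image_of_isOpenImmersion _

end Groth.Agent.S4088
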