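import Groth.Statements.S4101
import Groth.Agent.Sga3A.H781.EssFree
-- import your own Groth.Agent.* helpers here

set_option autoImplicit false
universe u
open CategoryTheory MonoidalCategory CartesianMonoidalCategory MonObj GrpObj AlgebraicGeometry CategoryTheory.Limits
open SGA3

namespace Groth.Agent.S4101

open Groth.Agent.Sga3A.H781.RepIdeal Groth.Agent.Sga3A.H781.EssFree in
/-- Let f : Z → S be essentially free (every point of S has an affine open neighbourhood U and a flat
surjective morphism S' → U from an affine scheme S' such that Z ×_S S' is covered by affine opens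
whose rings of sections are projective Γ(S')-modules) and j : Y → Z a closed immersion. Then there
is a closed immersion t : T → S such that a morphism g : S' → S factors through T exactly when the
closed immersion Y ×_Z Z_{S'} → Z_{S'} deduced from j by base change is an isomorphism; if moreover
Z is quasi-compact over S and j is of finite presentation, then t is of finite presentation. (The
published statement omits the quasi-compactness of Z over S in the last clause; it is stated here
with it.) -/
theorem result (S Z Y : Scheme.{u}) (f : Z ⟶ S)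
    (hf : SGA3x.IsEssentiallyFree f) (j : Y ⟶ Z) [IsClosedImmersion j] :
    ∃ (T : Scheme.{u}) (t : T ⟶ S), IsClosedImmersion t ∧
      (∀ (S' : Scheme.{u}) (g : S' ⟶ S),
        (∃ g' : S' ⟶ T, g' ≫ t = g) ↔ IsIso (pullback.snd j (pullback.fst f g))) ∧
      (QuasiCompact f → LocallyOfFinitePresentation j → LocallyOfFinitePresentation t) := by
  -- existence
  obtain ⟨K, hK⟩ : ∃ K : S.IdealSheafData, IsRep f j (𝟙 S) K := by
    apply exists_isRep_of_forall_exists
    intro s
    obtain ⟨U, hsU, hU, S', hS', g, hg1, hg2, hV⟩ := hf s
    choose V hxV hV hproj using hV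
    obtain ⟨K', hK', -⟩ := exists_isRep_local (j := j) (g ≫ U.ι) V hV (fun x => ⟨x, hxV x⟩) hproj
    have hUa : IsAffine U := hU
    have hqc : QuasiCompact g := inferInstance
    exact ⟨U, U.ι, inferInstance, ⟨s, hsU⟩, K'.map g, rfl,
      (hK'.of_fpqc g).1.congr (Category.comp_id _).symm⟩
  refine ⟨K.subscheme, K.subschemeι, inferInstance, fun T g => ?_, ?_⟩
  · rw [hK.exists_lift_iff, van_iff_isIso]
  · intro hqf hj
    have key : ∀ s : S, ∃ U : S.Opens, s ∈ U ∧
        LocallyOfFinitePresentation (K.comap U.ι).subschemeι := by
      intro s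
      obtain ⟨U, hsU, hU, S', hS', g, hg1, hg2, hV⟩ := hf s
      have hUa : IsAffine U := hU
      have hqc : QuasiCompact g := inferInstance
      refine ⟨U, hsU, ?_⟩
      choose V hxV hV hproj using hV
      -- a finite subcover
      have hc : CompactSpace ↥(pullback f (g ≫ U.ι)) :=
        QuasiCompact.compactSpace_of_compactSpace (pullback.snd f (g ≫ U.ι))
      obtain ⟨t, ht⟩ := isCompact_univ.elim_nhds_subcover
        (X := ↥(pullback f (g ≫ U.ι))) (fun x => (V x : Set _))
        (fun x _ => (V x).2.mem_nhds (hxV x))
      obtain ⟨K', hK', hfg⟩ := exists_isRep_local (j := j) (g ≫ U.ι)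
        (fun x : t => V x.1) (fun x => hV x.1) (fun x => by
          have := ht.2 (Set.mem_univ x)
          simp only [Set.mem_iUnion] at this
          obtain ⟨y, hy, hxy⟩ := this
          exact ⟨⟨y, hy⟩, hxy⟩) (fun x => hproj x.1)
      have h1 : (K.comap U.ι).comap g = K' := by
        rw [← Scheme.IdealSheafData.comap_comp]
        exact ((hK.comap (g ≫ U.ι)).congr (Category.comp_id _)).unique hK'
      have h2 : LocallyOfFinitePresentation ((K.comap U.ι).comap g).subschemeι := by
        rw [h1]
        apply locallyOfFinitePresentation_subschemeι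
        intro x
        exact ⟨⟨⊤, isAffineOpen_top S'⟩, trivial, hfg inferInstance inferInstance hj⟩
      exact MorphismProperty.of_isPullback_of_descendsAlong
        (P := @LocallyOfFinitePresentation) (Q := @Surjective ⊓ @Flat ⊓ @QuasiCompact)
        (Groth.Agent.Picfga.IdealDescent.isPullback_comap g (K.comap U.ι)).flip
        ⟨⟨hg2, hg1⟩, hqc⟩ h2
    choose U hsU hU using key
    refine IsZariskiLocalAtTarget.of_iSup_eq_top (P := @LocallyOfFinitePresentation) U
      (top_le_iff.1 fun s _ => TopologicalSpace.Opens.mem_iSup.2 ⟨s, hsU s⟩) fun s => ?_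
    have h3 := (Groth.Agent.Picfga.IdealDescent.isPullback_comap (U s).ι K)
    have h4 := isPullback_morphismRestrict K.subschemeι (U s)
    have h5 : (h4.flip.isoIsPullback _ _ h3).hom ≫ (K.comap (U s).ι).subschemeι =
        (K.subschemeι ∣_ U s) := h4.flip.isoIsPullback_hom_snd _ _ h3
    rw [← h5]
    have := hU s
    infer_instance

end Groth.Agent.S4101
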