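import Groth.Statements.S4103
import Groth.Agent.Sga3C.SubHopf
import Groth.Agent.MiscA.HopfFlat

set_option autoImplicit false
universe u
open CategoryTheory MonoidalCategory CartesianMonoidalCategory MonObj GrpObj AlgebraicGeometry CategoryTheory.Limits
open SGA3

namespace Groth.Agent.S4103

/-- Let A be a commutative Hopf algebra over a field k and B a sub-Hopf-algebra of A (a subalgebra
stable under comultiplication and antipode). Then A is faithfully flat as a B-module. -/
theorem result (k : Type u) [Field k] (A : Type u) [CommRing A] [HopfAlgebra k A]
    (B : Subalgebra k A) (hB : SGA3.IsHopfSubalgebra k A B) : Module.FaithfullyFlat ↥B A := by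
  letI : HopfAlgebra k B := Groth.Agent.Sga3C.SubHopf.hopfB hB
  let f : B →ₐc[k] A := Groth.Agent.Sga3C.SubHopf.valB hB
  exact Groth.Agent.MiscA.HopfFlat.faithfullyFlat_of_injective' f (fun _ => rfl)
    Subtype.val_injective

end Groth.Agent.S4103
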