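import Groth.Statements.S4104
import Groth.Agent.MiscA.HopfRange
import Mathlib.RingTheory.Flat.FaithfullyFlat.Basic
import Mathlib.RingTheory.RingHom.FaithfullyFlat

set_option autoImplicit false
universe u
open CategoryTheory MonoidalCategory CartesianMonoidalCategory MonObj GrpObj AlgebraicGeometry CategoryTheory.Limits
open SGA3

namespace Groth.Agent.S4104

open TensorProduct in
/-- Faithfully flat descent of elements. -/
lemma mem_range_of_tmul_eq {R B : Type*} [CommRing R] [CommRing B] [Algebra R B]
    [Module.FaithfullyFlat R B] (x : B) (h : (1 : B) ⊗ₜ[R] x = x ⊗ₜ[R] 1) :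
    x ∈ LinearMap.range (Algebra.linearMap R B) := by
  let D : Submodule R B := LinearMap.range (Algebra.linearMap R B)
  have h1 : (1 : B) ⊗ₜ[R] (D.mkQ x) = 0 := by
    have h2 := congrArg (LinearMap.lTensor B D.mkQ) h
    rw [LinearMap.lTensor_tmul, LinearMap.lTensor_tmul] at h2
    have h3 : D.mkQ (1 : B) = 0 := by
      rw [← LinearMap.mem_ker, Submodule.ker_mkQ]
      exact ⟨1, by simp⟩
    rw [h3, TensorProduct.tmul_zero] at h2
    exact h2
  have h4 := Module.FaithfullyFlat.tensorProduct_mk_injective (A := R) (B := B) (B ⧸ D)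
    (a₁ := D.mkQ x) (a₂ := 0) (by simpa using h1)
  rwa [← LinearMap.mem_ker, Submodule.ker_mkQ] at h4

/-- Let φ : A' → A be a bialgebra map between commutative Hopf algebras over a field k (a homomorphism
of affine k-groups Spec A → Spec A', not necessarily of finite type). If the corresponding morphism
of schemes is a monomorphism, i.e. φ is an epimorphism in the category of commutative rings, then φ
is surjective (the homomorphism is a closed immersion). -/
theorem result (k : Type u) [Field k] (A' A : Type u) [CommRing A'] [HopfAlgebra k A']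
    [CommRing A] [HopfAlgebra k A] (φ : A' →ₐc[k] A)
    (hepi : ∀ (R : Type u) [CommRing R] (f g : A →+* R), f.comp (φ : A' →+* A) = g.comp (φ : A' →+* A) → f = g) :
    Function.Surjective φ := by
  have h1 := Groth.Agent.MiscA.HopfRange.faithfullyFlat_range_val (k := k) φ
  have h2 : Module.FaithfullyFlat ((φ : A' →ₐ[k] A).range) A := by
    rw [← RingHom.faithfullyFlat_algebraMap_iff]
    exact h1
  intro a
  have h3 := hepi (TensorProduct ((φ : A' →ₐ[k] A).range) A A)
    (Algebra.TensorProduct.includeRight : A →ₐ[(φ : A' →ₐ[k] A).range] _).toRingHom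
    (Algebra.TensorProduct.includeLeft : A →ₐ[(φ : A' →ₐ[k] A).range] _).toRingHom
    (by
      ext x
      let y : (φ : A' →ₐ[k] A).range := ⟨φ x, ⟨x, rfl⟩⟩
      change (Algebra.TensorProduct.includeRight : A →ₐ[(φ : A' →ₐ[k] A).range] _)
          (algebraMap ((φ : A' →ₐ[k] A).range) A y) =
        (Algebra.TensorProduct.includeLeft : A →ₐ[(φ : A' →ₐ[k] A).range] _)
          (algebraMap ((φ : A' →ₐ[k] A).range) A y)
      rw [AlgHom.commutes, AlgHom.commutes])
  obtain ⟨⟨_, x, rfl⟩, hx⟩ := mem_range_of_tmul_eq (R := (φ : A' →ₐ[k] A).range) a (RingHom.congr_fun h3 a)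
  exact ⟨x, hx⟩

end Groth.Agent.S4104
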