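import Groth.Statements.S4105
import Groth.Agent.Sga3.H785.HopfCorr

set_option autoImplicit false
universe u
open CategoryTheory MonoidalCategory CartesianMonoidalCategory MonObj GrpObj AlgebraicGeometry CategoryTheory.Limits
open scoped TensorProduct
open SGA3

namespace Groth.Agent.S4105

/-- Let A be a commutative Hopf algebra over a field k, B a sub-Hopf-algebra of A and J a normal Hopf
ideal of A (a normal closed subgroup N of G = Spec A). Then J is the ideal generated by the
augmentation ideal of B (N is the kernel of G → Spec B) if and only if B consists exactly of the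
elements x with Δ(x) - x ⊗ 1 in the image of A ⊗ J (B is the ring of functions on G/N). This
expresses that N ↦ O(G/N) and B ↦ Spec (A/AB₊) are inverse bijections. -/
theorem result (k : Type u) [Field k] (A : Type u) [CommRing A] [HopfAlgebra k A]
    (B : Subalgebra k A) (hB : SGA3.IsHopfSubalgebra k A B) (J : Ideal A) [J.IsHopfIdeal k]
    (hJ : SGA3.IsNormalHopfIdeal k A J) :
    J = SGA3.augIdealSpan k A B ↔
      (B : Set A) = {x : A | CoalgebraStruct.comul (R := k) (A := A) x - x ⊗ₜ[k] (1 : A) ∈
        LinearMap.range (LinearMap.lTensor A (J.restrictScalars k).subtype)} := by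
  have hset : {x : A | CoalgebraStruct.comul (R := k) (A := A) x - x ⊗ₜ[k] (1 : A) ∈
        LinearMap.range (LinearMap.lTensor A (J.restrictScalars k).subtype)} =
      (Groth.Agent.Sga3C.NormalHopfD.coinv k J : Set A) := by
    ext x
    exact (Groth.Agent.Sga3.H785.HopfCorr.mem_coinv_iff J x).symm
  rw [hset]
  constructor
  · intro h
    subst h
    rw [Groth.Agent.Sga3.H785.HopfCorr.coinv_augIdealSpan hB]
  · intro h
    have h' : B = Groth.Agent.Sga3C.NormalHopfD.coinv k J := SetLike.coe_injective h
    rw [h']
    exact Groth.Agent.Sga3C.NormalHopfF.eq_augIdealSpan_coinv J hJ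

end Groth.Agent.S4105
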