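import Groth.Statements.S4108
import Groth.Agent.Sga3.H788.Assembly

set_option autoImplicit false
universe u
open CategoryTheory MonoidalCategory CartesianMonoidalCategory MonObj GrpObj AlgebraicGeometry CategoryTheory.Limits
open SGA3

namespace Groth.Agent.S4108

/-- For S the spectrum of a Dedekind domain R (a special case of 'locally noetherian regular of
dimension ≤ 1'): let G be an R-group scheme which is flat, quasi-compact and quasi-separated over R.
Then the canonical morphism ρ : G → Spec O(G) is surjective, flat and quasi-compact. -/
theorem result (R : Type u) [CommRing R] [IsDedekindDomain R]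
    (G : Over (Spec (CommRingCat.of R))) [GrpObj G] [Flat G.hom] [QuasiCompact G.hom] [QuasiSeparated G.hom] :
    Surjective G.left.toSpecΓ ∧ Flat G.left.toSpecΓ ∧ QuasiCompact G.left.toSpecΓ :=
  ⟨Groth.Agent.Sga3.H788.Assembly.surjective_toSpecΓ G, Groth.Agent.Sga3.H788.Assembly.flat_toSpecΓ G,
    Groth.Agent.Sga3.H788.Assembly.quasiCompact_toSpecΓ G⟩

end Groth.Agent.S4108
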