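import Groth.Statements.S4111
import Groth.Agent.Sga3.H792.PowFlat
import Groth.Agent.UnramA.FlatUnramAt

set_option autoImplicit false
universe u
open CategoryTheory MonoidalCategory CartesianMonoidalCategory MonObj GrpObj AlgebraicGeometry CategoryTheory.Limits
open SGA3

namespace Groth.Agent.S4111

/-- The published statement says that the power map is etale; stated here as etale at the unit section,
which holds for every G (for commutative G the global form is the companion statement): let G be an
algebraic group over a field k and n a natural number invertible in k. Then the n-th power morphism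
G → G, g ↦ gⁿ, is etale at the points of the unit section: there is an open U of G containing the
unit section on which it is etale. -/
theorem result (k : Type u) [Field k] (G : Over (Spec (CommRingCat.of k))) [GrpObj G]
    [LocallyOfFiniteType G.hom] [QuasiCompact G.hom] (n : ℕ) (hn : (n : k) ≠ 0) :
    ∃ U : G.left.Opens, (∀ p : ↥(𝟙_ (Over (Spec (CommRingCat.of k)))).left, η[G].left.base p ∈ U) ∧
      Etale (U.ι ≫ ((𝟙 G : G ⟶ G) ^ n).left) := by
  have hn' : (((n : ℤ)) : k) ≠ 0 := by exact_mod_cast hn
  have hflat := Groth.Agent.Sga3.H792.PowFlat.flat_stalkMap_zpow (A := G) (d := (n : ℤ)) hn'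
  have hunr := Groth.Agent.Grpsch.AbEtale.formallyUnramified_stalkMap_zpow (A := G) (d := (n : ℤ)) hn'
  rw [zpow_natCast] at hflat hunr
  have hlfp : LocallyOfFinitePresentation ((𝟙 G : G ⟶ G) ^ n).left := by
    have : IsLocallyNoetherian G.left := LocallyOfFiniteType.isLocallyNoetherian G.hom
    have : LocallyOfFiniteType (((𝟙 G : G ⟶ G) ^ n).left ≫ G.hom) := by
      rw [Over.w]; infer_instance
    rw [LocallyOfFinitePresentation.iff_locallyOfFiniteType]
    exact locallyOfFiniteType_of_comp _ G.hom
  obtain ⟨U, hU, hE⟩ :=
    (Groth.Agent.UnramA.FlatUnramAt.etale_nhd_iff_flat_and_formallyUnramified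
      ((𝟙 G : G ⟶ G) ^ n).left (Groth.Agent.Grpsch.AbStalk.pt η[G])).mpr ⟨hflat, hunr⟩
  refine ⟨U, fun p => ?_, hE⟩
  have hp : p = IsLocalRing.closedPoint k := Subsingleton.elim (α := PrimeSpectrum k) _ _
  rw [hp]
  exact hU

end Groth.Agent.S4111
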