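import Groth.Statements.S4123
import Groth.Agent.Sga3.H803.ZarMain
import Groth.Agent.Sga3B.SplitGlue904
import Groth.Agent.Sga3B.SplitNhd885

set_option autoImplicit false
universe u
open CategoryTheory MonoidalCategory CartesianMonoidalCategory MonObj GrpObj AlgebraicGeometry CategoryTheory.Limits
open Red

namespace Groth.Agent.S4123

/-- Let G be an S-group scheme which is smooth, of finite presentation over S, with connected reductive
geometric fibres (here: a reductive S-group in the sense of the prelude, affine and smooth with
connected reductive geometric fibres). Then every point s of S has an open neighbourhood U such that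
G|_U has a maximal torus. -/
theorem result (S : Scheme.{u}) (G : Over S) [GrpObj G]
    (hG : Red.IsReductive G) (s : S) :
    ∃ U : S.Opens, s ∈ U ∧ ∃ (T : Over (U : Scheme.{u})) (_ : GrpObj T) (i : T ⟶ Red.bc U.ι G),
      Red.IsMaximalTorus i := by
  have h : Sga3B.SplitGlue904.SplitTRed.{u} := Sga3B.SplitGlue904.splitTRed_of_aff
    fun hG i hT hs q => by
      obtain ⟨w, hw, D, hD, τ, hτ⟩ := Sga3B.SplitNhd885.splitAff hG i hT hs q
      exact ⟨w, hw, D, τ, hD, hτ⟩
  exact Sga3.H803.ZarMain.exists_maximalTorus_nhd
    (fun G _ hG s => Sga3B.SplitGlue904.splitNear_of_red h G hG s) hG s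

end Groth.Agent.S4123
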