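import Groth.Statements.S4128
import Groth.Agent.Sga3.H808.Retract

set_option autoImplicit false
universe u
open TensorProduct
open SGA3

namespace Groth.Agent.S4128

open Groth.Agent.Sga3.H808.Retract in
/-- In Hopf-algebra form: let k be an algebraically closed field, A a finitely generated commutative
Hopf algebra over k (an algebraic group E) and ψ : B → A an injective bialgebra map from a
diagonalizable Hopf algebra B (a quotient H = Spec B of E of multiplicative type). Let J be the Hopf
ideal of A generated by the image of the augmentation ideal of B (the kernel U of E → H) and suppose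
U = Spec (A/J) is unipotent (every nonzero finite-dimensional representation has a nonzero fixed
vector, the representation-theoretic form of unipotence). Then the extension 1 → U → E → H → 1 is
trivial: there is a bialgebra map r : A → B with r ∘ ψ = id (a group section H → E). -/
theorem result (k : Type u) [Field k] [IsAlgClosed k]
    (A B : Type u) [CommRing A] [HopfAlgebra k A] [Algebra.FiniteType k A] [CommRing B] [HopfAlgebra k B]
    (hB : SGA3b.IsDiag k B) (ψ : B →ₐc[k] A) (hψ : Function.Injective ψ)
    (J : Ideal A) [J.IsHopfIdeal k] (hJ : J = Ideal.map (ψ : B →+* A) (RingHom.ker (Bialgebra.counitAlgHom k B)))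
    (hU : HopfRep.IsUnipotent k (A ⧸ J)) :
    ∃ r : A →ₐc[k] B, r.comp ψ = BialgHom.id k B := by
  obtain ⟨M, _, ⟨e⟩⟩ := hB
  haveI : IsNoetherianRing A := Algebra.FiniteType.isNoetherianRing k A
  let ψ' : MonoidAlgebra k M →ₐc[k] A := ψ.comp (e.symm : MonoidAlgebra k M →ₐc[k] B)
  have hψ' : Function.Injective ψ' := fun x y h => e.symm.injective (hψ h)
  obtain ⟨r, hr⟩ := exists_retraction ψ' hψ' J (by
    intro a ha C _ _ π hπ
    have hall : ∀ x : MonoidAlgebra k M, (π.comp ψ') x =
        algebraMap k C (CoalgebraStruct.counit (R := k) x) := by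
      intro x
      have h1 : ((π.comp ψ' : MonoidAlgebra k M →ₐc[k] C) : MonoidAlgebra k M →ₐ[k] C) =
          (Algebra.ofId k C).comp (Bialgebra.counitAlgHom k (MonoidAlgebra k M)) := by
        refine MonoidAlgebra.algHom_ext (fun m => ?_) (Subsingleton.elim _ _)
        refine (hπ m).trans ?_
        change (1 : C) = algebraMap k C (CoalgebraStruct.counit (R := k)
          (MonoidAlgebra.single m (1 : k)))
        rw [(MonoidAlgebra.isGroupLikeElem_single_one (R := k) (A := k) m).counit_eq_one, map_one]
      exact AlgHom.congr_fun h1 x
    have h2 : J ≤ RingHom.ker (π : A →ₐ[k] C) := by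
      rw [hJ, Ideal.map_le_iff_le_comap]
      intro b hb
      have hb' : CoalgebraStruct.counit (R := k) b = 0 := hb
      change π (ψ b) = 0
      have h3 := hall (e b)
      have h4 : (π.comp ψ') (e b) = π (ψ b) := by
        change π (ψ (e.symm (e b))) = _
        rw [e.symm_apply_apply]
      rw [← h4, h3, CoalgHomClass.counit_comp_apply, hb', map_zero]
    exact h2 ha) hU
  refine ⟨(e.symm : MonoidAlgebra k M →ₐc[k] B).comp r, ?_⟩
  apply BialgHom.ext
  intro b
  change e.symm (r (ψ b)) = b
  have h5 := BialgHom.congr_fun hr (e b)
  have h6 : r (ψ (e.symm (e b))) = e b := h5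
  rw [e.symm_apply_apply] at h6
  rw [h6, e.symm_apply_apply]

end Groth.Agent.S4128
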