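import Groth.Statements.S4133
import Groth.Agent.S4117
import Groth.Agent.Sga3.H796.MaxToriRep
import Groth.Agent.Sga3.H813.Neutral

set_option autoImplicit false
universe u
open CategoryTheory MonoidalCategory CartesianMonoidalCategory MonObj GrpObj AlgebraicGeometry CategoryTheory.Limits
open SGA3x

namespace Groth.Agent.S4133

/-- Let S be locally noetherian and G an S-group scheme smooth and of finite type over S which acquires
a maximal torus after an fpqc covering base change. Then G acquires a maximal torus after an etale
surjective base change, and the functor of maximal tori of G is represented by an S-scheme 𝒯 which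
is smooth over S with affine fibres (the source: smooth and quasi-projective over S with affine
fibres). -/
theorem result (S : Scheme.{u}) [IsLocallyNoetherian S]
    (G : Over S) [GrpObj G] [Smooth G.hom] [QuasiCompact G.hom] (hG : SGA3x.HasMaxTorusFpqcLocally G) :
    SGA3x.HasMaxTorusEtaleLocally G ∧
    ∃ (𝒯 : Over S) (Tu : Over 𝒯.left) (_ : GrpObj Tu) (iu : Tu ⟶ Red.bc 𝒯.hom G),
      SGA3x.RepresentsMaxTori G 𝒯 Tu iu ∧ Smooth 𝒯.hom ∧
      ∀ s : S, IsAffine (pullback 𝒯.hom (S.fromSpecResidueField s)) := by
  refine Groth.Agent.Sga3.H813.Neutral.reduction G hG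
    (fun M => Smooth M.hom ∧ ∀ s : S, IsAffine (pullback M.hom (S.fromSpecResidueField s)))
    fun G0 _ _ _ _ _ hG0 => ?_
  have h1 := Groth.Agent.S4117.result S G0 hG0
  exact ⟨h1, Groth.Agent.Sga3.H796.MaxToriRep.exists_representsMaxTori G0
    (fun K _ _ t => Groth.Agent.Sga3.H813.Neutral.connectedSpace_bc G0 t) h1⟩

end Groth.Agent.S4133
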