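import Groth.Statements.S4138
import Groth.Agent.Sga3.H818.Glue

set_option autoImplicit false
universe u
open CategoryTheory MonoidalCategory CartesianMonoidalCategory MonObj GrpObj AlgebraicGeometry CategoryTheory.Limits
open SGA3x

namespace Groth.Agent.S4138

/-- The Hom functor; case of affine fibres: let G be an S-group scheme, smooth and of finite
presentation over S, whose fibres are affine (so that their abelian rank is zero), and T an S-torus.
Then the functor of group homomorphisms T → G is representable by an S-scheme which is smooth and
separated over S. (The source also represents the functor of subtori of G.) -/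
theorem result (S : Scheme.{u}) (G T : Over S) [GrpObj G] [GrpObj T]
    [Smooth G.hom] [QuasiCompact G.hom] [QuasiSeparated G.hom]
    (haff : ∀ s : S, IsAffine (pullback G.hom (S.fromSpecResidueField s))) (hT : Red.IsTorus T) :
    ∃ (A : Over S) (υ : T ⊗ A ⟶ G), AutFam.RepresentsHom T G A υ ∧ Smooth A.hom ∧ IsSeparated A.hom :=
  Groth.Agent.Sga3.H816.HomTorOf.of_splitCase Groth.Agent.Sga3.H818.Glue.splitCase S G T haff hT

end Groth.Agent.S4138
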