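import Groth.Statements.S4140
import Groth.Agent.Sga3.H820.NeutralOpen
import Groth.Agent.Sga3C.GrpSep

set_option autoImplicit false
universe u
open CategoryTheory MonoidalCategory CartesianMonoidalCategory MonObj GrpObj AlgebraicGeometry CategoryTheory.Limits
open SGA3

namespace Groth.Agent.S4140

section aux

open Groth.Agent.Sga3.H820.NeutralOpen Groth.Agent.Sga3C.GrpSep

variable {S : Scheme.{u}} (G : Over S) [GrpObj G]

/-- Left translation by a section. -/
noncomputable def tr (σ : 𝟙_ (Over S) ⟶ G) : G ⟶ G := (toUnit G ≫ σ) * 𝟙 G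

lemma comp_tr {T : Over S} (x : T ⟶ G) (σ : 𝟙_ (Over S) ⟶ G) :
    x ≫ tr G σ = (toUnit T ≫ σ) * x := by
  rw [tr, comp_mul, Category.comp_id, ← Category.assoc, toUnit_unique (x ≫ toUnit G) (toUnit T)]

/-- The inverse of a section lies in the neutral component if the section does. -/
lemma inv_mem (σ : 𝟙_ (Over S) ⟶ G) (s : S) (h : σ.left s ∈ neutral G s) :
    (σ⁻¹).left s ∈ neutral G s := by
  have h1 : (ι[G] : G ⟶ G).left (e G s) = e G s := by
    have h2 : η[G] ≫ ι[G] = η[G] := GrpObj.one_inv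
    change (ι[G] : G ⟶ G).left ((η[G] : 𝟙_ (Over S) ⟶ G).left s) = _
    rw [← Scheme.Hom.comp_apply, ← Over.comp_left, h2]
  have h3 := map_mem_neutral G (ι[G] : G ⟶ G) h1 h
  have h4 : σ ≫ ι[G] = σ⁻¹ := rfl
  rw [← h4, Over.comp_left, Scheme.Hom.comp_apply]
  exact h3

/-- Translating back the inverse gives the unit. -/
lemma tr_inv (σ : 𝟙_ (Over S) ⟶ G) (s : S) : (tr G σ).left ((σ⁻¹).left s) = e G s := by
  have h1 : σ⁻¹ ≫ tr G σ = η[G] := by
    rw [comp_tr, toUnit_unique (toUnit _) (𝟙 _), Category.id_comp, mul_inv_cancel, Hom.one_def,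
      toUnit_unique (toUnit _) (𝟙 _), Category.id_comp]
  change (tr G σ).left ((σ⁻¹).left s) = (η[G] : 𝟙_ (Over S) ⟶ G).left s
  rw [← h1]
  rw [Over.comp_left, Scheme.Hom.comp_apply]

/-- The preimage of the diagonal under `g ↦ (σ g, τ g)` is the preimage of the coincidence locus. -/
lemma preimage_eq (σ τ : 𝟙_ (Over S) ⟶ G) :
    (lift (tr G σ) (tr G τ)).left ⁻¹' (Set.range (lift (𝟙 G) (𝟙 G)).left) =
      G.hom ⁻¹' ((lift σ τ).left ⁻¹' (Set.range (lift (𝟙 G) (𝟙 G)).left)) := by
  ext w
  constructor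
  · intro hw
    obtain ⟨E, h, h', hh, v, rfl⟩ := exists_lift_of_mem_range (lift (tr G σ) (tr G τ))
      (lift (𝟙 G) (𝟙 G)) w hw
    have ha : h ≫ tr G σ = h' := by
      have := congrArg (fun t => t ≫ fst G G) hh
      simpa using this
    have hb : h ≫ tr G τ = h' := by
      have := congrArg (fun t => t ≫ snd G G) hh
      simpa using this
    rw [comp_tr] at ha hb
    have hab : toUnit E ≫ σ = toUnit E ≫ τ := mul_right_cancel (ha.trans hb.symm)
    have h1 : toUnit E ≫ lift σ τ = (toUnit E ≫ σ) ≫ lift (𝟙 G) (𝟙 G) := by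
      apply CartesianMonoidalCategory.hom_ext
      · simp
      · simp [hab]
    have h2 : G.hom (h.left v) = (toUnit E).left v := by
      rw [← Scheme.Hom.comp_apply, Over.w h]
      rfl
    refine ⟨(toUnit E ≫ σ).left v, ?_⟩
    rw [h2]
    have h3 := congrArg (fun t => t.left v) h1
    rw [Over.comp_left, Over.comp_left, Scheme.Hom.comp_apply, Scheme.Hom.comp_apply] at h3
    exact h3.symm
  · intro hw
    obtain ⟨E, h, h', hh, v, hv⟩ := exists_lift_of_mem_range (G.hom |> fun _ => toUnit G ≫ lift σ τ)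
      (lift (𝟙 G) (𝟙 G)) w (by
        rw [Over.comp_left, Scheme.Hom.comp_apply]
        exact hw)
    subst hv
    have ha : toUnit E ≫ σ = h' := by
      have := congrArg (fun t => t ≫ fst G G) hh
      simp only [Category.assoc, lift_fst, Category.comp_id] at this
      rw [← this, ← Category.assoc, toUnit_unique (h ≫ toUnit G) (toUnit E)]
    have hb : toUnit E ≫ τ = h' := by
      have := congrArg (fun t => t ≫ snd G G) hh
      simp only [Category.assoc, lift_snd, Category.comp_id] at this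
      rw [← this, ← Category.assoc, toUnit_unique (h ≫ toUnit G) (toUnit E)]
    have h1 : h ≫ lift (tr G σ) (tr G τ) = (h' * h) ≫ lift (𝟙 G) (𝟙 G) := by
      apply CartesianMonoidalCategory.hom_ext
      · simp [comp_tr, ha]
      · simp [comp_tr, hb]
    refine ⟨(h' * h).left v, ?_⟩
    have h3 := congrArg (fun t => t.left v) h1
    rw [Over.comp_left, Over.comp_left, Scheme.Hom.comp_apply, Scheme.Hom.comp_apply] at h3
    exact h3.symm

/-- The coincidence locus is closed. -/
theorem isClosed_locus [LocallyOfFinitePresentation G.hom]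
    (hdim : IsLocallyConstant (fun s : S => topologicalKrullDim ↥(G.hom.base ⁻¹' {s})))
    (σ τ : 𝟙_ (Over S) ⟶ G) (hσ : ∀ s : S, σ.left s ∈ neutral G s)
    (hτ : ∀ s : S, τ.left s ∈ neutral G s) :
    IsClosed ((lift σ τ).left ⁻¹' (Set.range (lift (𝟙 G) (𝟙 G)).left)) := by
  rw [← closure_subset_iff_isClosed]
  intro s' hs'
  let s : S := s'
  obtain ⟨U, heU, hU⟩ := exists_separated_nhd G.hom (e G s)
  obtain ⟨g, hg1, hg2, hg3⟩ : ∃ g ∈ neutral G s, (tr G σ).left g ∈ U ∧ (tr G τ).left g ∈ U := by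
    obtain ⟨w, hw1, hw2, hw3⟩ := isPreirreducible_neutral G s ((tr G σ).left ⁻¹' U)
      ((tr G τ).left ⁻¹' U)
      (U.isOpen.preimage (tr G σ).left.continuous) (U.isOpen.preimage (tr G τ).left.continuous)
      ⟨_, inv_mem G σ s (hσ s), by
        change (tr G σ).left _ ∈ U
        rw [tr_inv]; exact heU⟩
      ⟨_, inv_mem G τ s (hτ s), by
        change (tr G τ).left _ ∈ U
        rw [tr_inv]; exact heU⟩
    exact ⟨w, hw1, hw2, hw3⟩
  have hw1 : g ∈ closure (G.hom ⁻¹' ((lift σ τ).left ⁻¹' (Set.range (lift (𝟙 G) (𝟙 G)).left))) := by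
    rw [mem_closure_iff_nhds]
    intro T hT
    have h1 := isOpenAt_of_mem_neutral G hdim hg1 T hT
    rw [hom_of_mem G hg1] at h1
    obtain ⟨_, ⟨x, hx, rfl⟩, hx'⟩ := mem_closure_iff_nhds.mp hs' _ h1
    exact ⟨x, hx, hx'⟩
  have hw2 : (lift (tr G σ) (tr G τ)).left g ∈ closure (Set.range (lift (𝟙 G) (𝟙 G)).left) := by
    rw [← preimage_eq] at hw1
    exact ((lift (tr G σ) (tr G τ)).left.continuous.closure_preimage_subset _) hw1
  have hw3 : (lift (tr G σ) (tr G τ)).left g ∈ Set.range (lift (𝟙 G) (𝟙 G)).left := by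
    refine mem_range_diagonal_of_mem_closure G.hom U _ ?_ ?_ hw2
    · have : ((lift (tr G σ) (tr G τ)).left ≫ pullback.fst G.hom G.hom) g = (tr G σ).left g := by
        rw [show (lift (tr G σ) (tr G τ)).left ≫ pullback.fst G.hom G.hom =
          (lift (tr G σ) (tr G τ) ≫ fst G G).left from rfl, lift_fst]
      rw [← Scheme.Hom.comp_apply, this]
      exact hg2
    · have : ((lift (tr G σ) (tr G τ)).left ≫ pullback.snd G.hom G.hom) g = (tr G τ).left g := by
        rw [show (lift (tr G σ) (tr G τ)).left ≫ pullback.snd G.hom G.hom =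
          (lift (tr G σ) (tr G τ) ≫ snd G G).left from rfl, lift_snd]
      rw [← Scheme.Hom.comp_apply, this]
      exact hg3
  have hw4 : g ∈ G.hom ⁻¹' ((lift σ τ).left ⁻¹' (Set.range (lift (𝟙 G) (𝟙 G)).left)) := by
    rw [← preimage_eq]; exact hw3
  rw [Set.mem_preimage, hom_of_mem G hg1] at hw4
  exact hw4

end aux

/-- Let G be an S-group scheme locally of finite presentation over S such that s ↦ dim G_s is locally
constant, and σ, τ two S-points of G with values in the neutral component G⁰ (their images lie in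
the union of the neutral components of the fibres). Then the subscheme of coincidences of σ and τ
(the pullback of the diagonal of G along (σ, τ)) is a closed subscheme of S. -/
theorem result (S : Scheme.{u}) (G : Over S) [GrpObj G]
    [LocallyOfFinitePresentation G.hom]
    (hdim : IsLocallyConstant (fun s : S => topologicalKrullDim ↥(G.hom.base ⁻¹' {s})))
    (σ τ : 𝟙_ (Over S) ⟶ G) (hσ : Set.range σ.left.base ⊆ SGA3x.neutralSet G)
    (hτ : Set.range τ.left.base ⊆ SGA3x.neutralSet G) :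
    IsClosedImmersion (pullback.fst (lift σ τ) (lift (𝟙 G) (𝟙 G))).left := by
  have key : ∀ ρ : 𝟙_ (Over S) ⟶ G, Set.range ρ.left.base ⊆ SGA3x.neutralSet G →
      ∀ s : S, ρ.left s ∈ Groth.Agent.Sga3.H820.NeutralOpen.neutral G s := by
    intro ρ hρ s
    have h1 : ρ.left s ∈ SGA3x.neutralSet G := hρ ⟨s, rfl⟩
    rw [Groth.Agent.Sga3.H820.NeutralOpen.mem_neutralSet_iff] at h1
    have h2 : G.hom (ρ.left s) = s := by
      have h3 : ρ.left ≫ G.hom = 𝟙 S := Over.w ρ
      rw [← Scheme.Hom.comp_apply, h3]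
      rfl
    rwa [h2] at h1
  have hcl := isClosed_locus G hdim σ τ (key σ hσ) (key τ hτ)
  have hpb : IsPullback (pullback.fst (lift σ τ) (lift (𝟙 G) (𝟙 G))).left
      (pullback.snd (lift σ τ) (lift (𝟙 G) (𝟙 G))).left (lift σ τ).left
      (lift (𝟙 G) (𝟙 G)).left :=
    (IsPullback.of_hasPullback (lift σ τ) (lift (𝟙 G) (𝟙 G))).map (Over.forget S)
  have hd : (lift (𝟙 G) (𝟙 G)).left = pullback.diagonal G.hom := rfl
  have himm : IsImmersion (lift (𝟙 G) (𝟙 G)).left := by rw [hd]; infer_instance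
  have himm' : IsImmersion (pullback.fst (lift σ τ) (lift (𝟙 G) (𝟙 G))).left :=
    MorphismProperty.of_isPullback (P := @IsImmersion) hpb.flip himm
  refine IsClosedImmersion.of_isPreimmersion _ ?_
  have hr : Set.range (pullback.fst (lift σ τ) (lift (𝟙 G) (𝟙 G))).left =
      (lift σ τ).left ⁻¹' (Set.range (lift (𝟙 G) (𝟙 G)).left) := by
    rw [← hpb.isoPullback_hom_fst]
    rw [Scheme.Hom.comp_base, TopCat.coe_comp, Set.range_comp,
      show Set.range hpb.isoPullback.hom = Set.univ from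
        (hpb.isoPullback.hom.homeomorph.surjective).range_eq, Set.image_univ]
    exact Scheme.Pullback.range_fst _ _
  rw [hr]
  exact hcl

end Groth.Agent.S4140
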