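import Groth.Statements.S4142
import Groth.Agent.Sga3.H817.PerrinAB
import Groth.Agent.Sga3.H787.GenQuot
import Groth.Agent.Sga3.H739.S4142Of

set_option autoImplicit false
universe u
open CategoryTheory MonoidalCategory CartesianMonoidalCategory MonObj GrpObj AlgebraicGeometry CategoryTheory.Limits
open SGA3

namespace Groth.Agent.S4142

/-- Let G be a quasi-compact group scheme over a field k (not necessarily of finite type) and h : H → G
a closed normal subgroup scheme. Then the fpqc quotient sheaf G/H is a scheme: there are a k-group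
scheme Q and a homomorphism q : G → Q which is surjective, flat and quasi-compact with kernel H. -/
theorem result (k : Type u) [Field k] (G H : Over (Spec (CommRingCat.of k)))
    [GrpObj G] [GrpObj H] [QuasiCompact G.hom] (h : H ⟶ G) [IsMonHom h] (hh : IsClosedImmersion h.left)
    (hN : AlgGrp.IsNormalHom h) :
    ∃ (Q : Over (Spec (CommRingCat.of k))) (_ : GrpObj Q) (q : G ⟶ Q), IsMonHom q ∧
      Surjective q.left ∧ Flat q.left ∧ QuasiCompact q.left ∧ AlgGrp.IsKernel h q := by
  refine Groth.Agent.Sga3.H739.S4142Of.of_affineKernel k G H h hh hN ?_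
  obtain ⟨N, gN, n, hn1, hn2, hn3, hn4, K, _, _, hfin, Z, f, h1, h2, h3, h4, h5⟩ :=
    Groth.Agent.Sga3.H817.PerrinAB.exists_mono_mod k G
  have hmono : Mono n := by
    have : Mono n.left := inferInstance
    exact Over.mono_of_mono_left n
  obtain ⟨Q, gQ, q, q1, q2, q3, q4, q5, q6⟩ :=
    Groth.Agent.Sga3.H787.GenQuot.exists_quot n hn3 Z f h5
  exact ⟨N, Q, gN, gQ, n, q, hn1, q1, q6, hn4, q5⟩

end Groth.Agent.S4142
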