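import Groth.Statements.S4143
import Groth.Agent.Sga3.H823.Thick

set_option autoImplicit false
universe u
open CategoryTheory MonoidalCategory CartesianMonoidalCategory MonObj GrpObj AlgebraicGeometry CategoryTheory.Limits
open GrpQ

namespace Groth.Agent.S4143

open Groth.Agent.Sga3C.QuotRel in
/-- A groupoid with monomorphic `j` is an equivalence relation. -/
theorem isERel_of_groupoid {S : Scheme.{u}} (G : Grpd.GroupoidScheme S) [Mono G.j] :
    IsERel G.t G.s where
  mono := fun {T} x y h1 h2 => by
    rw [← cancel_mono G.j]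
    refine pullback.hom_ext ?_ ?_
    · rw [Grpd.GroupoidScheme.j, Category.assoc, Category.assoc, pullback.lift_fst, h1]
    · rw [Grpd.GroupoidScheme.j, Category.assoc, Category.assoc, pullback.lift_snd, h2]
  refl := fun a => ⟨a ≫ G.e, by rw [Category.assoc, G.e_t, Category.comp_id],
    by rw [Category.assoc, G.e_s, Category.comp_id]⟩
  symm := by
    rintro T a b ⟨r, rfl, rfl⟩
    exact ⟨r ≫ G.i, by rw [Category.assoc, G.i_t], by rw [Category.assoc, G.i_s]⟩
  trans := by
    rintro T a b c ⟨r₁, rfl, rfl⟩ ⟨r₂, h, rfl⟩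
    exact ⟨pullback.lift r₁ r₂ h.symm ≫ G.c, G.comp_t r₁ r₂ h.symm, G.comp_s r₁ r₂ h.symm⟩


/-- Let A be a ring and (U, R, s, t, c) a groupoid scheme over Spec A which is an equivalence relation
((t, s) a monomorphism) with s and t surjective, flat and of finite presentation. Let c₀ : U₀ → U be
a closed subscheme defined by a nilpotent ideal (a finite order thickening) which is saturated:
s⁻¹(U₀) and t⁻¹(U₀) are the same subscheme R₀ of R. If the induced equivalence relation R₀ ⇉ U₀ has
an fppf quotient scheme (a surjective flat locally finitely presented p₀ : U₀ → Y₀ with R₀ ≅ U₀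
×_{Y₀} U₀), then so does R ⇉ U. -/
theorem result (A : Type u) [CommRing A] (G : Grpd.GroupoidScheme (Spec (CommRingCat.of A)))
    [Mono G.j] [Surjective G.s] [Flat G.s] [LocallyOfFinitePresentation G.s] [QuasiCompact G.s] [QuasiSeparated G.s]
    [Surjective G.t] [Flat G.t] [LocallyOfFinitePresentation G.t] [QuasiCompact G.t] [QuasiSeparated G.t]
    (U₀ : Scheme.{u}) (c₀ : U₀ ⟶ G.U) (hc : MoreMor.IsFiniteOrderThickening c₀)
    (ψ : pullback G.s c₀ ≅ pullback G.t c₀) (hψ : ψ.hom ≫ pullback.fst G.t c₀ = pullback.fst G.s c₀)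
    (h₀ : ∃ (Y₀ : Scheme.{u}) (p₀ : U₀ ⟶ Y₀), Surjective p₀ ∧ Flat p₀ ∧ LocallyOfFinitePresentation p₀ ∧
      IsPullback (ψ.hom ≫ pullback.snd G.t c₀) (pullback.snd G.s c₀) p₀ p₀) :
    ∃ (Y : Scheme.{u}) (p : G.U ⟶ Y), Surjective p ∧ Flat p ∧ LocallyOfFinitePresentation p ∧ IsPullback G.t G.s p p := by
  have hR := isERel_of_groupoid G
  obtain ⟨Y₀, p₀, h1, h2, h3, h4⟩ := h₀
  have hcl : IsClosedImmersion c₀ := hc.1.1
  -- the two ways of thinking of the thin part of the relation
  have hψ' : ψ.inv ≫ pullback.fst G.s c₀ = pullback.fst G.t c₀ := by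
    rw [← hψ, Iso.inv_hom_id_assoc]
  have D : Groth.Agent.Sga3.H823.Thick.Data G.t G.s c₀ p₀ :=
    { closed := hc.1.1
      surj := hc.1.2
      nil := hc.2
      sat_left := fun {T} r a h => by
        refine ⟨pullback.lift r a h ≫ ψ.inv ≫ pullback.snd G.s c₀, ?_⟩
        rw [Category.assoc, Category.assoc, ← pullback.condition, ← Category.assoc ψ.inv, hψ',
          pullback.lift_fst_assoc]
      sat_right := fun {T} r b h => by
        refine ⟨pullback.lift r b h ≫ ψ.hom ≫ pullback.snd G.t c₀, ?_⟩
        rw [Category.assoc, Category.assoc, ← pullback.condition, ← Category.assoc ψ.hom, hψ,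
          pullback.lift_fst_assoc]
      flat := h2
      surjp := h1
      lfp := h3
      rel_iff := fun {T} a b => by
        constructor
        · intro hab
          refine ⟨h4.lift a b hab ≫ pullback.fst G.s c₀, ?_, ?_⟩
          · rw [Category.assoc, ← hψ, Category.assoc, pullback.condition, ← Category.assoc ψ.hom,
              ← Category.assoc, h4.lift_fst]
          · rw [Category.assoc, pullback.condition, ← Category.assoc, h4.lift_snd]
        · rintro ⟨r, hr1, hr2⟩
          let r₀ : T ⟶ pullback G.s c₀ := pullback.lift r b hr2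
          have e1 : r₀ ≫ pullback.snd G.s c₀ = b := pullback.lift_snd _ _ _
          have e2 : r₀ ≫ ψ.hom ≫ pullback.snd G.t c₀ = a := by
            rw [← cancel_mono c₀, Category.assoc, Category.assoc, ← pullback.condition,
              ← Category.assoc ψ.hom, hψ, pullback.lift_fst_assoc, hr1]
          have h5 := h4.w
          rw [Category.assoc] at h5
          rw [← e1, ← e2, Category.assoc, Category.assoc, h5, Category.assoc] }
  obtain ⟨Y, p, hp⟩ := Groth.Agent.Sga3.H823.Thick.exists_isQuot hR D
  exact ⟨Y, p, hp.surj, hp.flat, hp.lfp, hp.isPullback hR⟩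

end Groth.Agent.S4143
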