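import Groth.Statements.S4144
import Groth.Agent.Sga3.H832.AProp
import Groth.Agent.Sga3.H832.Asm4144

set_option autoImplicit false
universe u
open CategoryTheory MonoidalCategory CartesianMonoidalCategory MonObj GrpObj AlgebraicGeometry CategoryTheory.Limits
open SGA3x

namespace Groth.Agent.S4144

/-- Let G be an S-group scheme, smooth and of finite presentation over S, of unipotent rank zero, with
connected fibres, acquiring a maximal torus after an fpqc covering base change; let H be an S-group
scheme which is either of finite presentation over S or locally of finite type over a locally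
noetherian S, and u : G → H a homomorphism which is a monomorphism. Then u is an immersion. -/
theorem result (S : Scheme.{u}) (G H : Over S) [GrpObj G] [GrpObj H]
    [Smooth G.hom] [QuasiCompact G.hom] [QuasiSeparated G.hom] (hu0 : SGA3x.UnipotentRankZero G)
    (hT : SGA3x.HasMaxTorusFpqcLocally G) (hconn : ∀ s : S, _root_.IsConnected (G.hom.base ⁻¹' {s}))
    [LocallyOfFiniteType H.hom]
    (hH : (LocallyOfFinitePresentation H.hom ∧ QuasiCompact H.hom ∧ QuasiSeparated H.hom) ∨ IsLocallyNoetherian S)
    (u : G ⟶ H) [IsMonHom u] [Mono u] : IsImmersion u.left :=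
  Groth.Agent.Sga3.H832.Asm4144.s4144 Groth.Agent.Sga3.H832.AProp.aProp
    Groth.Agent.Sga3.H832.AProp.tProp S G H hu0 hT hconn hH u

end Groth.Agent.S4144
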