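import Groth.Statements.S4145
import Groth.Agent.Sga3.H825.DvrMain
import Groth.Agent.Sga3.H825.HypQ

set_option autoImplicit false
universe u
open CategoryTheory MonoidalCategory CartesianMonoidalCategory MonObj GrpObj AlgebraicGeometry CategoryTheory.Limits
open SGA3x

namespace Groth.Agent.S4145

/-- Let G be an S-group scheme, smooth and of finite presentation over S, whose fibres are affine and
connected and whose geometric fibres are solvable of unipotent rank zero; let H be an S-group scheme
of finite presentation and u : G → H a homomorphism which is a monomorphism. Then u is an immersion,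
and a closed immersion if H is separated over S. -/
theorem result (S : Scheme.{u}) (G H : Over S) [GrpObj G] [GrpObj H]
    [Smooth G.hom] [QuasiCompact G.hom] [QuasiSeparated G.hom] (hu0 : SGA3x.UnipotentRankZero G)
    (haff : ∀ s : S, IsAffine (pullback G.hom (S.fromSpecResidueField s)))
    (hconn : ∀ s : S, _root_.IsConnected (G.hom.base ⁻¹' {s}))
    (hsolv : ∀ s : S, Red.IsSolvableGrp (Red.geomFibre s G))
    [LocallyOfFinitePresentation H.hom] [QuasiCompact H.hom] [QuasiSeparated H.hom]
    (u : G ⟶ H) [IsMonHom u] [Mono u] :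
    IsImmersion u.left ∧ (IsSeparated H.hom → IsClosedImmersion u.left) := by
  have hP := Groth.Agent.Sga3.H825.HypQ.fibP_of_hyp G hu0 haff hconn hsolv
  have hV : ∀ b, Groth.Agent.Sga3.H825.RedDvr.ValLift b Groth.Agent.Sga3.H825.FieldQ.qProp.{u} :=
    fun b => Groth.Agent.Sga3.H825.RedDvr.valLift_of_dvrLift
      (fun G H _ _ _ _ _ _ _ _ u _ =>
        Groth.Agent.Sga3.H515.GrpModel.exists_noetherian_model G H u)
      b _ (Groth.Agent.Sga3.H825.DvrMain.dvrLift b)
  have hm : Mono u.left := Groth.Agent.Sga3.H825.RedDvr.mono_left u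
  have hqc : QuasiCompact u.left := by
    have : QuasiCompact (u.left ≫ H.hom) := by rw [Over.w]; infer_instance
    exact QuasiCompact.of_comp _ H.hom
  have hlft : LocallyOfFiniteType u.left := by
    have : LocallyOfFiniteType (u.left ≫ H.hom) := by rw [Over.w]; infer_instance
    exact locallyOfFiniteType_of_comp _ H.hom
  refine ⟨?_, fun hs => Groth.Agent.Sga3.H825.RedVal.isClosedImmersion_of_valLift (hV False)
    G H u hP⟩
  refine Groth.Agent.Sga3.H824.ImmVal.isImmersion_of_valuative u.left ?_
  intro R _ _ _ K _ _ _ y a b ha hb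
  refine Groth.Agent.Sga3.H825.RedVal.exists_lift_of_valLift (hV True) G H u hP
    (fun h => (h trivial).elim) R K a y ha (fun _ => ⟨b (IsLocalRing.closedPoint _), ?_⟩)
  have h1 : Spec.map (CommRingCat.ofHom (IsLocalRing.residue R))
      (IsLocalRing.closedPoint (IsLocalRing.ResidueField R)) = IsLocalRing.closedPoint R :=
    IsLocalRing.comap_closedPoint (IsLocalRing.residue R)
  rw [← Scheme.Hom.comp_apply, hb, Scheme.Hom.comp_apply, h1]

end Groth.Agent.S4145
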