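import Groth.Statements.S4185
import Groth.Agent.An.H862.AffTop

set_option autoImplicit false
open CategoryTheory AlgebraicGeometry Topology TopologicalSpace
open An

namespace Groth.Agent.S4185

/-- For X locally of finite type over ℂ the space X(ℂ) with its complex topology is locally compact. -/
theorem result (X : Scheme.{0}) [X.Over An.SC] [LocallyOfFiniteType (X ↘ An.SC)] :
    LocallyCompactSpace (An.Pts X) :=
  Groth.Agent.An.H862.AffTop.locallyCompactSpace

end Groth.Agent.S4185
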