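import Groth.Statements.S4219
import Groth.Agent.An.H891.Inputs

set_option autoImplicit false
open CategoryTheory AlgebraicGeometry Topology TopologicalSpace
open An

namespace Groth.Agent.S4219

/-- Let f : X → S be a morphism of finite type of schemes locally of finite type over ℂ. Then for every
q ≥ 0 the functors F ↦ (R^q f_* F)^an and F ↦ R^q f(ℂ)_* (F^an), from constructible torsion abelian
sheaves on X_et to sheaves on S(ℂ), are isomorphic. The published statement is that the base change
morphism between these two functors is an isomorphism; stated here: the two functors are isomorphic. -/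
theorem result (X S : Scheme.{0}) [X.Over An.SC] [S.Over An.SC]
    [LocallyOfFiniteType (X ↘ An.SC)] [LocallyOfFiniteType (S ↘ An.SC)] [Fact An.EtaleLH]
    [An.EpsCont X] [An.EpsCont S] [An.OpCont (An.Pts X)] [An.OpCont (An.Pts S)]
    (f : X ⟶ S) [f.IsOver An.SC] [QuasiCompact f] (q : ℕ) :
    Nonempty ((ObjectProperty.ι (fun F : EtCoh.Ab X => EtCoh.IsTorsion F ∧ EtPBC.IsConstructible F)) ⋙
        EtCoh.Rpush f q ⋙ An.anF S ≅
      (ObjectProperty.ι (fun F : EtCoh.Ab X => EtCoh.IsTorsion F ∧ EtPBC.IsConstructible F)) ⋙
        An.anF X ⋙ An.RpushTop (An.Pts.mapC f) q) :=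
  Groth.Agent.An.H862.Calc4219.rpush_of Groth.Agent.An.H891.Inputs.properIn
    Groth.Agent.An.H891.Inputs.gmIn Groth.Agent.An.H891.Inputs.mainIn X S f q

end Groth.Agent.S4219
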