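import Groth.Statements.S4222
import Groth.Agent.An.H894.Main
-- import your own Groth.Agent.* helpers here

set_option autoImplicit false
open CategoryTheory AlgebraicGeometry Topology TopologicalSpace
open An

namespace Groth.Agent.S4222

/-- Case (i), with S = Spec ℂ: for X proper over ℂ and F a torsion abelian sheaf on X_et, the canonical
map H^q(X_et, F) → H^q(X(ℂ)_cl, ε^* F) is bijective for every q. -/
theorem result (X : Scheme.{0}) [X.Over An.SC]
    [IsProper (X ↘ An.SC)] [Fact An.EtaleLH] [An.EpsCont X]
    [Limits.PreservesFiniteLimits (An.epsPull X)] (F : EtCoh.Ab X) (hF : EtCoh.IsTorsion F) (q : ℕ) :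
    Function.Bijective (An.Hcmp X F q) := by
  rw [Groth.Agent.An.H894.FormalEnd.Hcmp_eq_hc]
  exact Groth.Agent.An.H894.Main.hc_bijective X F hF q

end Groth.Agent.S4222
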