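import Groth.Statements.S4225
import Groth.Agent.An.H72.Tower
import Groth.Agent.An.H898.FibreTop
import Groth.Agent.An.H26.HigherPi

set_option autoImplicit false
open CategoryTheory AlgebraicGeometry Topology TopologicalSpace
open An

namespace Groth.Agent.S4225

/-- Let X be a connected good neighbourhood relative to Spec ℂ (that is, X is obtained from the point by
a tower of elementary fibrations), locally of finite type over ℂ, and x a ℂ-point. Then the homotopy
groups π_n(X(ℂ), x) of the space of ℂ-points (complex topology) are trivial for every n ≥ 2, so that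
X(ℂ) is a K(π, 1). -/
theorem result (X : Scheme.{0}) [X.Over An.SC] [LocallyOfFiniteType (X ↘ An.SC)]
    (hX : An.IsGoodNeighbourhood (X ↘ An.SC)) [ConnectedSpace ↥X] (x : An.Pts X) (n : ℕ) (hn : 2 ≤ n) :
    Subsingleton (HomotopyGroup (Fin n) (An.Pts X) x) := by
  rw [← Groth.Agent.An.H72.HTriv.htriv_iff]
  refine (Groth.Agent.An.H72.Tower.tower ?_ (X ↘ An.SC) hX (𝟙 An.SC)
    (Category.comp_id _).symm).2 x n hn
  intro X S _ _ f _ hf s y m hm
  have h1 : T2Space ↥(An.Pts.map f ⁻¹' {s}) := Groth.Agent.An.H898.FibreTop.t2Space f s hf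
  obtain ⟨p, B, hp, hcl, hfin, hcov, -⟩ := Groth.Agent.An.H898.FibreTop.exists_branched f s hf
  rw [Groth.Agent.An.H72.HTriv.htriv_iff]
  exact Groth.Agent.An.H26.HigherPi.subsingleton_homotopyGroup hp hcl hfin B hcov hm y

end Groth.Agent.S4225
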