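import Groth.Statements.S4226
import Groth.Agent.An.H898.HLPOf
import Groth.Agent.An.H898.TowerPi
import Groth.Agent.S4227

set_option autoImplicit false
open CategoryTheory AlgebraicGeometry Topology TopologicalSpace
open An

namespace Groth.Agent.S4226

/-- Let X be a connected good neighbourhood relative to Spec ℂ and x a ℂ-point. Then π₁(X(ℂ), x) is a
successive extension of free groups of finite type: it has a finite descending chain of subgroups
from the whole group to the trivial group, each normal in the previous one, whose successive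
quotients are finitely generated free groups. -/
theorem result (X : Scheme.{0}) [X.Over An.SC] [LocallyOfFiniteType (X ↘ An.SC)]
    (hX : An.IsGoodNeighbourhood (X ↘ An.SC)) [ConnectedSpace ↥X] (x : An.Pts X) :
    ∃ (m : ℕ) (N : Fin (m + 1) → Subgroup (FundamentalGroup (An.Pts X) x)),
      N 0 = ⊤ ∧ N (Fin.last m) = ⊥ ∧
      ∀ i : Fin m, N i.succ ≤ N i.castSucc ∧
        ∃ _ : ((N i.succ).subgroupOf (N i.castSucc)).Normal,
          IsFreeGroup (↥(N i.castSucc) ⧸ (N i.succ).subgroupOf (N i.castSucc)) ∧
          Group.FG (↥(N i.castSucc) ⧸ (N i.succ).subgroupOf (N i.castSucc)) := by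
  have hlp : An.H898.Assemble.HLP := An.H898.HLPOf.hlp_of
    (fun X S _ _ _ _ _ f _ hf s => Groth.Agent.S4227.result X S f hf s)
  exact An.H898.Assemble.polyFree_of hlp (An.H898.TowerPi.piTwo hlp)
    An.H898.CurvesPi.curves hX (𝟙 An.SC) (by rw [Category.comp_id]) inferInstance x

end Groth.Agent.S4226
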