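import Groth.Statements.S4228
-- import your own Groth.Agent.* helpers here
import Groth.Agent.An.H548.Chart
import Groth.Agent.An.H548.RelDim
import Groth.Agent.An.H548.JacOne
import Mathlib.RingTheory.Smooth.Locus

set_option autoImplicit false
open CategoryTheory AlgebraicGeometry
universe u
open An

namespace Groth.Agent.S4228

open TensorProduct KaehlerDifferential in
/-- The chart polynomial. -/
theorem exists_chart {k : Type u} [Field k] {A : Type u} [CommRing A] [Algebra k A] (n r : ℕ) (x : Fin n → A)
    (hx : Function.Surjective (MvPolynomial.aeval x : MvPolynomial (Fin n) k →ₐ[k] A)) (g : A)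
    (hg : (algebraMap k (Localization.Away g)).IsStandardSmoothOfRelativeDimension r) :
    ∃ G : MvPolynomial (Fin (n + 1)) k, G ≠ 0 ∧ ∀ (p : Ideal A) [p.IsPrime] (a : Fin (n + 1) → k), g ∉ p →
      (algebraMap k A (a 0) + ∑ i : Fin n, algebraMap k A (a i.succ) * x i) ∈ p →
      (1 : p.ResidueField) ⊗ₜ[A] D k A (algebraMap k A (a 0) + ∑ i : Fin n, algebraMap k A (a i.succ) * x i) = 0 →
      MvPolynomial.eval a G = 0 := by
  classical
  let E := Localization.Away g
  rcases subsingleton_or_nontrivial E with hE | hE
  · refine ⟨1, one_ne_zero, fun p _ a hgp _ _ => ?_⟩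
    exfalso
    have h1 : (0 : A) ∈ Submonoid.powers g := (IsLocalization.subsingleton_iff (S := E)).1 hE
    obtain ⟨m, hm⟩ := h1
    exact hgp (Ideal.IsPrime.mem_of_pow_mem inferInstance m (by rw [show g ^ m = 0 from hm]; exact zero_mem p))
  have hss' := hg
  rw [RingHom.isStandardSmoothOfRelativeDimension_algebraMap] at hss'
  have hss : Algebra.IsStandardSmooth k E := hss'.isStandardSmooth r
  have hfr : Module.Free E Ω[E⁄k] := inferInstance
  have hsm : Algebra.Smooth k E := inferInstance
  have hfi : Module.Finite E Ω[E⁄k] := inferInstance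
  have hrk : Module.finrank E Ω[E⁄k] = r := Module.finrank_eq_of_rank_eq hss'.rank_kaehlerDifferential
  let b : Module.Basis (Fin r) E Ω[E⁄k] := (Module.finBasis E Ω[E⁄k]).reindex (finCongr hrk)
  have hspan : Submodule.span E (Set.range fun i => D k E (algebraMap A E (x i))) = ⊤ := by
    rw [eq_top_iff, ← KaehlerDifferential.span_range_map_derivation_of_isLocalization k A E (Submonoid.powers g),
      Submodule.span_le]
    rintro _ ⟨s, rfl⟩
    obtain ⟨P, rfl⟩ := hx s
    simp only [Function.comp_apply, KaehlerDifferential.map_D]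
    induction P using MvPolynomial.induction_on with
    | C c =>
      rw [MvPolynomial.aeval_C, ← IsScalarTower.algebraMap_apply k A E, Derivation.map_algebraMap]
      exact zero_mem _
    | add P Q hP hQ =>
      rw [map_add, map_add, map_add]
      exact add_mem hP hQ
    | mul_X P i hP =>
      rw [map_mul, map_mul, Derivation.leibniz, MvPolynomial.aeval_X]
      exact add_mem (Submodule.smul_mem _ _ (Submodule.subset_span ⟨i, rfl⟩)) (Submodule.smul_mem _ _ hP)
  obtain ⟨G, hG0, hG⟩ := Groth.Agent.An.H548.Chart.exists_equation (fun i => algebraMap A E (x i)) b hspan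
    (fun p _ => Groth.Agent.An.H548.RelDim.trdeg_residueField_le r hg p)
  refine ⟨G, hG0, fun p _ a hgp hap hd => ?_⟩
  have hdis : Disjoint (Submonoid.powers g : Set A) (p : Set A) := by
    rw [Set.disjoint_left]
    rintro _ ⟨k, rfl⟩ hk
    exact hgp (Ideal.IsPrime.mem_of_pow_mem inferInstance k hk)
  let q : Ideal E := p.map (algebraMap A E)
  have hqp : q.IsPrime := IsLocalization.isPrime_of_isPrime_disjoint (Submonoid.powers g) E p inferInstance hdis
  have hqc : p = q.comap (algebraMap A E) :=
    (IsLocalization.under_map_of_isPrime_disjoint (Submonoid.powers g) E inferInstance hdis).symm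
  have heq : algebraMap A E (algebraMap k A (a 0) + ∑ i : Fin n, algebraMap k A (a i.succ) * x i) =
      algebraMap k E (a 0) + ∑ i : Fin n, algebraMap k E (a i.succ) * algebraMap A E (x i) := by
    simp only [map_add, map_sum, map_mul, ← IsScalarTower.algebraMap_apply]
  refine hG q a ?_ ?_
  · rw [← heq]; exact Ideal.mem_map_of_mem _ hap
  · rw [← heq]
    let fK : p.ResidueField →ₐ[A] q.ResidueField := Ideal.ResidueField.mapₐ p q (Algebra.ofId A E) hqc
    let M1 : p.ResidueField ⊗[A] Ω[A⁄k] →ₗ[A] q.ResidueField ⊗[A] Ω[E⁄k] :=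
      TensorProduct.map fK.toLinearMap (KaehlerDifferential.map k k A E)
    let M2 := TensorProduct.mapOfCompatibleSMul E A A q.ResidueField Ω[E⁄k]
    have h1 := congrArg (fun w => M2 (M1 w)) hd
    simp only [map_zero] at h1
    rw [← h1]
    simp only [M1, M2, TensorProduct.map_tmul, TensorProduct.mapOfCompatibleSMul_tmul, KaehlerDifferential.map_D]
    congr 1
    exact (map_one fK).symm


/-- In the affine hyperplane case to which the proof reduces (the published statement is for a
projective scheme V ⊆ P^n_k of pure dimension r and a general linear subspace of any dimension,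
parametrised by a dense open subset of the Grassmannian; part (ii), hypersurfaces of degree ≥ 2
through a point, is not stated here): let k be an infinite field (for a finite field the condition
below on coefficient vectors could hold at no rational point, so the dense-open formulation is
rendered only for infinite k) and A = k[x_1, …, x_n]/I a quotient of the polynomial ring (V = Spec A
⊆ A^n_k) such that every irreducible component of V has dimension r. Then there is a nonzero
polynomial g in the n + 1 coefficients such that for every a = (a_0, …, a_n) with g(a) ≠ 0 the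
hyperplane a_0 + Σ a_i x_i = 0 cuts V transversally at every point of the hyperplane section where V
is smooth over k: the section Spec (A/(a_0 + Σ a_i x_i)) is smooth over k of relative dimension r −
1 on a neighbourhood of each such point. -/
theorem result (k : Type u) [Field k] [Infinite k] (n r : ℕ) (A : Type u) [CommRing A]
    [Algebra k A] (x : Fin n → A)
    (hx : Function.Surjective (MvPolynomial.aeval x : MvPolynomial (Fin n) k →ₐ[k] A))
    (hdim : ∀ P ∈ minimalPrimes A, ringKrullDim (A ⧸ P) = r) :
    ∃ g : MvPolynomial (Fin (n + 1)) k, g ≠ 0 ∧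
      ∀ a : Fin (n + 1) → k, MvPolynomial.eval a g ≠ 0 →
        ∀ (q : Ideal (A ⧸ Ideal.span {algebraMap k A (a 0) + ∑ i : Fin n, algebraMap k A (a i.succ) * x i}))
          (_ : q.IsPrime),
          (∃ f : A, f ∉ q.comap (Ideal.Quotient.mk _) ∧
            Smooth (Spec.map (CommRingCat.ofHom (algebraMap k (Localization.Away f))))) →
          ∃ f : A ⧸ Ideal.span {algebraMap k A (a 0) + ∑ i : Fin n, algebraMap k A (a i.succ) * x i},
            f ∉ q ∧ SmoothOfRelativeDimension (r - 1)
              (Spec.map (CommRingCat.ofHom (algebraMap k (Localization.Away f)))) := by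
  classical
  have hft : Algebra.FiniteType k A := Algebra.FiniteType.iff_quotient_mvPolynomial''.2 ⟨n, MvPolynomial.aeval x, hx⟩
  have hfp : Algebra.FinitePresentation k A := Algebra.FinitePresentation.of_finiteType.1 inferInstance
  have hNA : IsNoetherianRing A := Algebra.FiniteType.isNoetherianRing k A
  let 𝒢 : Set A := {g | (algebraMap k (Localization.Away g)).IsStandardSmoothOfRelativeDimension r}
  obtain ⟨T, hT𝒢, hTs⟩ : ∃ T : Finset A, (T : Set A) ⊆ 𝒢 ∧ Ideal.span 𝒢 = Ideal.span (T : Set A) := by
    exact Submodule.fg_span_iff_fg_span_finset_subset 𝒢 |>.1 (IsNoetherian.noetherian _)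
  choose! G hG0 hG using fun g (hg : g ∈ 𝒢) => exists_chart n r x hx g hg
  refine ⟨∏ g ∈ T, G g, Finset.prod_ne_zero_iff.2 fun g hg => hG0 g (hT𝒢 hg), fun a ha q hq hsm => ?_⟩
  obtain ⟨f, hf, hsmf⟩ := hsm
  rw [HasRingHomProperty.Spec_iff (P := @Smooth)] at hsmf
  have hsmf' : Algebra.Smooth k (Localization.Away f) := by
    rw [← RingHom.smooth_algebraMap]; exact hsmf
  let p : Ideal A := q.comap (Ideal.Quotient.mk _)
  have hp : Algebra.IsSmoothAt k p :=
    Algebra.basicOpen_subset_smoothLocus_iff_smooth.2 hsmf' (show (⟨p, inferInstance⟩ : PrimeSpectrum A) ∈ PrimeSpectrum.basicOpen f from hf)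
  obtain ⟨g', hg', hstd'⟩ := Groth.Agent.An.H548.RelDim.exists_standardSmooth r hdim p hp
  obtain ⟨g, hgT, hgp⟩ : ∃ g ∈ T, g ∉ p := by
    by_contra hcon
    push Not at hcon
    have h1 : Ideal.span 𝒢 ≤ p := by rw [hTs, Ideal.span_le]; exact hcon
    exact hg' (h1 (Ideal.subset_span hstd'))
  refine Groth.Agent.An.H548.JacOne.exists_smoothOfRelativeDimension _ r q g hgp (hT𝒢 hgT) fun hd => ?_
  have h2 := hG g (hT𝒢 hgT) p a hgp (by
    change Ideal.Quotient.mk _ _ ∈ q
    rw [Ideal.Quotient.eq_zero_iff_mem.2 (Ideal.mem_span_singleton_self _)]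
    exact zero_mem q) hd
  apply ha
  rw [map_prod]
  exact Finset.prod_eq_zero hgT h2

end Groth.Agent.S4228
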