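import Groth.Statements.S4245
-- import your own Groth.Agent.* helpers here
import Groth.Agent.Sga4h.H616.Asm
import Groth.Agent.Sga4h.H912.TrCurve
import Groth.Agent.Sga4h.H913.HConst
import Groth.Agent.Sga4h.H925.LocAdd
import Groth.Agent.Sga4h.H923.Devissage
import Groth.Agent.Sga4h.H923.IsDev0
import Groth.Agent.Sga4h.H927.CycInv
import Groth.Agent.Sga4h.H927.ExtFac
import Groth.Agent.Sga4h.H146.FinPt

set_option autoImplicit false
universe u
open CategoryTheory CategoryTheory.Limits AlgebraicGeometry Opposite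
open scoped BigOperators
open SGA4h

namespace Groth.Agent.S4245

section

open Groth.Agent.Sga4h.H925.Defs Groth.Agent.Sga4h.H925.DetInv Groth.Agent.Sga4h.H912

variable (k K : Type u) [Field k] [Fintype k] [Field K] [Algebra k K]
    [IsAlgClosed K] [Algebra.IsAlgebraic k K] (Λ : Type) [Field Λ] [Finite Λ]
    [Fact FinFr.PullExact.{u}]

/-- Additivity of the defect of the trace formula. -/
theorem addHyp : TrPieces.AddHyp (k := k) K Λ :=
  fun b _ _ _ _ _ _ _ hS hf hg h1 h2 h3 =>
    Groth.Agent.Sga4h.H925.LocAdd.defect_add K (traceInv Λ) b hS hf hg h1 h2 h3 1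

/-- The formal properties of the vanishing of the defect. -/
theorem dev : ConstCover.IsDev0 (k := k) (Λ := Λ) (fun b L => defect K (traceInv Λ) b 1 L = 0) := by
  refine Groth.Agent.Sga4h.H923.IsDev0.isDev0 K (traceInv Λ) 1 (addHyp k K Λ) (fun b _ L hL x hx => ?_)
  have hf : Finite (_ : Type u) :=
    Groth.Agent.Sga4h.H927.ExtFac.finite_residueField b x (Groth.Agent.Sga4h.H146.FinPt.isClosed_singleton b x)
  exact Groth.Agent.Sga4h.H927.CycInv.locV_traceInv K b x L (Groth.Agent.Sga4h.H927.FinStalk.finFib_of_cons hL) hx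

/-- The inputs of the curve case: the constant sheaf is the Artin-Schreier comparison with coherent
cohomology (`H913.HConst`). -/
theorem inputs (hΛ : ringChar Λ = ringChar k) : TrCurve.Inputs (k := k) K Λ :=
  ⟨dev k K Λ, addHyp k K Λ, fun z _ _ => Groth.Agent.Sga4h.H913.HConst.defect_const hΛ z⟩

end

/-- (there for a Noetherian commutative reduced coefficient ring of characteristic p and K₀ ∈ D_ctf),
stated for the coefficient ring a finite field Λ of characteristic p = char k and K₀ a single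
constructible sheaf. Let k be a finite field, K an algebraic closure, X₀ separated of finite type
over k with a compactification j : X₀ → P₀ over k, and L a constructible etale sheaf of Λ-modules on
X₀. Then Σ_{x ∈ X₀(k)} Tr(F_x, L_x̄) = Σ_i (-1)^i Tr(F^*, H^i(P₀ ⊗_k K, j_! L)) in Λ. -/
theorem result (k K : Type u) [Field k] [Fintype k] [Field K] [Algebra k K]
    [IsAlgClosed K] [Algebra.IsAlgebraic k K] (Λ : Type) [Field Λ] [Finite Λ] (hΛ : ringChar Λ = ringChar k)
    [Fact FinFr.PullExact.{u}] {X₀ P₀ : Scheme.{u}} (a : X₀ ⟶ Spec (CommRingCat.of k))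
    [IsSeparated a] [LocallyOfFiniteType a] [QuasiCompact a]
    (j : X₀ ⟶ P₀) [IsOpenImmersion j] (b : P₀ ⟶ Spec (CommRingCat.of k)) [IsProper b] (hj : j ≫ b = a)
    (L : EtLam.Sheaf Λ X₀) (hL : EtLam.IsConstructible L) :
    ∑ᶠ x : FinFr.RatPt a, FinFr.locTrace (K := K) x.1 L =
      ∑ᶠ i : ℕ, (-1 : Λ) ^ i * LinearMap.trace Λ _ (FinFr.frobC (K := K) j b L i) := by
  refine Groth.Agent.Sga4h.H616.Asm.main (fun b _ L hL => ?_) a j b hj L hL
  exact Groth.Agent.Sga4h.H923.Devissage.main
    (Groth.Agent.Sga4h.H912.TrCurve.isDev (K := K) (Λ := Λ) (fun Λ₂ _ _ _ =>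
      inputs k K Λ₂ ((ringChar.eq Λ₂ (ringChar Λ)).trans hΛ))) b L hL

end Groth.Agent.S4245
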