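import Groth.Statements.S4328
import Groth.Agent.EtSix.H3.H0CrGen
import Groth.Agent.Etsix.H994.Assemble
import Groth.Agent.S0001

set_option autoImplicit false
universe u
open CategoryTheory CategoryTheory.Limits AlgebraicGeometry Opposite
attribute [local instance] HasDerivedCategory.standard
open EtSix

namespace Groth.Agent.S4328

/-- Every `ℤ/ℓ`-module has a basis. -/
theorem exists_basis (ℓ : ℕ) [Fact ℓ.Prime] (V : Type (u + 1)) [AddCommGroup V] [Module (ULift.{u + 1} (ZMod ℓ)) V] :
    ∃ T : Type (u + 1), Nonempty (Module.Basis T (ULift.{u + 1} (ZMod ℓ)) V) :=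
  ⟨_, ⟨Module.Basis.ofVectorSpace (ULift.{u + 1} (ZMod ℓ)) V⟩⟩

/-- Read on cohomology groups in the case S = Spec k with k algebraically closed, f and g proper, and
coefficients the field Λ = Z/ℓ (ℓ any prime): let X and Y be proper over k, K a sheaf of Λ-modules
on the small etale site of X and L one on that of Y. Then for every n the cross product map from the
direct sum over i ≤ n of H^i(X, K) ⊗ H^{n-i}(Y, L) to H^n(X ×_k Y, K ⊠ L), a ⊗ b ↦ pr₁^* a ∪ pr₂^*
b, is bijective. Cohomology is Ext from the constant sheaf in the category of sheaves of Λ-modules,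
K ⊠ L = pr₁^* K ⊗ pr₂^* L, and ∪ is the Yoneda cup product; the exactness of the two inverse images
and of pr₁^* K ⊗ - needed to define it is recorded as instance hypotheses (they hold, Λ being a
field). The published statement is that the Künneth morphism Rf_! K ⊗^L Rg_! L -> R(f × g)_! (K ⊠^L
L) in the derived category is an isomorphism; with field coefficients and proper f, g it reads on
cohomology as the displayed bijection. -/
theorem result (k : Type u) [Field k] [IsAlgClosed k] {X Y : Scheme.{u}}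
    (f : X ⟶ Spec (CommRingCat.of k)) [IsProper f] (g : Y ⟶ Spec (CommRingCat.of k)) [IsProper g]
    (ℓ : ℕ) [Fact ℓ.Prime] (K : EtModW.Mod (ULift.{u + 1} (ZMod ℓ)) X) (L : EtModW.Mod (ULift.{u + 1} (ZMod ℓ)) Y)
    [PreservesFiniteLimits (EtModW.pull (ULift.{u + 1} (ZMod ℓ)) (pullback.fst f g))]
    [PreservesFiniteLimits (EtModW.pull (ULift.{u + 1} (ZMod ℓ)) (pullback.snd f g))]
    [PreservesFiniteLimits ((EtModD.tensorBi (ULift.{u + 1} (ZMod ℓ)) (pullback f g)).obj ((EtModW.pull (ULift.{u + 1} (ZMod ℓ)) (pullback.fst f g)).obj K))]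
    [PreservesFiniteColimits ((EtModD.tensorBi (ULift.{u + 1} (ZMod ℓ)) (pullback f g)).obj ((EtModW.pull (ULift.{u + 1} (ZMod ℓ)) (pullback.fst f g)).obj K))]
    (n : ℕ) :
    Function.Bijective (EtSix.crossSum (ULift.{u + 1} (ZMod ℓ)) f g K L n) := by
  have hΛ : (ℓ : ULift.{u + 1} (ZMod ℓ)) = 0 := Groth.Agent.EtSix.H3.H0.cast_eq_zero ℓ
  have hint := Groth.Agent.EtSix.H3.H0.exists_int.{u} ℓ
  exact Groth.Agent.Etsix.H994.Assemble.main (ULift.{u + 1} (ZMod ℓ)) f g
    (fun X Y X' Y' f g f' g' h _ F hF q => (Groth.Agent.S0001.result X Y X' Y' f g f' g' h F hF).1 q)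
    (fun M _ _ => by
      obtain ⟨T, ⟨b⟩⟩ := exists_basis ℓ M
      exact Module.Free.of_basis b)
    ℓ hΛ
    (fun K L => Groth.Agent.EtSix.H3.H0Gen.exists_push_boxtimes f g K L (Fact.out : ℓ.Prime).pos hΛ hint
      (fun V => exists_basis ℓ V))
    (hPL := Groth.Agent.Etsix.H994.CrossFun.preservesFiniteLimits_tensorBi_obj_zmod ℓ _)
    (fun I J _ _ => Groth.Agent.EtSix.H3.H0CrGen.h0 (ULift.{u + 1} (ZMod ℓ)) ℓ f g
      (hPL := Groth.Agent.Etsix.H994.CrossFun.preservesFiniteLimits_tensorBi_obj_zmod ℓ _) hΛ hint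
      (fun V => exists_basis ℓ V) I J) K L n

end Groth.Agent.S4328
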