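import Groth.Statements.S4246
import Groth.Agent.S4328
import Groth.Agent.Sga4h.H914.Final

set_option autoImplicit false
universe u
open CategoryTheory CategoryTheory.Limits AlgebraicGeometry Opposite
open scoped BigOperators
open SGA4h

namespace Groth.Agent.S4246

/-- Stated with coefficients in a finite field Λ whose characteristic is invertible in k in place of Q_ℓ
(so the count of fixed points is read in Λ). Let k be algebraically closed, p : X → Spec k proper
and smooth, and f a k-endomorphism of X whose fixed-point scheme (graph of f intersected with the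
diagonal in X ×_k X) is finite over k. Then Σ_i (-1)^i Tr(f^* | H^i(X_et, Λ)) equals, in Λ, the
number of fixed points of f counted with multiplicity, i.e. the k-dimension of the ring of functions
of the fixed-point scheme. -/
theorem result (k : Type u) [Field k] [IsAlgClosed k]
    (Λ : Type) [Field Λ] [Finite Λ] (hΛ : (ringChar Λ : k) ≠ 0) [Fact FinFr.PullExact.{u}]
    {X : Scheme.{u}} (p : X ⟶ Spec (CommRingCat.of k)) [IsProper p] [Smooth p]
    (f : X ⟶ X) (hf : f ≫ p = p) [IsFinite (FinFr.fixSchemeTo p f hf)] :
    ∑ᶠ i : ℕ, (-1 : Λ) ^ i * LinearMap.trace Λ _ (FinFr.endConst (Λ := Λ) f i) =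
      (FinFr.fixCount p f hf : Λ) :=
  Groth.Agent.Sga4h.H914.Final.main k
    (fun ℓ _ {X} p _ n => Groth.Agent.S4328.result k p p ℓ
      (EtModW.constMod (ULift.{u + 1} (ZMod ℓ)) X (ULift.{u + 1} (ZMod ℓ)))
      (EtModW.constMod (ULift.{u + 1} (ZMod ℓ)) X (ULift.{u + 1} (ZMod ℓ))) n)
    Λ hΛ p f hf

end Groth.Agent.S4246
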