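import Groth.Statements.S4251
import Groth.Agent.Sga4h.H919.Kl13
import Groth.Agent.Sga4h.H599.ZeroFin
import Groth.Agent.Sga4h.H555.AZeroFin
import Groth.Agent.Sga4h.H555.AUnitFin
-- import your own Groth.Agent.* helpers here

set_option autoImplicit false
universe u
open CategoryTheory CategoryTheory.Limits AlgebraicGeometry Opposite
open scoped BigOperators
open SGA4h

namespace Groth.Agent.S4251

/-- Let k be a finite field, K an algebraically closed extension, Λ a finite field of characteristic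
invertible in k, ψ a nontrivial additive character of k with values in Λ, n ≥ 1, and L the
Artin–Schreier sheaf of ψ(x_1 + ⋯ + x_n) on A^n_k (the rank-one sheaf that becomes constant on the
cover z^q - z = Σ x_i and whose geometric Frobenius at points with values in a finite extension k'
has trace ψ(Tr_{k'/k} Σ x_i)). For a ∈ K let V_a ⊂ A^n_K be the hypersurface x_1 ⋯ x_n = a, and L_a
the pullback of L to V_a. Then for every compactification j : V_a → P over K: (i) H^i(P, j_! L_a) =
0 for i ≠ n - 1; (ii) the forget-supports maps are bijective, i.e. pullback along j is bijective on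
the cohomology of j_! L_a in every degree; (iii) if a ≠ 0, H^{n-1}(P, j_! L_a) has dimension n over
Λ; (iv) if a = 0 it has dimension 1 (the dimension part of (iv)). -/
theorem result (k K : Type u) [Field k] [Fintype k] [Field K] [Algebra k K]
    [IsAlgClosed K] [Algebra.IsAlgebraic k K] (Λ : Type) [Field Λ] [Finite Λ] (hΛ : (ringChar Λ : k) ≠ 0)
    [Fact FinFr.PullExact.{u}] (ψ : AddChar k Λ) (hψ : ψ ≠ 1) (n : ℕ) (hn : 1 ≤ n)
    (L : EtLam.Sheaf Λ (Spec (CommRingCat.of (MvPolynomial (Fin n) k))))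
    (hL : LangSh.IsASSheaf K ψ (∑ i : Fin n, MvPolynomial.X i : MvPolynomial (Fin n) k) L) (a : K)
    {P : Scheme.{u}}
    (j : Spec (CommRingCat.of (MvPolynomial (Fin n) K ⧸
      Ideal.span {(∏ i : Fin n, MvPolynomial.X i) - MvPolynomial.C a})) ⟶ P) [IsOpenImmersion j]
    (b : P ⟶ Spec (CommRingCat.of K)) [IsProper b]
    (hj : j ≫ b = Spec.map (CommRingCat.ofHom (algebraMap K (MvPolynomial (Fin n) K ⧸
      Ideal.span {(∏ i : Fin n, MvPolynomial.X i) - MvPolynomial.C a})))) :
    (∀ i : ℕ, i ≠ n - 1 → Subsingleton (EtCoh.H P (FinFr.extZeroLam j (EtLam.pullback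
        (Spec.map (CommRingCat.ofHom (Ideal.Quotient.mk (Ideal.span {(∏ i : Fin n, MvPolynomial.X i) - MvPolynomial.C a}))) ≫
          Spec.map (CommRingCat.ofHom (MvPolynomial.map (algebraMap k K)))) L)).carrier i)) ∧
    (∀ i : ℕ, Function.Bijective (FinFr.HpullF j (FinFr.extZeroLam j (EtLam.pullback
        (Spec.map (CommRingCat.ofHom (Ideal.Quotient.mk (Ideal.span {(∏ i : Fin n, MvPolynomial.X i) - MvPolynomial.C a}))) ≫
          Spec.map (CommRingCat.ofHom (MvPolynomial.map (algebraMap k K)))) L)).carrier i)) ∧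
    (a ≠ 0 → Module.finrank Λ (EtCoh.H P (FinFr.extZeroLam j (EtLam.pullback
        (Spec.map (CommRingCat.ofHom (Ideal.Quotient.mk (Ideal.span {(∏ i : Fin n, MvPolynomial.X i) - MvPolynomial.C a}))) ≫
          Spec.map (CommRingCat.ofHom (MvPolynomial.map (algebraMap k K)))) L)).carrier (n - 1)) = n) ∧
    (a = 0 → Module.finrank Λ (EtCoh.H P (FinFr.extZeroLam j (EtLam.pullback
        (Spec.map (CommRingCat.ofHom (Ideal.Quotient.mk (Ideal.span {(∏ i : Fin n, MvPolynomial.X i) - MvPolynomial.C a}))) ≫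
          Spec.map (CommRingCat.ofHom (MvPolynomial.map (algebraMap k K)))) L)).carrier (n - 1)) = 1) := by
  by_cases ha : a = 0
  · have h1 := Groth.Agent.Sga4h.H599.ZeroFin.parts k K Λ hΛ ψ hψ n hn L hL a ha j b hj
    exact ⟨h1.1, Groth.Agent.Sga4h.H555.AZeroFin.part k K Λ hΛ ψ hψ n hn L hL a ha j b hj,
      fun h => absurd ha h, fun _ => h1.2⟩
  · have h1 := Groth.Agent.Sga4h.H919.Kl13.parts k K Λ hΛ ψ hψ n hn L hL a ha j b hj
    exact ⟨h1.1, Groth.Agent.Sga4h.H555.AUnitFin.part k K Λ hΛ ψ hψ n hn L hL a ha j b hj,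
      fun _ => h1.2, fun h => absurd h ha⟩

end Groth.Agent.S4251
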