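import Groth.Statements.S4254
-- import your own Groth.Agent.* helpers here

import Groth.Agent.S3122
import Groth.Agent.Etrest.FinCons
import Groth.Agent.Models.DVRGeneric

set_option autoImplicit false
universe u
open CategoryTheory CategoryTheory.Limits AlgebraicGeometry Opposite
open SGA4h

namespace Groth.Agent.S4254

/-- Let R be a strictly henselian discrete valuation ring with fraction field K_R and residue field κ, S
= Spec R, n invertible in R, f : X → S of finite type, j : X_η → X the inclusion of the generic
fibre and i : X_s → X that of the closed fibre. For every constructible abelian sheaf F on X_η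
killed by n and every q, the sheaf i^* R^q j_* F on X_s is constructible. -/
theorem result (R K : Type u) [CommRing R] [IsDomain R]
    [IsDiscreteValuationRing R] (hR : EtCoh.IsStrictlyHenselianLocalRing R) [Field K] [Algebra R K] [IsFractionRing R K]
    (n : ℕ) (hn : IsUnit (n : R)) {X : Scheme.{u}} (f : X ⟶ Spec (CommRingCat.of R)) [LocallyOfFiniteType f] [QuasiCompact f]
    (F : EtCoh.Ab (pullback f (Spec.map (CommRingCat.ofHom (algebraMap R K))))) (hF : EtPBC.IsConstructible F)
    (hFn : EtCoh.KilledBy n F) (q : ℕ) :
    EtPBC.IsConstructible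
      ((EtCoh.pull (pullback.fst f (Spec.map (CommRingCat.ofHom (IsLocalRing.residue R))))).obj
        ((EtCoh.Rpush (pullback.fst f (Spec.map (CommRingCat.ofHom (algebraMap R K)))) q).obj F)) := by
  have h0 := Groth.Agent.Models.DVRGeneric.isOpenImmersion_generic R K
  have h1 : IsNoetherian (Spec (CommRingCat.of R)) := inferInstance
  have hreg : ∀ s : Spec (CommRingCat.of R),
      IsRegularLocalRing ((Spec (CommRingCat.of R)).presheaf.stalk s) := by
    intro s
    have h2 : IsRegularLocalRing (Localization.AtPrime s.asIdeal) := inferInstance
    exact IsRegularLocalRing.of_ringEquiv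
      (StructureSheaf.stalkIso (CommRingCat.of R) s).toRingEquiv
  have hdim : topologicalKrullDim (Spec (CommRingCat.of R)) ≤ 1 := by
    have h3 := PrimeSpectrum.topologicalKrullDim_eq_ringKrullDim (R := R)
    have h4 : ringKrullDim R ≤ 1 := Ring.krullDimLE_iff.1 inferInstance
    exact h3.trans_le h4
  have hnS : IsUnit (n : Γ(Spec (CommRingCat.of R), ⊤)) := by
    have := hn.map (Scheme.ΓSpecIso (CommRingCat.of R)).inv.hom
    rwa [map_natCast] at this
  have h5 := Groth.Agent.S3122.result hreg hdim n hnS
    (pullback.fst f (Spec.map (CommRingCat.ofHom (algebraMap R K))) ≫ f) f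
    (pullback.fst f (Spec.map (CommRingCat.ofHom (algebraMap R K)))) rfl F hF hFn q
  exact Groth.Agent.Etrest.FinCons.cons_pull _ h5

end Groth.Agent.S4254
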