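import Groth.Statements.S4255
import Groth.Agent.Etcore.LPres
import Groth.Agent.Etcore.LFreePull
import Groth.Agent.Etcore.LFreeGerm
import Groth.Agent.Sga4h.LamSerreFin
import Mathlib.CategoryTheory.Sites.Point.Skyscraper
import Mathlib.Algebra.Category.ModuleCat.Biproducts
import Mathlib.RingTheory.Flat.Basic

set_option autoImplicit false
universe u
open CategoryTheory CategoryTheory.Limits AlgebraicGeometry Opposite
open SGA4h

namespace Groth.Agent.S4255

open Groth.Agent.Etbase Groth.Agent.Etcore Groth.Agent.EtpbcA Groth.Agent.Etcore.LVan Groth.Agent.Etcore.LFreeGen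
open Groth.Agent.Etcore.LFree Groth.Agent.Sga4h

attribute [local instance] Abelian.hasFiniteBiproducts

variable {Λ : Type (u + 1)} [CommRing Λ] {X : Scheme.{u}}

/-- Sections lift locally along an epimorphism, over affine étale neighbourhoods. -/
theorem exists_lift {A B : EtModW.Mod Λ X} (v : A ⟶ B) [Epi v] (U : X.Etale)
    (s : EtModW.sect Λ B U) (x : U.left) :
    ∃ (V : X.Etale) (_ : IsAffine V.left) (g : V ⟶ U) (w : V.left) (a : EtModW.sect Λ A V),
      g.left w = x ∧ ev v V a = res B g s := by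
  obtain ⟨V, g, y, a, hy, ha⟩ := (epi_iff v).1 inferInstance U s x
  obtain ⟨W, k, w, hW, hw, -⟩ := exists_affine_nhd V y
  refine ⟨W, hW, k ≫ g, w, res A k a, ?_, ?_⟩
  · rw [← hy, ← hw]
    rfl
  · rw [← res_ev, ha, res_comp]

/-- The stalks of a finite sum of sheaves `Λ[U]` are flat. -/
theorem flat_stalk {n : ℕ} (U : Fin n → X.Etale) (Ω : Type u) [Field Ω] [IsSepClosed Ω]
    (ξ : Spec (CommRingCat.of Ω) ⟶ X) :
    Module.Flat Λ ((EtModW.stalk Λ ξ).obj (⨁ fun i => LM Λ (U i))) := by
  have : PreservesFiniteColimits (EtModW.stalk Λ ξ) := inferInstance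
  have : PreservesBiproductsOfShape (Fin n) (EtModW.stalk Λ ξ) :=
    preservesBiproductsOfShape_of_preservesCoproductsOfShape _
  let e : (EtModW.stalk Λ ξ).obj (⨁ fun i => LM Λ (U i)) ≅
      ModuleCat.of Λ (∀ i, (EtModW.stalk Λ ξ).obj (LM Λ (U i))) :=
    (EtModW.stalk Λ ξ).mapBiproduct _ ≪≫ ModuleCat.biproductIsoPi _
  have h : ∀ i, Module.Free Λ ((EtModW.stalk Λ ξ).obj (LM Λ (U i))) := fun i =>
    Module.Free.of_equiv (LFreeGerm.stalkEquiv ξ (U i))
  have h1 : Module.Free Λ (∀ i, (EtModW.stalk Λ ξ).obj (LM Λ (U i))) := inferInstance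
  have h2 : Module.Flat Λ (∀ i, (EtModW.stalk Λ ξ).obj (LM Λ (U i))) := inferInstance
  exact Module.Flat.of_linearEquiv e.toLinearEquiv

/-- Let X be a Noetherian scheme, Λ a commutative Noetherian ring, and v : A → B an epimorphism of etale
sheaves of Λ-modules on X with B constructible. Then there exist a constructible sheaf of Λ-modules
K whose stalks at all geometric points are flat Λ-modules, and a morphism u : K → A such that u ≫ v
is an epimorphism. -/
theorem result {X : Scheme.{u}} [IsNoetherian X]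
    (Λ : Type (u + 1)) [CommRing Λ] [IsNoetherianRing Λ] {A B : EtModW.Mod Λ X} (v : A ⟶ B) [Epi v]
    (hB : EtModW.IsConstructible Λ B) :
    ∃ (K : EtModW.Mod Λ X) (w : K ⟶ A), EtModW.IsConstructible Λ K ∧
      (∀ (Ω : Type u) [Field Ω] [IsSepClosed Ω] (ξ : Spec (CommRingCat.of Ω) ⟶ X), Module.Flat Λ ((EtModW.stalk Λ ξ).obj K)) ∧
      Epi (w ≫ v) := by
  obtain ⟨n, U, hU, s, hs⟩ := LPres.exists_generators hB
  choose V hV g w a hw ha using fun (i : Fin n) (x : (U i).left) => exists_lift v (U i) (s i) x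
  have hcov : ∀ i, ∃ t : Finset (U i).left, ∀ x : (U i).left, ∃ y ∈ t, x ∈ Set.range (g i y).left := by
    intro i
    have := hU i
    have hcomp : CompactSpace (U i).left := inferInstance
    obtain ⟨t, ht⟩ := isCompact_univ.elim_finite_subcover (fun y : (U i).left => Set.range (g i y).left)
      (fun y => by
        have : Etale (g i y).left := inferInstance
        exact (g i y).left.isOpenMap.isOpen_range)
      (fun x _ => Set.mem_iUnion.2 ⟨x, w i x, hw i x⟩)
    exact ⟨t, fun x => by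
      obtain ⟨y, hy, hx⟩ := Set.mem_iUnion₂.1 (ht (Set.mem_univ x))
      exact ⟨y, hy, hx⟩⟩
  choose t ht using hcov
  obtain ⟨m, ⟨e⟩⟩ := Finite.exists_equiv_fin (Σ i : Fin n, {y // y ∈ t i})
  let W : Fin m → X.Etale := fun j => V (e.symm j).1 (e.symm j).2.1
  have hW : ∀ j, IsAffine (W j).left := fun j => hV _ _
  let b : ∀ j, EtModW.sect Λ A (W j) := fun j => a (e.symm j).1 (e.symm j).2.1
  refine ⟨⨁ fun j => LM Λ (W j), biproduct.desc fun j => desc (b j), ?_, ?_, ?_⟩
  · refine LamSerre.isConstructible_biproduct _ fun j => ?_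
    have := hW j
    exact LFreePull.isConstructible_LM_of_affine (W j)
  · intro Ω _ _ ξ
    exact flat_stalk W Ω ξ
  · refine epi_of_generates U s (fun i x => ?_) hs
    obtain ⟨y, hy, z, hz⟩ := ht i x
    have key : ∀ (p : Σ i : Fin n, {y // y ∈ t i}) (j : Fin m) (_ : e.symm j = p)
        (z : (V p.1 p.2.1).left), LocRange (biproduct.desc (fun j => desc (b j)) ≫ v)
        (s p.1) ((g p.1 p.2.1).left z) := by
      rintro p j rfl z
      refine ⟨W j, g _ _, z, ev (biproduct.ι (fun j => LM Λ (W j)) j) (W j) (gen Λ (W j)), rfl, ?_⟩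
      rw [← comp_ev, biproduct.ι_desc_assoc, comp_ev, desc_gen]
      exact ha _ _
    rw [← hz]
    exact key ⟨i, ⟨y, hy⟩⟩ (e ⟨i, ⟨y, hy⟩⟩) (e.symm_apply_apply _) z

end Groth.Agent.S4255
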