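import Groth.Statements.S4260
import Groth.Agent.Sga4h.H927.PtFrob
import Groth.Agent.Sga4h.H927.PtFin
import Groth.Agent.Sga4h.H927.ExtZeroId

set_option autoImplicit false
universe u
open CategoryTheory CategoryTheory.Limits AlgebraicGeometry Opposite
open scoped BigOperators
open SGA4h

namespace Groth.Agent.S4260

open Groth.Agent.Sga4h.H927

/-- Stated with coefficients a finite field Λ of characteristic invertible in k and a single sheaf: let
k be a finite field, K an algebraic closure, a : X₀ → Spec k finite, and L an etale sheaf of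
Λ-modules on X₀ which is constructible. Then Σ_{x ∈ X₀(k)} Tr(F_x, L_x̄) = Σ_i (-1)^i Tr(F^*, H^i(X₀
⊗_k K, L)), where the right side is computed through the trivial compactification (X₀ is proper over
k). -/
theorem result (k K : Type u) [Field k] [Fintype k] [Field K] [Algebra k K]
    [IsAlgClosed K] [Algebra.IsAlgebraic k K] (Λ : Type) [Field Λ] [Finite Λ] (hΛ : (ringChar Λ : k) ≠ 0)
    [Fact FinFr.PullExact.{u}] {X₀ : Scheme.{u}} (a : X₀ ⟶ Spec (CommRingCat.of k)) [IsFinite a]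
    (L : EtLam.Sheaf Λ X₀) (hL : EtLam.IsConstructible L) :
    ∑ᶠ x : FinFr.RatPt a, FinFr.locTrace (K := K) x.1 L =
      ∑ᶠ i : ℕ, (-1 : Λ) ^ i * LinearMap.trace Λ _ (FinFr.frobC (K := K) (𝟙 X₀) a L i) := by
  have hfin : ∀ ξ : FrobFix.KPt K a, Module.Finite Λ (HMod.HM (EtLam.pullback ξ.1 L) 0) :=
    fun ξ => PtFin.finite_HM L hL ξ.1
  have hK : IsFinite (FinFr.extStr K a) := inferInstance
  have h0 : LinearMap.trace Λ _ (FinFr.frobC (K := K) (𝟙 X₀) a L 0) =
      ∑ᶠ x : FinFr.RatPt a, FinFr.locTrace (K := K) x.1 L :=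
    ((PtFrob.trace_frob_eq a (FinFr.extZeroLam (𝟙 X₀) L) 0).trans
      (HMod.trace_galHM_congr a _ (ExtZeroId.lamHom L) (ExtZeroId.lamHom_act L) 0)).trans
      (PtFrob.trace_galHM_zero a L hfin)
  have h2 : ∀ i : ℕ, i ≠ 0 → (-1 : Λ) ^ i *
      LinearMap.trace Λ _ (FinFr.frobC (K := K) (𝟙 X₀) a L i) = 0 := fun i hi => by
    refine (congrArg _ ?_).trans (mul_zero _)
    refine (PtFrob.trace_frob_eq a (FinFr.extZeroLam (𝟙 X₀) L) i).trans ?_
    have := PtFin.subsingleton_HM (FinFr.extStr K a)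
      (EtLam.pullback (FinFr.extπ K a) (FinFr.extZeroLam (𝟙 X₀) L)) i (Nat.pos_of_ne_zero hi)
    have h1 : HMod.galHM (K := K) a (FinFr.arith k K).symm (FinFr.extZeroLam (𝟙 X₀) L) i = 0 :=
      LinearMap.ext fun x => Subsingleton.elim _ _
    rw [h1, map_zero]
  refine Eq.symm ((finsum_eq_single _ 0 h2).trans ?_)
  rw [pow_zero, one_mul]
  exact h0

end Groth.Agent.S4260
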