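import Groth.Statements.S4262
import Groth.Agent.Sga4h.H137.S4262Cond
import Groth.Agent.Sga4h.H929.HypProof

set_option autoImplicit false
universe u
open CategoryTheory CategoryTheory.Limits AlgebraicGeometry Opposite
open scoped BigOperators
open LaurentPolynomial
open SGA4h

namespace Groth.Agent.S4262

/-- Let k be a finite field, K an algebraically closed algebraic extension field of k, Λ a finite field
whose characteristic is invertible in k, ψ a nontrivial additive character of k with values in Λ, n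
≥ 1, L the Artin–Schreier sheaf of ψ(x_1 + ⋯ + x_n) on A^n_k, L_K its pullback to A^n_K, π : A^n_K →
A^1_K = Spec K[X] the product of coordinates and (j, f) a compactification of π (j : A^n_K → P an
open immersion, f : P → A^1_K proper, f ∘ j = π); put R = R^{n-1} f_* (j_! L_K) (this is R^{n-1} π_!
L_K) and let ι : G_{m,K} = Spec K[T, T⁻¹] → A^1_K be the inclusion. Then (a) the unit R → ι_* ι^* R
is an isomorphism (R is the direct image of its restriction to G_m); (b) for the inclusion ι' :
G_{m,K} → Spec K[S], S ↦ T⁻¹, of G_m into the affine line around infinity, the stalk of ι'_* ι^* R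
at the point S = 0 vanishes. Equivalently, the extension by zero of R to P^1 is the direct image of
its restriction to G_m. -/
theorem result (k K : Type u) [Field k] [Fintype k] [Field K] [Algebra k K]
    [IsAlgClosed K] [Algebra.IsAlgebraic k K] (Λ : Type) [Field Λ] [Finite Λ] (hΛ : (ringChar Λ : k) ≠ 0)
    [Fact FinFr.PullExact.{u}] (ψ : AddChar k Λ) (hψ : ψ ≠ 1) (n : ℕ) (hn : 1 ≤ n)
    (L : EtLam.Sheaf Λ (Spec (CommRingCat.of (MvPolynomial (Fin n) k))))
    (hL : LangSh.IsASSheaf K ψ (∑ i : Fin n, MvPolynomial.X i : MvPolynomial (Fin n) k) L)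
    {P : Scheme.{u}} (j : Spec (CommRingCat.of (MvPolynomial (Fin n) K)) ⟶ P) [IsOpenImmersion j]
    (f : P ⟶ Spec (CommRingCat.of (Polynomial K))) [IsProper f]
    (hj : j ≫ f = Spec.map (CommRingCat.ofHom (Polynomial.aeval (∏ i : Fin n, MvPolynomial.X i : MvPolynomial (Fin n) K)).toRingHom)) :
    IsIso ((EtCoh.pullPushAdj (Spec.map (CommRingCat.ofHom (Polynomial.toLaurent : Polynomial K →+* K[T;T⁻¹])))).unit.app
      ((EtCoh.Rpush f (n - 1)).obj ((EtShriek.extZero j).obj (EtLam.pullback (Spec.map (CommRingCat.ofHom (MvPolynomial.map (algebraMap k K) : MvPolynomial (Fin n) k →+* MvPolynomial (Fin n) K))) L).carrier))) ∧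
    IsZero ((EtCoh.pull (Spec.map (CommRingCat.ofHom (Polynomial.evalRingHom (0 : K))))).obj
      ((EtCoh.push (Spec.map (CommRingCat.ofHom (Polynomial.aeval (T (-1) : K[T;T⁻¹])).toRingHom))).obj
        ((EtCoh.pull (Spec.map (CommRingCat.ofHom (Polynomial.toLaurent : Polynomial K →+* K[T;T⁻¹])))).obj
          ((EtCoh.Rpush f (n - 1)).obj ((EtShriek.extZero j).obj (EtLam.pullback (Spec.map (CommRingCat.ofHom (MvPolynomial.map (algebraMap k K) : MvPolynomial (Fin n) k →+* MvPolynomial (Fin n) K))) L).carrier))))) := by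
  exact Groth.Agent.Sga4h.H137.S4262Cond.main Groth.Agent.Sga4h.H929.HP.Smooth.smoothBC
    Groth.Agent.Sga4h.H929.HP.Fin.finCons Groth.Agent.Sga4h.H929.HP.Proper.properBC
    Groth.Agent.Sga4h.H929.HP.Line.lineAcyc Groth.Agent.Sga4h.H929.HP.Shriek.shriekProper
    Groth.Agent.Sga4h.H929.HP.Aff.affCurve k K Λ hΛ ψ hψ n hn L hL j f hj

end Groth.Agent.S4262
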