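import Groth.Statements.S4272
import Groth.Agent.S1500
import Groth.Agent.S1572
import Groth.Agent.S1109
import Groth.Agent.S2337

set_option autoImplicit false
universe u
open CategoryTheory CategoryTheory.Limits AlgebraicGeometry
attribute [local instance] HasDerivedCategory.standard
open KSix

namespace Groth.Agent.S4272

/-- A separated Noetherian scheme whose local rings are factorial (unique factorisation domains) is
divisorial, i.e. admits an ample family of invertible modules. -/
theorem result (X : Scheme.{u}) [IsNoetherian X] [X.IsSeparated]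
    (hfact : ∀ x : X, ∃ _ : IsDomain (X.presheaf.stalk x), UniqueFactorizationMonoid (X.presheaf.stalk x)) :
    MoreMor.HasAmpleFamily X := by
  choose U hxU hU hd using fun x : X => Groth.Agent.S1109.exists_dense_affine X x
  choose D hD hDU using fun x : X => Groth.Agent.S1572.result X (U x) (hU x) (hd x)
    (fun y _ => ⟨(hfact y).1, (hfact y).2⟩)
  obtain ⟨s, hs⟩ := isCompact_univ.elim_finite_subcover (fun x : X => (U x : Set X))
    (fun x => (U x).isOpen) (fun x _ => Set.mem_iUnion.2 ⟨x, hxU x⟩)
  let e := s.equivFin
  refine Groth.Agent.S1500.result (m := s.card) (fun i => D (e.symm i)) (fun i => hD _) ?_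
    (fun _ => Coh.structureModule X) (fun _ => Groth.Agent.Fdesc.LocGen.isInvertible_structureModule) ?_
  · rw [Set.eq_empty_iff_forall_notMem]
    intro y hy
    obtain ⟨x, hx, hyx⟩ : ∃ x ∈ s, y ∈ U x := by simpa using hs (Set.mem_univ y)
    have h1 := Set.mem_iInter.1 hy (e ⟨x, hx⟩)
    rw [Equiv.symm_apply_apply, hDU] at h1
    exact h1 hyx
  · intro i
    have h1 : (D (e.symm i)).support.compl = U (e.symm i) := by
      ext y
      have := congrArg (fun T : Set X => y ∈ Tᶜ) (hDU (e.symm i))
      simpa using this
    rw [h1, Groth.Agent.S2337.isAmple_restrict_iff]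
    have : IsAffine (U (e.symm i) : Scheme.{u}) := hU _
    infer_instance

end Groth.Agent.S4272
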