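import Groth.Statements.S4302
import Groth.Agent.Pic13.H968.Push
import Groth.Agent.Pic13.H561.ProjAmp
import Groth.Agent.S0922

set_option autoImplicit false
universe u
open CategoryTheory CategoryTheory.Limits AlgebraicGeometry
attribute [local instance] HasDerivedCategory.standard
open KSix

namespace Groth.Agent.S4302

/-- Over an affine base Y, through the embedding criterion for perfect amplitude: let i : X ⟶ P^r_Y be a
closed immersion with Y affine, f : X ⟶ Y the composite with the projection, and E a bounded object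
of D(O_X) such that Ri_*E has perfect amplitude in [a, b] on P^r_Y. Assuming the derived functors
exist, Rf_*E has perfect amplitude in [a, b + r] on Y (r bounds the cohomological dimension of f on
quasi-coherent modules). -/
theorem result {X Y : Scheme.{u}} [IsAffine Y] (r : ℕ)
    (i : X ⟶ CohB1.ProjSpaceOver r Y) [IsClosedImmersion i]
    [DCoh.HasRpush i] [DCoh.HasRpush (i ≫ CohB1.ProjSpaceOver.toBase r Y)]
    (E : DCoh.D X) (a₀ b₀ : ℤ) [E.IsGE a₀] [E.IsLE b₀] (a b : ℤ)
    (hE : KSix.HasPerfectAmplitudeIn a b ((DCoh.Rpush i).obj E)) :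
    KSix.HasPerfectAmplitudeIn a (b + r) ((DCoh.Rpush (i ≫ CohB1.ProjSpaceOver.toBase r Y)).obj E) := by
  have hR := Groth.Agent.Dcoh.DerSch.hasRpush (CohB1.ProjSpaceOver.toBase r Y)
  have := Groth.Agent.Dix.ProjProper.isProper_toBase r Y
  have := Groth.Agent.Pic13.H561.ProjAmp.flat_toBase r Y
  have := Groth.Agent.Pic13.H561.ProjAmp.locallyOfFinitePresentation_toBase r Y
  obtain ⟨e⟩ := Groth.Agent.S0922.result i (CohB1.ProjSpaceOver.toBase r Y)
  have hpc : ∀ m : ℤ, DCoh.IsPseudoCoherentD m ((DCoh.Rpush i).obj E) := fun m =>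
    Groth.Agent.Dcoh.LocalD.isPseudoCoherentD_of_isPerfect m (Groth.Agent.Pic13.H968.Amp.isPerfect hE)
  have hLE : ((DCoh.Rpush (CohB1.ProjSpaceOver.toBase r Y)).obj ((DCoh.Rpush i).obj E)).IsLE (b + r) :=
    Groth.Agent.Pic13.H561.ProjAmp.isLE_Rpush_toBase Y r _
      (Groth.Agent.PerfA.PCohQCoh.isQCohD_of_isPseudoCoherentD hpc) b
      (Groth.Agent.Pic13.H968.Amp.isLE hE)
  exact Groth.Agent.Pic13.H968.Amp.of_iso (e.app E)
    (Groth.Agent.Pic13.H968.Push.Rpush (CohB1.ProjSpaceOver.toBase r Y) _ a b (b + r) hE hLE)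

end Groth.Agent.S4302
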