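import Groth.Statements.S4303
import Groth.Agent.Pic13.H969.Bridge
import Groth.Agent.Pic13.H969.IntBound

set_option autoImplicit false
universe u
open CategoryTheory CategoryTheory.Limits AlgebraicGeometry
open Pic13

namespace Groth.Agent.S4303

open Groth.Agent.Grpsch.PicGrp Groth.Agent.Pic13.H138.Slice Groth.Agent.Pic13.H969

/-- (i) implies (iii), over S = Spec k with k algebraically closed: let X be a proper integral k-scheme
of dimension r = s + 2 ≥ 2 carrying an ample invertible module H with inverse H', and P a family of
invertible O_X-modules. Condition (iii): as L runs through P (with inverse L'), the degree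
(c₁(L)·c₁(H)^{r-1}) stays bounded and (c₁(L)²·c₁(H)^{r-2}) stays bounded below; condition (i): P is
bounded. Intersection numbers are those of FGA.intNum, taking the inverse modules as arguments. -/
theorem result (k : Type u) [Field k] [IsAlgClosed k] (X : Scheme.{u})
    [X.Over (Spec (CommRingCat.of k))] [IsProper (X ↘ Spec (CommRingCat.of k))] [IsIntegral X] (s : ℕ)
    (hdim : topologicalKrullDim X = (s + 2 : ℕ)) (H H' : X.Modules) (hH : CohB1.IsAmple H)
    (hHH' : Nonempty (CohB1.tensorMod H H' ≅ Coh.structureModule X))
    (P : X.Modules → Prop) (hP : ∀ L, P L → PicF.IsInvertible L)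
    (hb : Pic13.IsBounded k X P) :
    ∃ B : ℤ, ∀ L L' : X.Modules, P L → Nonempty (CohB1.tensorMod L L' ≅ Coh.structureModule X) →
      |FGA.intNum k X (s + 2) (Matrix.vecCons L' (fun _ : Fin (s + 1) => H')) (Coh.structureModule X)| ≤ B ∧
      -B ≤ FGA.intNum k X (s + 2) (Matrix.vecCons L' (Matrix.vecCons L' (fun _ : Fin s => H'))) (Coh.structureModule X) := by
  obtain ⟨T, q, hlft, hqc, c, hc⟩ := Bridge.bridge k X P hb
  have hH' : PicF.IsInvertible H' := ChiCl.isInvertible_of_tensor_iso hH.1 hHH'
  let h' : Pic (Pic13.prodK k X q) := pull (pullback.fst _ _) (mk H' hH')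
  obtain ⟨B₁, hB₁⟩ := IntBound.exists_bound_intNum k X q
    (Matrix.vecCons c⁻¹ (fun _ : Fin (s + 1) => h')) (s + 2)
  obtain ⟨B₂, hB₂⟩ := IntBound.exists_bound_intNum k X q
    (Matrix.vecCons c⁻¹ (Matrix.vecCons c⁻¹ (fun _ : Fin s => h'))) (s + 2)
  refine ⟨max B₁ B₂, fun L L' hL hLL' => ?_⟩
  have hLi := hP L hL
  have hL' : PicF.IsInvertible L' := ChiCl.isInvertible_of_tensor_iso hLi hLL'
  obtain ⟨t, ht, e⟩ := hc (mk L hLi) ⟨L, hLi, hL, rfl⟩
  have eL : mk L' hL' = fibCl k X q t ht c⁻¹ := by
    rw [map_inv, e, ChiCl.mk_inverse hLi hL' hLL']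
  have eH : mk H' hH' = fibCl k X q t ht h' := (fibCl_pull_fst k X q t ht _).symm
  constructor
  · refine (hB₁ t ht _ (fun i => ?_) (fun i => ?_)).trans (le_max_left _ _)
    · induction i using Fin.cases with
      | zero => exact hL'
      | succ i => exact hH'
    · induction i using Fin.cases with
      | zero => exact eL
      | succ i => exact eH
  · refine (neg_le_neg (le_max_right B₁ B₂)).trans
      (neg_le_of_abs_le (hB₂ t ht _ (fun i => ?_) (fun i => ?_)))
    · induction i using Fin.cases with
      | zero => exact hL'
      | succ i =>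
        induction i using Fin.cases with
        | zero => exact hL'
        | succ i => exact hH'
    · induction i using Fin.cases with
      | zero => exact eL
      | succ i =>
        induction i using Fin.cases with
        | zero => exact eL
        | succ i => exact eH

end Groth.Agent.S4303
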