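import Groth.Statements.S4312
import Groth.Agent.Gaga.H978.FullFaith

set_option autoImplicit false
open CategoryTheory AlgebraicGeometry Topology TopologicalSpace
open An

namespace Groth.Agent.S4312

/-- For X and Y proper over ℂ with X reduced (associated analytic spaces modelled by ℂ-points with the
sheaves of holomorphic functions; for X reduced, morphisms X → Y and holomorphic maps both only see
Y through its reduction): the functor X ↦ X^an is fully faithful, i.e. (a) the map on ℂ-points of a
morphism over ℂ is holomorphic (holomorphic functions pull back to holomorphic functions), (b) two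
morphisms X → Y over ℂ inducing the same map X(ℂ) → Y(ℂ) are equal, and (c) every holomorphic map
X(ℂ) → Y(ℂ) is induced by a morphism X → Y over ℂ. -/
theorem result (X Y : Scheme.{0}) [X.Over An.SC] [Y.Over An.SC]
    [IsReduced X] [IsProper (X ↘ An.SC)] [IsProper (Y ↘ An.SC)] :
    (∀ (f : X ⟶ Y) [f.IsOver An.SC], An.IsHolMap (An.Pts.mapC f)) ∧
    (∀ (f g : X ⟶ Y) [f.IsOver An.SC] [g.IsOver An.SC], An.Pts.mapC f = An.Pts.mapC g → f = g) ∧
    (∀ φ : C(An.Pts X, An.Pts Y), An.IsHolMap φ →
      ∃ (f : X ⟶ Y) (_ : f.IsOver An.SC), An.Pts.mapC f = φ) := by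
  refine ⟨fun f _ => Groth.Agent.Gaga.H978.FullFaith.isHolMap_mapC f, fun f g _ _ h => ?_,
    fun φ hφ => Groth.Agent.Gaga.H978.FullFaith.exists_hom φ hφ⟩
  exact Groth.Agent.Gaga.H978.FullFaith.hom_ext_of_pts f g fun a => congrArg (fun q => q a) h
end Groth.Agent.S4312
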