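import Groth.Statements.S4317
import Groth.Agent.S4314
import Groth.Agent.Gaga.H445.Core
import Groth.Agent.Gaga.H145.Noeth
import Groth.Agent.Gaga.H983.RegOf

set_option autoImplicit false
open CategoryTheory AlgebraicGeometry Topology TopologicalSpace
open An

namespace Groth.Agent.S4317

open Groth.Agent.Gaga.H445.Core in
/-- The comparison map on stalks is flat. -/
theorem flat_stalk (X : Scheme.{0}) [X.Over An.SC] [LocallyOfFiniteType (X ↘ An.SC)] [IsReduced X]
    (x : An.Pts X) : (PresheafedSpace.Hom.stalkMap (An.anToScheme X) x).hom.Flat := by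
  have h := Groth.Agent.S4314.result X x
  have hN := Groth.Agent.Gaga.H145.Noeth.isNoetherianRing_stalk (X := X) x
  have hX : IsLocallyNoetherian X := LocallyOfFiniteType.isLocallyNoetherian (X ↘ An.SC)
  have hA : IsNoetherianRing (X.presheaf.stalk x.pt) := inferInstance
  have hL : IsLocalRing ((An.anSpace X).presheaf.stalk x) :=
    IsLocalRing.of_unique_max_ideal ⟨_, h.1.1, fun I hI => h.1.2 I hI⟩
  let _ : Algebra (X.presheaf.stalk x.pt) ((An.anSpace X).presheaf.stalk x) :=
    (PresheafedSpace.Hom.stalkMap (An.anToScheme X) x).hom.toAlgebra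
  have hm : (IsLocalRing.maximalIdeal (X.presheaf.stalk x.pt)).map
      (PresheafedSpace.Hom.stalkMap (An.anToScheme X) x).hom =
      IsLocalRing.maximalIdeal ((An.anSpace X).presheaf.stalk x) :=
    (h.1.2 (IsLocalRing.maximalIdeal _) inferInstance).symm
  have hS : SameCpl (X.presheaf.stalk x.pt) ((An.anSpace X).presheaf.stalk x) := by
    refine ⟨hm, fun n b => ?_, fun n a ha => ?_⟩
    · obtain ⟨a, ha⟩ := (h.2 n).1 b
      refine ⟨a, ?_⟩
      have h1 := neg_mem ha
      rw [neg_sub] at h1
      rw [← hm]
      exact h1
    · refine (h.2 n).2 a ?_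
      rw [← hm] at ha
      exact ha
  exact hS.flat

/-- Let X be a reduced scheme locally of finite type over ℂ and x a ℂ-point of X, and write O_{X^an,x}
for the ring of germs of holomorphic functions at x on X(ℂ). Then O_{X,x} is a regular local ring if
and only if O_{X^an,x} is. The published statement is global (X has the property if and only if its
associated analytic space does); it is stated here pointwise, comparing the two local rings at a
single ℂ-point. -/
theorem result (X : Scheme.{0}) [X.Over An.SC] [LocallyOfFiniteType (X ↘ An.SC)] [IsReduced X] (x : An.Pts X) :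
    IsRegularLocalRing ↑(X.presheaf.stalk x.pt) ↔ IsRegularLocalRing ↑((An.anSpace X).presheaf.stalk x) := by
  have h := Groth.Agent.S4314.result X x
  exact Groth.Agent.Gaga.H983.RegOf.isRegularLocalRing_iff_of X x (flat_stalk X x) h.1.1
    (fun I hI => h.1.2 I hI) (Groth.Agent.Gaga.H145.Noeth.isNoetherianRing_stalk (X := X) x)

end Groth.Agent.S4317
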