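-- Proof of statement S4326.
import Groth.Statements.S4326
import Groth.Agent.EtSix.H42.Pairing
import Groth.Agent.Sga4B.PkgB

set_option autoImplicit false
universe u
open CategoryTheory CategoryTheory.Limits AlgebraicGeometry Opposite
attribute [local instance] HasDerivedCategory.standard
open EtSix

namespace Groth.Agent.S4326

/-- Poincaré duality for a proper morphism, written as the Yoneda pairing: let k be an algebraically
closed field, X a connected scheme with a proper morphism f : X -> Spec k that is smooth of relative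
dimension d, n an integer that is nonzero in k, Λ = Z/n, μ a sheaf of Λ-modules on the small etale
site of X whose underlying abelian sheaf is μ_n, and T = Λ(d) = μ^{⊗ d}. Let F be a sheaf of
Λ-modules on the small etale site of X and i ≤ 2d. Then the map sending x in Ext^{2d-i}(F, T) to the
homomorphism H^i(X, F) = Ext^i(Λ_X, F) -> Ext^{2d}(Λ_X, T) = H^{2d}(X, T), a ↦ a · x (Yoneda
composite), is bijective; all Ext groups are taken in the category of sheaves of Λ-modules. The
published formula is H^{2d-i}(X, RHom(F, Λ)(d)) ≅ Hom(H^i_c(X, F), Λ); here H_c = H since f is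
proper, the duality map is written as the Yoneda pairing, and its target Λ is replaced by H^{2d}(X,
T), to which the trace map identifies it when X is connected. The connectedness of X is an added
hypothesis, not in the published statement; it is what this form needs, since for disconnected X the
group H^{2d}(X, T) is a product of copies of Λ over the connected components. -/
theorem result (k : Type u) [Field k] [IsAlgClosed k] {X : Scheme.{u}}
    [ConnectedSpace ↥X] (f : X ⟶ Spec (CommRingCat.of k)) [IsProper f] (d : ℕ) [SmoothOfRelativeDimension d f]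
    (n : ℕ) (hn : (n : k) ≠ 0) (μ : EtModW.Mod (ULift.{u + 1} (ZMod n)) X) (hμ : EtModD.IsKummer n μ)
    (F : EtModW.Mod (ULift.{u + 1} (ZMod n)) X) (i : ℕ) (hi : i ≤ 2 * d) :
    Function.Bijective (fun x : Abelian.Ext.{u + 1} F (EtModD.tate μ d) (2 * d - i) =>
      x.postcomp (EtSix.constΛ (ULift.{u + 1} (ZMod n)) X) (Nat.add_sub_of_le hi)) := by
  have hn0 : 0 < n := Nat.pos_of_ne_zero fun h => hn (by rw [h, Nat.cast_zero])
  have hsm : SmoothOfRelativeDimension d (𝟙 X ≫ f) := by
    rw [Category.id_comp]; infer_instance
  have h := Groth.Agent.EtSix.H42.Pairing.bijective_of_functor f (𝟙 X) d n hn0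
    (Groth.Agent.Sga4B.PkgB.pkg k n hn d) (𝟭 (EtModW.Mod (ULift.{u + 1} (ZMod n)) X))
    (Functor.leftUnitor _ ≪≫ Groth.Agent.Sga4h.BidGlobPkg.tauIso n X) (EtModD.tate μ d)
    (Groth.Agent.EtSix.H42.TateK.nonempty_iso_tate k hn f μ hμ d) F (Nat.add_sub_of_le hi)
  have h2 : (fun x : Abelian.Ext.{u + 1} F (EtModD.tate μ d) (2 * d - i) =>
      x.postcomp (EtSix.constΛ (ULift.{u + 1} (ZMod n)) X) (Nat.add_sub_of_le hi)) =
      (fun x => ((𝟭 (EtModW.Mod (ULift.{u + 1} (ZMod n)) X)).mapExtAddHom F (EtModD.tate μ d)
        (2 * d - i) x).postcomp (EtSix.constΛ (ULift.{u + 1} (ZMod n)) X)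
          (Nat.add_sub_of_le hi)) := by
    funext x
    exact congrArg (fun y => Abelian.Ext.postcomp y (EtSix.constΛ (ULift.{u + 1} (ZMod n)) X)
      (Nat.add_sub_of_le hi)) (Groth.Agent.Etcore.ExtAdj.mapExactFunctor_id x).symm
  rw [h2]
  exact h

end Groth.Agent.S4326
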