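-- Proof of statement S4327.
import Groth.Statements.S4327
import Groth.Agent.EtSix.H42.Pairing
import Groth.Agent.Sga4B.PkgB

set_option autoImplicit false
universe u
open CategoryTheory CategoryTheory.Limits AlgebraicGeometry Opposite
attribute [local instance] HasDerivedCategory.standard
open EtSix

namespace Groth.Agent.S4327

/-- Poincare duality written as the Yoneda pairing: let k be an algebraically closed field, P a scheme
with a proper morphism a : P -> Spec k, j : X -> P an open immersion with X connected and j ≫ a
smooth of relative dimension d, n an integer that is nonzero in k, Λ = Z/n, μ a sheaf of Λ-modules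
on the small etale site of X whose underlying abelian sheaf is μ_n, and T = Λ(d). Cohomology with
proper support of a sheaf G of Λ-modules on X is H^i_c(X, G) = H^i(P, j_! G) = Ext^i(Λ_P, j_! G).
Let F be a sheaf of Λ-modules on the small etale site of X and i ≤ 2d. Then the map sending x in
Ext^{2d-i}_X(F, T) to the homomorphism H^i_c(X, F) -> H^{2d}_c(X, T), a ↦ a · j_!(x), is bijective,
where j_!(x) in Ext^{2d-i}_P(j_! F, j_! T) is the image of x under the exact functor j_! (its left
exactness is recorded as an instance hypothesis); all Ext groups are taken in categories of sheaves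
of Λ-modules. The published formula is H^{2d-i}(X, RHom(F, Λ)(d)) ≅ Hom(H^i_c(X, F), Λ); here the
duality map is written as the Yoneda pairing and its target Λ is replaced by H^{2d}_c(X, T), to
which the trace map identifies it when X is connected. The connectedness of X is an added
hypothesis, not in the published statement; it is what this form needs, since for disconnected X the
group H^{2d}_c(X, T) is a product of copies of Λ over the connected components. -/
theorem result (k : Type u) [Field k] [IsAlgClosed k] {X P : Scheme.{u}}
    [ConnectedSpace ↥X] (a : P ⟶ Spec (CommRingCat.of k)) [IsProper a] (j : X ⟶ P) [IsOpenImmersion j]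
    (d : ℕ) [SmoothOfRelativeDimension d (j ≫ a)] (n : ℕ) (hn : (n : k) ≠ 0)
    (μ : EtModW.Mod (ULift.{u + 1} (ZMod n)) X) (hμ : EtModD.IsKummer n μ)
    [PreservesFiniteLimits (EtSix.extZeroMod (ULift.{u + 1} (ZMod n)) j)]
    (F : EtModW.Mod (ULift.{u + 1} (ZMod n)) X) (i : ℕ) (hi : i ≤ 2 * d) :
    Function.Bijective (fun x : Abelian.Ext.{u + 1} F (EtModD.tate μ d) (2 * d - i) =>
      ((EtSix.extZeroMod (ULift.{u + 1} (ZMod n)) j).mapExtAddHom F (EtModD.tate μ d) (2 * d - i) x).postcomp
        (EtSix.constΛ (ULift.{u + 1} (ZMod n)) P) (Nat.add_sub_of_le hi)) := by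
  have hn0 : 0 < n := Nat.pos_of_ne_zero fun h => hn (by rw [h, Nat.cast_zero])
  exact Groth.Agent.EtSix.H42.Pairing.bijective_of_functor a j d n hn0
    (Groth.Agent.Sga4B.PkgB.pkg k n hn d) (EtSix.extZeroMod (ULift.{u + 1} (ZMod n)) j)
    (Groth.Agent.EtSix.H42.ShriekMod.extZeroAbIso (ULift.{u + 1} (ZMod n)) j) (EtModD.tate μ d)
    (Groth.Agent.EtSix.H42.TateK.nonempty_iso_tate k hn (j ≫ a) μ hμ d) F (Nat.add_sub_of_le hi)

end Groth.Agent.S4327
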