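import Groth.Statements.S4329
import Groth.Agent.Dcoh.DerComp
import Groth.Agent.Etrest.DCompEt

set_option autoImplicit false
universe u
open CategoryTheory CategoryTheory.Limits AlgebraicGeometry Opposite
attribute [local instance] HasDerivedCategory.standard
open EtSix

namespace Groth.Agent.S4329

/-- Composition of derived direct images: for the small etale sites of schemes and abelian sheaves: let
f : X -> Y and g : Y -> Z be morphisms of schemes and assume the unbounded derived direct images
Rf_*, Rg_* and R(g ∘ f)_* exist (they do; the existence is recorded as instance hypotheses). Then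
the canonical morphism R(g ∘ f)_* -> Rg_* ∘ Rf_* of functors D(X_et) -> D(Z_et), induced by (g ∘
f)_* ≅ g_* ∘ f_* through the universal property of R(g ∘ f)_* as a right derived functor, is an
isomorphism. -/
theorem result {X Y Z : Scheme.{u}} (f : X ⟶ Y) (g : Y ⟶ Z)
    [DCoh.HasRpushEt X f] [DCoh.HasRpushEt Y g] [DCoh.HasRpushEt X (f ≫ g)] :
    IsIso (EtSix.compMap f g) := by
  refine (Functor.isRightDerivedFunctor_iff_isIso_rightDerivedDesc (DCoh.RpushEt X (f ≫ g))
    ((DCoh.pushEtKh X (f ≫ g)).totalRightDerivedUnit DerivedCategory.Qh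
      (HomotopyCategory.quasiIso (EtCoh.Ab X) (ComplexShape.up ℤ)))
    (HomotopyCategory.quasiIso (EtCoh.Ab X) (ComplexShape.up ℤ))
    (DCoh.RpushEt X f ⋙ DCoh.RpushEt Y g) (EtSix.compUnit f g)).1 ?_
  refine Groth.Agent.Dcoh.DerHo.isRightDerivedFunctor_of_isIso_app
    (Groth.Agent.Etrest.DCompEt.hasKInj X) _ _ (fun I hI => ?_)
  have hJ : CochainComplex.IsKInjective
      (((EtCoh.push f).mapHomologicalComplex (.up ℤ)).obj I) :=
    Groth.Agent.Dcoh.DerComp.isKInjective_map (EtCoh.pullPushAdj f)
      (Groth.Agent.Dcoh.DerComp.acyclic_map_exact _) I hI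
  have h1 := Groth.Agent.Dcoh.DerHo.isIso_unit_app' (Groth.Agent.Etrest.DCompEt.hasKInj X)
    (DCoh.RpushEt X f) ((DCoh.pushEtKh X f).totalRightDerivedUnit DerivedCategory.Qh
        (HomotopyCategory.quasiIso (EtCoh.Ab X) (ComplexShape.up ℤ))) I hI
  have h2 := Groth.Agent.Dcoh.DerHo.isIso_unit_app' (Groth.Agent.Etrest.DCompEt.hasKInj Y)
    (DCoh.RpushEt Y g) ((DCoh.pushEtKh Y g).totalRightDerivedUnit DerivedCategory.Qh
        (HomotopyCategory.quasiIso (EtCoh.Ab Y) (ComplexShape.up ℤ))) _ hJ
  have h3 : IsIso ((DCoh.RpushEt Y g).map (((DCoh.pushEtKh X f).totalRightDerivedUnit DerivedCategory.Qh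
        (HomotopyCategory.quasiIso (EtCoh.Ab X) (ComplexShape.up ℤ))).app
          ((HomotopyCategory.quotient _ _).obj I))) := inferInstance
  have h4 : IsIso (NatTrans.mapHomotopyCategory (EtCoh.pushComp g f).inv (ComplexShape.up ℤ)) := by
    refine ⟨NatTrans.mapHomotopyCategory (EtCoh.pushComp g f).hom (ComplexShape.up ℤ), ?_, ?_⟩
    · rw [← NatTrans.mapHomotopyCategory_comp, Iso.inv_hom_id, NatTrans.mapHomotopyCategory_id]
    · rw [← NatTrans.mapHomotopyCategory_comp, Iso.hom_inv_id, NatTrans.mapHomotopyCategory_id]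
  have h5 : IsIso (((NatTrans.mapHomotopyCategory (EtCoh.pushComp g f).inv (ComplexShape.up ℤ)).app
            ((HomotopyCategory.quotient (EtCoh.Ab X) (ComplexShape.up ℤ)).obj I) ≫
          (Functor.mapHomotopyCategoryCompIso (Iso.refl (EtCoh.push f ⋙ EtCoh.push g))
            (ComplexShape.up ℤ)).inv.app
            ((HomotopyCategory.quotient (EtCoh.Ab X) (ComplexShape.up ℤ)).obj I))) :=
    IsIso.comp_isIso' (NatIso.isIso_app_of_isIso _ _) inferInstance
  dsimp only [EtSix.compUnit, NatTrans.comp_app, Functor.whiskerRight_app, Functor.whiskerLeft_app,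
    Functor.associator_hom_app, Functor.associator_inv_app]
  refine IsIso.comp_isIso' (Functor.map_isIso _ _) (IsIso.comp_isIso' inferInstance
    (IsIso.comp_isIso' h2 (IsIso.comp_isIso' inferInstance (IsIso.comp_isIso' h3 inferInstance))))

end Groth.Agent.S4329
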